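import Groth.Agent.FTorsLib.Formal
import Groth.Agent.PullFlatStalk.Completion
import Groth.Agent.Adic.ComplAlong
import Groth.Prelude.Def_FTors3

/-!
# Opens and ideals of the completion of a locally Noetherian scheme
-/

set_option autoImplicit false
set_option backward.isDefEq.respectTransparency.types false

universe u

open CategoryTheory CategoryTheory.Limits Opposite TopologicalSpace AlgebraicGeometry ModSite

namespace Groth.Agent.FTorsLib.Compl

open Groth.Agent.PullFlatStalk (complSharp preU)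
open Groth.Agent.FFormal (Rg pr)

variable {X : Scheme.{u}} {𝓘 : X.IdealSheafData} (hX : (FSch.completionAlong X 𝓘).IsFormal)

/-- The map of sections of the structure sheaves. -/
noncomputable abbrev cs (W : X.Opens) : Γ(X, W) →+* Rg hX (preU X 𝓘 W) :=
  ((complSharp X 𝓘 hX).hom.app (op W)).hom

/-- The map of sections to a level. -/
noncomputable abbrev lev (n : ℕ) (W : X.Opens) : Γ(X, W) →+* FFormal.B hX n (preU X 𝓘 W) :=
  ((FSch.schLevel (FSch.completionAlong X 𝓘) hX (FSch.completionToX X 𝓘) (FSch.completionToX_comm X 𝓘) n).hom.app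
    (op W)).hom

theorem pr_cs (n : ℕ) (W : X.Opens) (b : Γ(X, W)) : pr hX n (preU X 𝓘 W) (cs hX W b) = lev hX n W b :=
  congrArg (fun s => (s.hom.app (op W)).hom b)
    (FSch.schSharp_proj (FSch.completionAlong X 𝓘) hX (FSch.completionToX X 𝓘) (FSch.completionToX_comm X 𝓘) n)

theorem lev_surjective_ker (n : ℕ) (W : X.affineOpens) :
    Function.Surjective (lev hX n W.1) ∧ RingHom.ker (lev hX n W.1) = 𝓘.ideal W ^ (n + 1) := by
  obtain ⟨h1, h2⟩ := PullFlatStalk.surjective_and_ker (𝓘 ^ (n + 1)) W _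
    (FSch.lvU_p _ hX _ (FSch.completionToX_comm X 𝓘) n W.1).ge
    (FSch.lvU_p _ hX _ (FSch.completionToX_comm X 𝓘) n W.1)
  refine ⟨h1, h2.trans ?_⟩
  rw [Scheme.IdealSheafData.ideal_pow, Pi.pow_apply]

instance isClosedImmersion_toX (n : ℕ) : IsClosedImmersion (FSch.completionToX X 𝓘 n) :=
  inferInstanceAs (IsClosedImmersion (𝓘 ^ (n + 1)).subschemeι)

theorem isAffineOpen_preU (W : X.affineOpens) : IsAffineOpen (preU X 𝓘 W.1) :=
  W.2.preimage _

variable [IsLocallyNoetherian X]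

include hX in
/-- The kernel of the projection to a level is generated by the powers of the ideal. -/
theorem ker_pr_preU (n : ℕ) (W : X.affineOpens) :
    RingHom.ker (pr hX n (preU X 𝓘 W.1)) = (𝓘.ideal W ^ (n + 1)).map (cs hX W.1) := by
  have hN := Adic.ComplAlong.isLocNoethFormal (X := X) 𝓘
  have hU := isAffineOpen_preU (𝓘 := 𝓘) W
  let J := FFormal.I hX (preU X 𝓘 W.1)
  let I' := (𝓘.ideal W).map (cs hX W.1)
  haveI := FFormal.isNoetherianRing hX hN hU
  haveI := FFormal.isAdicComplete hX hN hU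
  have hle : I' ≤ J := Ideal.map_le_iff_le_comap.2 fun b hb => by
    rw [Ideal.mem_comap, show J = RingHom.ker (pr hX 0 _) from rfl, RingHom.mem_ker, pr_cs, ← RingHom.mem_ker,
      (lev_surjective_ker hX 0 W).2, zero_add, pow_one]
    exact hb
  have hsup : J ≤ I' ⊔ J • J := fun a ha => by
    obtain ⟨b, hb⟩ := (lev_surjective_ker hX 1 W).1 (pr hX 1 (preU X 𝓘 W.1) a)
    have hb0 : b ∈ 𝓘.ideal W := by
      have h := (lev_surjective_ker hX 0 W).2
      rw [zero_add, pow_one] at h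
      rw [← h, RingHom.mem_ker, ← pr_cs, ← FFormal.uk_pr hX 0, pr_cs, hb, FFormal.uk_pr]
      exact ha
    rw [← add_sub_cancel (cs hX W.1 b) a]
    refine Submodule.add_mem_sup (Ideal.mem_map_of_mem _ hb0) ?_
    rw [smul_eq_mul, ← pow_two, ← FFormal.ker_pr hX hN hU 1, RingHom.mem_ker, map_sub, pr_cs, hb, sub_self]
  have hJ : J = I' := le_antisymm (Submodule.le_of_le_smul_of_le_jacobson_bot (IsNoetherian.noetherian J)
    (IsAdicComplete.le_jacobson_bot J) hsup) hle
  rw [FFormal.ker_pr hX hN hU n, Ideal.map_pow]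
  exact congrArg (· ^ (n + 1)) hJ

include hX in
/-- Every section of the completion is congruent to one of the scheme modulo any open ideal. -/
theorem exists_approx (n : ℕ) (W : X.affineOpens) (a : Rg hX (preU X 𝓘 W.1)) :
    ∃ b : Γ(X, W.1), a - cs hX W.1 b ∈ RingHom.ker (pr hX n (preU X 𝓘 W.1)) := by
  obtain ⟨b, hb⟩ := (lev_surjective_ker hX n W).1 (pr hX n (preU X 𝓘 W.1) a)
  exact ⟨b, by rw [RingHom.mem_ker, map_sub, pr_cs, hb, sub_self]⟩

omit [IsLocallyNoetherian X]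

theorem mem_powIdeal_affine (n : ℕ) (W : X.affineOpens) (b : X.sheaf.obj.obj (op W.1)) :
    b ∈ (FTors.powIdealFam X 𝓘).ideal n W.1 ↔ (show Γ(X, W.1) from b) ∈ 𝓘.ideal W ^ n := by
  rw [FTors.mem_powIdealFam_iff]
  constructor
  · intro h
    have := h W le_rfl
    rwa [show X.presheaf.map (homOfLE (le_refl W.1)).op = 𝟙 _ from X.presheaf.map_id _] at this
  · intro h V hV
    have e := Ideal.mem_map_of_mem (X.presheaf.map (homOfLE hV).op).hom h
    exact (le_of_eq ((Ideal.map_pow _ _ _).trans (congrArg (· ^ n) (𝓘.map_ideal hV)))) e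

/-- The greatest open of the scheme with a given trace on the completion. -/
noncomputable def extOpen (V : ((FSch.completionAlong X 𝓘).X 0).Opens) : X.Opens :=
  ⟨((FSch.completionToX X 𝓘 0) '' (↑V : Set _)ᶜ)ᶜ,
    ((FSch.completionToX X 𝓘 0).isClosedEmbedding.isClosedMap _ V.2.isClosed_compl).isOpen_compl⟩

theorem preU_extOpen (V : ((FSch.completionAlong X 𝓘).X 0).Opens) : preU X 𝓘 (extOpen V) = V := by
  ext x
  change x ∈ _ ⁻¹' (_ '' _)ᶜ ↔ _
  rw [Set.preimage_compl, Set.preimage_image_eq _ (FSch.completionToX X 𝓘 0).isClosedEmbedding.injective, compl_compl]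

theorem extOpen_mono {V V' : ((FSch.completionAlong X 𝓘).X 0).Opens} (h : V' ≤ V) : extOpen V' ≤ extOpen V :=
  fun _ hx hy => hx (Set.image_mono (Set.compl_subset_compl.2 h) hy)

theorem le_extOpen {W : X.Opens} {V : ((FSch.completionAlong X 𝓘).X 0).Opens} (h : preU X 𝓘 W ≤ V) :
    W ≤ extOpen V := by
  rintro _ hy ⟨x, hx, rfl⟩
  exact hx (h hy)

/-- Affine opens of the scheme with traces inside a given open form a neighbourhood basis. -/
theorem exists_affine_nhd {x : (FSch.completionAlong X 𝓘).X 0}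
    {V : ((FSch.completionAlong X 𝓘).X 0).Opens} (hx : x ∈ V) {U : X.Opens}
    (hxU : FSch.completionToX X 𝓘 0 x ∈ U) :
    ∃ W : X.affineOpens, FSch.completionToX X 𝓘 0 x ∈ W.1 ∧ W.1 ≤ U ∧ preU X 𝓘 W.1 ≤ V := by
  have hx' : x ∈ preU X 𝓘 (extOpen V) := by rw [preU_extOpen]; exact hx
  obtain ⟨W, hW, hxW, hle⟩ := exists_isAffineOpen_mem_and_subset (x := FSch.completionToX X 𝓘 0 x)
    (U := U ⊓ extOpen V) ⟨hxU, hx'⟩
  refine ⟨⟨W, hW⟩, hxW, fun y hy => (hle hy).1, fun y hy => ?_⟩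
  have h : y ∈ preU X 𝓘 (extOpen V) := (hle hy).2
  rwa [preU_extOpen] at h

/-- Outside the closed subset there are affine opens with empty trace on which the ideal is the unit ideal. -/
theorem exists_affine_away {y : X} (hy : y ∉ Set.range (FSch.completionToX X 𝓘 0)) {U : X.Opens} (hyU : y ∈ U) :
    ∃ W : X.affineOpens, y ∈ W.1 ∧ W.1 ≤ U ∧ preU X 𝓘 W.1 = ⊥ ∧ ∀ n, (1 : Γ(X, W.1)) ∈ 𝓘.ideal W ^ n := by
  obtain ⟨W, hW, hyW, hle⟩ := exists_isAffineOpen_mem_and_subset (x := y)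
    (U := U ⊓ ⟨(Set.range (FSch.completionToX X 𝓘 0))ᶜ,
      (FSch.completionToX X 𝓘 0).isClosedEmbedding.isClosed_range.isOpen_compl⟩) ⟨hyU, hy⟩
  have hbot : preU X 𝓘 W = ⊥ := by
    ext x
    exact ⟨fun hx => ((hle hx).2 ⟨x, rfl⟩).elim, fun hx => hx.elim⟩
  refine ⟨⟨W, hW⟩, hyW, fun z hz => (hle hz).1, hbot, fun n => ?_⟩
  have h1 : (1 : Γ(X, W)) ∈ (FSch.completionToX X 𝓘 0).ker.ideal ⟨W, hW⟩ := by
    rw [Scheme.Hom.ker_apply, RingHom.mem_ker]
    haveI : Subsingleton Γ((FSch.completionAlong X 𝓘).X 0, preU X 𝓘 W) := by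
      rw [hbot]
      exact CommRingCat.subsingleton_of_isTerminal
        (TopCat.Sheaf.isTerminalOfEmpty ((FSch.completionAlong X 𝓘).X 0).sheaf)
    exact Subsingleton.elim _ _
  rw [show (FSch.completionToX X 𝓘 0).ker = 𝓘 ^ (0 + 1) from Scheme.IdealSheafData.ker_subschemeι _,
    zero_add, pow_one] at h1
  rw [(Ideal.eq_top_iff_one _).2 h1, Ideal.top_pow]
  trivial

end Groth.Agent.FTorsLib.Compl
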