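import Groth.Agent.DRing.PointHom.Adj
import Groth.Agent.DTrunc.CohIn

/-!
# Derived adjunctions of exact functors: when unit and counit are isomorphisms
-/

set_option autoImplicit false
set_option backward.isDefEq.respectTransparency.types false

universe w w' v v' t t'

open CategoryTheory CategoryTheory.Limits DerivedCategory

namespace Groth.Agent.FTorsLib

open Groth.Agent.DRing.PointHom (derAdj)

variable {A : Type t} [Category.{v} A] [Abelian A] [HasDerivedCategory.{w} A]
  {B : Type t'} [Category.{v'} B] [Abelian B] [HasDerivedCategory.{w'} B]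
  {L : A ⥤ B} [L.Additive] [PreservesFiniteLimits L] [PreservesFiniteColimits L]
  {R : B ⥤ A} [R.Additive] [PreservesFiniteLimits R] [PreservesFiniteColimits R] (adj : L ⊣ R)

omit [HasDerivedCategory.{w} A] in
/-- A natural transformation of exact functors which is invertible on homology gives a quasi-isomorphism. -/
theorem quasiIso_mapHomologicalComplex_app {F G : A ⥤ A} [F.Additive] [G.Additive] [F.PreservesHomology]
    [G.PreservesHomology] (τ : F ⟶ G) (K : CochainComplex A ℤ) (h : ∀ i, IsIso (τ.app (K.homology i))) :
    QuasiIso ((NatTrans.mapHomologicalComplex τ (ComplexShape.up ℤ)).app K) := by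
  refine ⟨fun i => ?_⟩
  rw [quasiIsoAt_iff_isIso_homologyMap]
  change IsIso (ShortComplex.homologyMap ((K.sc i).mapNatTrans τ))
  have e := NatTrans.app_homology τ (K.sc i)
  rw [← Category.assoc] at e
  haveI : IsIso (τ.app (K.sc i).homology) := h i
  rw [e] at this
  haveI := this
  haveI : IsIso (((K.sc i).mapHomologyIso F).inv ≫ ShortComplex.homologyMap ((K.sc i).mapNatTrans τ)) :=
    IsIso.of_isIso_comp_right _ ((K.sc i).mapHomologyIso G).hom
  exact IsIso.of_isIso_comp_left ((K.sc i).mapHomologyIso F).inv _

/-- The unit of the derived adjunction is an isomorphism at objects on whose homology the unit is one. -/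
theorem isIso_derAdj_unit (E : DerivedCategory A)
    (h : ∀ i, IsIso (adj.unit.app ((homologyFunctor A i).obj E))) : IsIso ((derAdj adj).unit.app E) := by
  obtain ⟨K, ⟨e⟩⟩ : ∃ K : CochainComplex A ℤ, Nonempty (Q.obj K ≅ E) :=
    ⟨_, ⟨Q.objObjPreimageIso E⟩⟩
  let P := (HomotopyCategory.quotient A (ComplexShape.up ℤ)).obj K
  let e' : Qh.obj P ≅ E := (quotientCompQhIso A).app K ≪≫ e
  rw [← NatTrans.isIso_app_iff_of_iso (derAdj adj).unit e']
  have hK : ∀ i, IsIso (adj.unit.app (K.homology i)) := fun i =>
    (NatTrans.isIso_app_iff_of_iso adj.unit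
      (((homologyFunctorFactors A i).app K).symm ≪≫ (homologyFunctor A i).mapIso e)).2 (h i)
  let φ : K ⟶ (R.mapHomologicalComplex (ComplexShape.up ℤ)).obj ((L.mapHomologicalComplex (ComplexShape.up ℤ)).obj K) :=
    { f := fun n => adj.unit.app (K.X n)
      comm' := fun i j _ => (adj.unit.naturality (K.d i j)).symm }
  have hτ : QuasiIso ((NatTrans.mapHomologicalComplex adj.unit (ComplexShape.up ℤ)).app K) :=
    quasiIso_mapHomologicalComplex_app adj.unit K hK
  haveI : QuasiIso φ := by
    have e1 : (NatTrans.mapHomologicalComplex adj.unit (ComplexShape.up ℤ)).app K =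
        (Functor.mapHomologicalComplexIdIso A (ComplexShape.up ℤ)).hom.app K ≫ φ := by
      ext n
      simp [φ]
      exact (Category.id_comp _).symm
    rw [e1] at hτ
    exact @quasiIso_of_comp_left _ _ _ _ _ _ _ _ ((Functor.mapHomologicalComplexIdIso A (ComplexShape.up ℤ)).hom.app K) φ
      _ _ _ inferInstance hτ
  haveI hQ : IsIso (Qh.map ((HomotopyCategory.quotient A (ComplexShape.up ℤ)).map φ)) :=
    (NatIso.isIso_map_iff (quotientCompQhIso A) φ).2 inferInstance
  unfold Groth.Agent.DRing.PointHom.derAdj
  rw [Adjunction.localization_unit_app]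
  haveI : IsIso (Qh.map ((DRing.DerivedAdj.mapHomotopyCategoryAdj adj).unit.app P)) := hQ
  infer_instance

/-- The counit of the derived adjunction is an isomorphism at objects on whose homology the counit is one. -/
theorem isIso_derAdj_counit (E : DerivedCategory B)
    (h : ∀ i, IsIso (adj.counit.app ((homologyFunctor B i).obj E))) : IsIso ((derAdj adj).counit.app E) := by
  obtain ⟨K, ⟨e⟩⟩ : ∃ K : CochainComplex B ℤ, Nonempty (Q.obj K ≅ E) :=
    ⟨_, ⟨Q.objObjPreimageIso E⟩⟩
  let P := (HomotopyCategory.quotient B (ComplexShape.up ℤ)).obj K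
  let e' : Qh.obj P ≅ E := (quotientCompQhIso B).app K ≪≫ e
  rw [← NatTrans.isIso_app_iff_of_iso (derAdj adj).counit e']
  have hK : ∀ i, IsIso (adj.counit.app (K.homology i)) := fun i =>
    (NatTrans.isIso_app_iff_of_iso adj.counit
      (((homologyFunctorFactors B i).app K).symm ≪≫ (homologyFunctor B i).mapIso e)).2 (h i)
  let φ : (L.mapHomologicalComplex (ComplexShape.up ℤ)).obj ((R.mapHomologicalComplex (ComplexShape.up ℤ)).obj K) ⟶ K :=
    { f := fun n => adj.counit.app (K.X n)
      comm' := fun i j _ => (adj.counit.naturality (K.d i j)).symm }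
  have hτ : QuasiIso ((NatTrans.mapHomologicalComplex adj.counit (ComplexShape.up ℤ)).app K) :=
    quasiIso_mapHomologicalComplex_app adj.counit K hK
  haveI : QuasiIso φ := by
    have e1 : (NatTrans.mapHomologicalComplex adj.counit (ComplexShape.up ℤ)).app K =
        φ ≫ (Functor.mapHomologicalComplexIdIso B (ComplexShape.up ℤ)).inv.app K := by
      ext n
      simp [φ]
      exact (Category.comp_id _).symm
    rw [e1] at hτ
    exact @quasiIso_of_comp_right _ _ _ _ _ _ _ _ φ ((Functor.mapHomologicalComplexIdIso B (ComplexShape.up ℤ)).inv.app K)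
      _ _ _ inferInstance hτ
  haveI hQ : IsIso (Qh.map ((HomotopyCategory.quotient B (ComplexShape.up ℤ)).map φ)) :=
    (NatIso.isIso_map_iff (quotientCompQhIso B) φ).2 inferInstance
  unfold Groth.Agent.DRing.PointHom.derAdj
  rw [Adjunction.localization_counit_app]
  haveI : IsIso (Qh.map ((DRing.DerivedAdj.mapHomotopyCategoryAdj adj).counit.app P)) := hQ
  infer_instance

/-- An invertible unit makes the derived left adjoint bijective on maps into the object. -/
theorem map_bijective_of_isIso_unit (E F : DerivedCategory A) [IsIso ((derAdj adj).unit.app F)] :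
    Function.Bijective (fun φ : E ⟶ F => L.mapDerivedCategory.map φ) := by
  have e : (fun φ : E ⟶ F => L.mapDerivedCategory.map φ) =
      ((derAdj adj).homEquiv E (L.mapDerivedCategory.obj F)).symm ∘
        (asIso ((derAdj adj).unit.app F)).homToEquiv := by
    funext φ
    simp [Adjunction.homEquiv_counit]
  rw [e]
  exact (Equiv.bijective _).comp (Equiv.bijective _)

/-- An invertible counit makes the derived right adjoint bijective on maps out of the object. -/
theorem map_bijective_of_isIso_counit (G H : DerivedCategory B) [IsIso ((derAdj adj).counit.app G)] :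
    Function.Bijective (fun φ : G ⟶ H => R.mapDerivedCategory.map φ) := by
  have e : (fun φ : G ⟶ H => R.mapDerivedCategory.map φ) =
      ((derAdj adj).homEquiv (R.mapDerivedCategory.obj G) H) ∘
        (asIso ((derAdj adj).counit.app G)).symm.homFromEquiv := by
    funext φ
    simp [Adjunction.homEquiv_unit]
  rw [e]
  exact (Equiv.bijective _).comp (Equiv.bijective _)

end Groth.Agent.FTorsLib
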