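import Groth.Agent.FTorsLib.Formal
import Groth.Agent.FTorsLib.ComplBasic
import Mathlib.AlgebraicGeometry.Morphisms.Flat

/-!
# Powers of an ideal sheaf on a locally Noetherian scheme are locally finitely generated up to cofinality
-/

set_option autoImplicit false
set_option backward.isDefEq.respectTransparency.types false

universe u

open CategoryTheory CategoryTheory.Limits Opposite TopologicalSpace AlgebraicGeometry

namespace Groth.Agent.FTorsLib.Compl

variable {X : Scheme.{u}} {𝓘 : X.IdealSheafData}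

/-- Restriction of functions. -/
noncomputable abbrev rsX {V W : X.Opens} (h : W ≤ V) : Γ(X, V) →+* Γ(X, W) := (X.presheaf.map (homOfLE h).op).hom

theorem rsX_trans {W' W V : X.Opens} (h₁ : W' ≤ W) (h₂ : W ≤ V) (a : Γ(X, V)) :
    rsX h₁ (rsX h₂ a) = rsX (h₁.trans h₂) a := by
  change (X.presheaf.map _ ≫ X.presheaf.map _).hom a = _
  rw [← Functor.map_comp]
  rfl

theorem map_eq_rsX {V W : X.Opens} (g : W ⟶ V) (a : Γ(X, V)) :
    (show Γ(X, W) from (X.sheaf.obj.map g.op).hom (show X.sheaf.obj.obj (op V) from a)) = rsX g.le a := by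
  rw [Subsingleton.elim g (homOfLE g.le)]
  rfl

theorem flat_rsX {V W : X.Opens} (hW : IsAffineOpen W) (hV : IsAffineOpen V) (h : W ≤ V) :
    (rsX h).Flat := by
  have := (𝟙 X : X ⟶ X).flat_appLE hV hW h
  rw [Scheme.Hom.appLE, Scheme.Hom.id_app] at this
  convert this using 1
  exact (congrArg CommRingCat.Hom.hom (Category.id_comp _)).symm

theorem pre_eq_map' {V W : X.Opens} {r : ℕ} (f : Fin r → X.sheaf.obj.obj (op V)) (φ : W ⟶ V) (i m : ℕ) :
    (show Ideal Γ(X, W) from pre f φ i m) =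
      (Ideal.span ((fun j : Fin r => (show Γ(X, V) from f j) ^ m) '' {j | (j : ℕ) < i})).map (rsX φ.le) := by
  rw [Ideal.map_span, ← Set.image_comp]
  refine congrArg Ideal.span (Set.image_congr' fun j => ?_)
  rw [Function.comp_apply, map_pow]
  exact congrArg (· ^ m) (map_eq_rsX φ (f j))

theorem ideal_pow_eq_map {V W : X.affineOpens} (h : W.1 ≤ V.1) (n : ℕ) :
    𝓘.ideal W ^ n = (𝓘.ideal V ^ n).map (rsX h) :=
  ((Ideal.map_pow _ _ _).trans (congrArg (· ^ n) (𝓘.map_ideal (U := W) (V := V) h))).symm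

variable [IsLocallyNoetherian X]

/-- On an affine open, generators of the ideal give local generators of the family of powers. -/
theorem locGens_pow (V : X.affineOpens) :
    ∃ (r : ℕ) (f : Fin r → X.sheaf.obj.obj (op V.1)), LocGens (FTors.powIdealFam X 𝓘) f := by
  haveI : IsNoetherianRing Γ(X, V.1) := IsLocallyNoetherian.component_noetherian V
  obtain ⟨r, f, hf⟩ := Submodule.fg_iff_exists_fin_generating_family.1 (IsNoetherian.noetherian (𝓘.ideal V))
  have hmem : ∀ j, f j ∈ 𝓘.ideal V := fun j => hf ▸ Submodule.subset_span ⟨j, rfl⟩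
  have cover : ∀ (W : X.Opens), ∃ S ∈ Opens.grothendieckTopology X W, ∀ ⦃W' : X.Opens⦄ (g : W' ⟶ W), S g →
      ∃ U : X.Opens, IsAffineOpen U ∧ U ≤ W ∧ W' ≤ U := fun W => by
    refine ⟨{ arrows := fun W' _ => ∃ U : X.Opens, IsAffineOpen U ∧ U ≤ W ∧ W' ≤ U
              downward_closed := fun {A B} f ⟨U, h1, h2, h3⟩ g => ⟨U, h1, h2, g.le.trans h3⟩ }, fun x hx => ?_,
      fun W' g hg => hg⟩
    obtain ⟨U, hU, hxU, hle⟩ := exists_isAffineOpen_mem_and_subset (x := x) (U := W) hx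
    exact ⟨U, homOfLE hle, ⟨U, hU, hle, le_rfl⟩, hxU⟩
  refine ⟨r, f, fun n => ⟨n, fun j => ?_⟩, fun N => ?_, fun i m => ?_⟩
  · exact (mem_powIdeal_affine n V _).2 (Ideal.pow_mem_pow (hmem j) _)
  · let P : Ideal Γ(X, V.1) := Ideal.span ((fun j : Fin r => f j ^ N) '' {j | (j : ℕ) < r})
    have hle : 𝓘.ideal V ≤ P.radical := by
      rw [← hf, Submodule.span_le]
      rintro _ ⟨j, rfl⟩
      exact ⟨N, Ideal.subset_span ⟨j, j.2, rfl⟩⟩
    obtain ⟨n, hn⟩ := Ideal.exists_pow_le_of_le_radical_of_fg hle (IsNoetherian.noetherian _)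
    refine ⟨n, fun W φ a ha => ?_⟩
    obtain ⟨S, hS, hS'⟩ := cover W
    refine ⟨S, hS, fun W' g hg => ?_⟩
    obtain ⟨U, hU, hUW, hW'U⟩ := hS' g hg
    have h1 := (FTors.mem_powIdealFam_iff X 𝓘 n W a).1 ha ⟨U, hU⟩ hUW
    rw [ideal_pow_eq_map (V := V) (hUW.trans φ.le)] at h1
    have h2 := Ideal.mem_map_of_mem (rsX hW'U) (Ideal.map_mono hn h1)
    rw [Ideal.map_map] at h2
    have e : (rsX hW'U).comp (rsX (hUW.trans φ.le)) = rsX (g ≫ φ).le :=
      RingHom.ext fun b => rsX_trans _ _ b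
    rw [e, ← pre_eq_map' (fun j => f j) (g ≫ φ) r N] at h2
    refine Eq.mp ?_ h2
    refine congrArg (· ∈ _) ?_
    exact (rsX_trans hW'U hUW a).trans (map_eq_rsX g a).symm
  · let P : Ideal Γ(X, V.1) := Ideal.span ((fun j : Fin r => f j ^ m) '' {j | (j : ℕ) < (i : ℕ)})
    let Q : ℕ →o Ideal Γ(X, V.1) :=
      ⟨fun k => Submodule.comap (LinearMap.mulLeft Γ(X, V.1) (f i ^ k)) P, fun a b hab c hc => by
        obtain ⟨d, rfl⟩ := exists_add_of_le hab
        rw [Submodule.mem_comap, LinearMap.mulLeft_apply, add_comm, pow_add, mul_assoc]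
        exact Ideal.mul_mem_left _ _ hc⟩
    obtain ⟨k, hk⟩ := monotone_stabilizes_iff_noetherian.2 inferInstance Q
    refine ⟨k, fun n W φ a ha => ?_⟩
    obtain ⟨S, hS, hS'⟩ := cover W
    refine ⟨S, hS, fun W' g hg => ?_⟩
    obtain ⟨U, hU, hUW, hW'U⟩ := hS' g hg
    have hUV : U ≤ V.1 := hUW.trans φ.le
    have hcomp : ∀ {A : X.Opens} (h : A ≤ W), (rsX h).comp (rsX φ.le) = rsX (h.trans φ.le) := fun h =>
      RingHom.ext fun b => rsX_trans h φ.le b
    have hrf : (show Γ(X, W) from (X.sheaf.obj.map φ.op).hom (f i)) = rsX φ.le (f i) := map_eq_rsX φ (f i)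
    have ha' : rsX φ.le (f i) ^ (n + k) * (show Γ(X, W) from a) ∈ P.map (rsX φ.le) := by
      rw [← hrf, ← pre_eq_map' (fun j => f j) φ i m]
      exact ha
    have h0 := Ideal.mem_map_of_mem (rsX hUW) ha'
    rw [Ideal.map_map, hcomp hUW, map_mul, map_pow, rsX_trans, ← map_pow] at h0
    have hb : rsX hUW (show Γ(X, W) from a) ∈ (Q (n + k)).map (rsX hUV) :=
      mem_map_colon _ (flat_rsX hU V.2 hUV) P (IsNoetherian.noetherian _) _ _ h0
    rw [← hk (n + k) (Nat.le_add_left k n)] at hb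
    have hb' : rsX hUV (f i ^ k) * rsX hUW (show Γ(X, W) from a) ∈ P.map (rsX hUV) := by
      have := Ideal.mul_mem_mul (Ideal.mem_map_of_mem (rsX hUV) (Ideal.mem_span_singleton_self (f i ^ k))) hb
      rw [← Ideal.map_mul] at this
      refine Ideal.map_mono ?_ this
      refine Ideal.mul_le.2 fun x hx y hy => ?_
      obtain ⟨c, rfl⟩ := Ideal.mem_span_singleton'.1 hx
      rw [mul_assoc]
      exact Ideal.mul_mem_left _ _ hy
    have h2 := Ideal.mem_map_of_mem (rsX hW'U) hb'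
    have hcomp2 : (rsX hW'U).comp (rsX hUV) = rsX (g ≫ φ).le := RingHom.ext fun b => rsX_trans _ _ b
    rw [Ideal.map_map, hcomp2, map_mul, rsX_trans, rsX_trans, ← pre_eq_map' (fun j => f j) (g ≫ φ) i m] at h2
    refine Eq.mp ?_ h2
    refine congrArg (· ∈ _) ?_
    refine Eq.trans ?_ (map_eq_rsX g _).symm
    refine ((map_mul (rsX g.le) _ _).trans (congrArg (· * _) ?_)).symm
    exact ((congrArg (fun t => rsX g.le (t ^ k)) hrf).trans (by rw [← map_pow, rsX_trans]))

/-- The powers of an ideal sheaf on a locally Noetherian scheme have local generators. -/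
theorem hasLocGens_pow : HasLocGens (FTors.powIdealFam X 𝓘) := by
  intro U
  refine ⟨⟨fun V _ => ∃ (r : ℕ) (f : Fin r → X.sheaf.obj.obj (op V)), LocGens (FTors.powIdealFam X 𝓘) f, ?_⟩, ?_,
    fun V g hg => hg⟩
  · rintro V V' _ ⟨r, f, hf⟩ g
    exact ⟨r, fun j => X.sheaf.obj.map g.op (f j), hf.restrict g⟩
  · intro x hx
    obtain ⟨W, hW, hxW, hle⟩ := exists_isAffineOpen_mem_and_subset (x := x) (U := U) hx
    exact ⟨W, homOfLE hle, locGens_pow ⟨W, hW⟩, hxW⟩

end Groth.Agent.FTorsLib.Compl
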