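import Groth.Agent.FTorsLib.RGamma

/-!
# The torsion criterion and the universal property of the derived torsion functor
-/

set_option autoImplicit false
set_option backward.isDefEq.respectTransparency.types false

universe u

open CategoryTheory CategoryTheory.Limits Opposite ModSite DerivedCategory

namespace Groth.Agent.FTorsLib

attribute [local instance] HasDerivedCategory.standard

open Groth.Agent.KFlat

variable {C : Type u} [SmallCategory C] {J : GrothendieckTopology C} {O : Sheaf J CommRingCat.{u}}
  {I : FTors.IdealFam O} [FTors.HasRgamma I]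

omit [FTors.HasRgamma I] in
/-- Torsion terms give torsion cohomology. -/
theorem isTors_homology (hI : HasLocGens I) (K : CochainComplex (Mod O) ℤ) (h : ∀ n, FTors.IsTors I (K.X n))
    (n : ℤ) : FTors.IsTors I (K.homology n) := by
  haveI := isSerreClass_isTors hI
  exact (FTors.IsTors I).prop_of_epi (K.homologyπ n) ((FTors.IsTors I).prop_of_mono (K.iCycles n) (h n))

/-- An object has torsion cohomology if and only if it is isomorphic to its derived torsion. -/
theorem isDTors_iff_isIso (hI : HasLocGens I) (E : DerivedCategory (Mod O)) :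
    FTors.IsDTors I E ↔ IsIso ((FTors.Rgammaε I).app E) := by
  haveI := isSerreClass_isTors hI
  obtain ⟨K, f, hK, hf, -, hinj⟩ := DHA.KInj.exists_resolution (Mod O) (Q.objPreimage E)
  let eE : E ≅ Q.obj K := (Q.objObjPreimageIso E).symm ≪≫ asIso (Q.map f)
  obtain ⟨e, he⟩ := exists_rgamma_iso I K
  let hom := fun n => (DerivedCategory.homologyFunctorFactors (Mod O) n).app K
  have hε : IsIso ((FTors.Rgammaε I).app E) ↔ IsIso (Q.map (gammaInc I K)) := by
    rw [← he, isIso_comp_left_iff]
    exact NatTrans.isIso_app_iff_of_iso (FTors.Rgammaε I) eE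
  rw [hε]
  constructor
  · intro h
    have hH : ∀ n, FTors.IsTors I (K.homology n) := fun n =>
      (FTors.IsTors I).prop_of_iso ((DerivedCategory.homologyFunctor (Mod O) n).mapIso eE ≪≫ hom n) (h n)
    haveI := hinj
    haveI := quasiIso_gammaι K hH hI
    haveI : QuasiIso (gammaInc I K) := inferInstance
    infer_instance
  · intro h n
    have e' : E ≅ Q.obj (gammaCx I K) := eE ≪≫ (asIso (Q.map (gammaInc I K))).symm
    exact (FTors.IsTors I).prop_of_iso ((DerivedCategory.homologyFunctor (Mod O) n).mapIso e' ≪≫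
        (DerivedCategory.homologyFunctorFactors (Mod O) n).app (gammaCx I K)).symm
      (isTors_homology hI _ (fun m => isTors_gamma I (K.X m)) n)

/-- Maps from an object with torsion cohomology factor uniquely through the derived torsion. -/
theorem bijective_comp_rgamma (hI : HasLocGens I) (E F : DerivedCategory (Mod O)) (hE : FTors.IsDTors I E) :
    Function.Bijective (fun φ : E ⟶ (FTors.Rgamma I).obj F => φ ≫ (FTors.Rgammaε I).app F) := by
  haveI := isSerreClass_isTors hI
  haveI : WSerre.IsWeakSerre (FTors.IsTors I) := WSerre.isWeakSerre_of_isSerreClass _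
  haveI : (FTors.IsTors I).IsClosedUnderFiniteProducts := inferInstance
  haveI : (FTors.IsTors I).IsClosedUnderKernels := inferInstance
  haveI : (FTors.IsTors I).IsClosedUnderCokernels := inferInstance
  haveI : (FTors.IsTors I).ContainsZero := inferInstance
  obtain ⟨hfull, hfaith, him⟩ := toDerived_spec I hI
  obtain ⟨T, ⟨eT⟩⟩ := (him E).2 hE
  obtain ⟨K, f, hK, hf, -, hinj⟩ := DHA.KInj.exists_resolution (Mod O) (Q.objPreimage F)
  let eF : F ≅ Q.obj K := (Q.objObjPreimageIso F).symm ≪≫ asIso (Q.map f)
  obtain ⟨e, he⟩ := exists_rgamma_iso I K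
  let X := Q.objPreimage T
  let eX : (WSerre.toDerived (FTors.IsTors I)).obj (Q.obj X) ≅ E :=
    (WSerre.toDerived (FTors.IsTors I)).mapIso (Q.objObjPreimageIso T) ≪≫ eT
  let TK := ((coreflect I).mapHomologicalComplex (ComplexShape.up ℤ)).obj K
  let w : (WSerre.toDerived (FTors.IsTors I)).obj (Q.obj TK) ≅ Q.obj (gammaCx I K) :=
    (FTors.IsTors I).ι.mapDerivedCategoryFactors.app TK
  have hw : ∀ a : Q.obj X ⟶ Q.obj TK,
      eX.inv ≫ (WSerre.toDerived (FTors.IsTors I)).map a ≫ w.hom ≫ e.hom ≫
          (FTors.Rgamma I).map eF.inv ≫ (FTors.Rgammaε I).app F =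
        eX.inv ≫ ((WSerre.toDerived (FTors.IsTors I)).map a ≫
          (FTors.IsTors I).ι.mapDerivedCategoryFactors.hom.app TK ≫
            Q.map ((CxAdj.mapCx (coreflectAdj I) (ComplexShape.up ℤ)).counit.app K)) ≫ eF.inv := fun a => by
    rw [NatTrans.naturality, reassoc_of% he, counit_mapCx]
    simp [w, gammaInc]
    refine congrArg (fun t => _ ≫ _ ≫ _ ≫ t) ?_
    rw [show (Functor.mapHomologicalComplexIdIso (Mod O) (ComplexShape.up ℤ)).hom.app K = 𝟙 K from
      HomologicalComplex.hom_ext _ _ fun n => rfl]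
    exact (congrArg (· ≫ eF.inv) (Q.map_id K)).trans (Category.id_comp _)
  have b1 := (Functor.FullyFaithful.ofFullyFaithful (WSerre.toDerived (FTors.IsTors I))).map_bijective
    (Q.obj X) (Q.obj TK)
  have b2 := bijective_counit (I := I) X K
  let G : (((WSerre.toDerived (FTors.IsTors I)).obj (Q.obj X)) ⟶ (WSerre.toDerived (FTors.IsTors I)).obj (Q.obj TK)) ≃
      (E ⟶ (FTors.Rgamma I).obj F) :=
    eX.homCongr (w ≪≫ e ≪≫ (FTors.Rgamma I).mapIso eF.symm)
  have key : (fun φ : E ⟶ (FTors.Rgamma I).obj F => φ ≫ (FTors.Rgammaε I).app F) ∘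
      (G ∘ (WSerre.toDerived (FTors.IsTors I)).map) = (eX.homCongr eF.symm) ∘ (fun a : Q.obj X ⟶ Q.obj TK =>
      (WSerre.toDerived (FTors.IsTors I)).map a ≫
        (FTors.IsTors I).ι.mapDerivedCategoryFactors.hom.app _ ≫
          Q.map ((CxAdj.mapCx (coreflectAdj I) (ComplexShape.up ℤ)).counit.app K)) := by
    funext a
    have h := hw a
    simp only [Function.comp, G, Iso.homCongr_apply, Iso.trans_hom, Functor.mapIso_hom, Iso.symm_hom,
      Category.assoc] at h ⊢
    exact h
  have hcomp := ((eX.homCongr eF.symm).bijective.comp b2)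
  rw [← key] at hcomp
  exact (Function.Bijective.of_comp_iff _ (G.bijective.comp b1)).1 hcomp

end Groth.Agent.FTorsLib
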