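import Groth.Agent.FTorsLib.ComplFF
import Groth.Agent.FTorsLib.PowFam
import Groth.Agent.FTorsLib.DerAdj
import Groth.Agent.FTorsLib.TorsCrit
import Groth.Agent.KFlat.RestrictComplete
import Groth.Prelude.Def_SiteCmp

/-!
# The completion morphism on derived categories
-/

set_option autoImplicit false
set_option backward.isDefEq.respectTransparency.types false

universe u

open CategoryTheory CategoryTheory.Limits Opposite TopologicalSpace AlgebraicGeometry ModSite DerivedCategory

attribute [local instance] HasDerivedCategory.standard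

namespace Groth.Agent.FTorsLib

section Univ

variable {C : Type u} [SmallCategory C] {J : GrothendieckTopology C} {O : Sheaf J CommRingCat.{u}}
  {I : FTors.IdealFam O} [FTors.HasRgamma I]

/-- The derived torsion has torsion cohomology. -/
theorem isDTors_rgamma (hI : HasLocGens I) (E : DerivedCategory (Mod O)) :
    FTors.IsDTors I ((FTors.Rgamma I).obj E) := by
  haveI := isSerreClass_isTors hI
  obtain ⟨K, f, hK, hf, -, hinj⟩ := DHA.KInj.exists_resolution (Mod O) (Q.objPreimage E)
  haveI : IsIso (Q.map f) := (isIso_Q_map_iff_quasiIso _ _).2 hf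
  let eE : E ≅ Q.obj K := (Q.objObjPreimageIso E).symm ≪≫ asIso (Q.map f)
  obtain ⟨e, -⟩ := exists_rgamma_iso I K
  intro n
  exact (FTors.IsTors I).prop_of_iso
    ((DerivedCategory.homologyFunctor (Mod O) n).mapIso ((FTors.Rgamma I).mapIso eE ≪≫ e.symm) ≪≫
      (DerivedCategory.homologyFunctorFactors (Mod O) n).app (gammaCx I K)).symm
    (isTors_homology hI _ (fun m => isTors_gamma I (K.X m)) n)

/-- Uniqueness of universal objects: any map with the universal property is the derived torsion. -/
theorem existsUnique_iso_of_universal (hI : HasLocGens I) {A B : DerivedCategory (Mod O)} (a : A ⟶ B)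
    (hA : FTors.IsDTors I A)
    (ha : ∀ T, FTors.IsDTors I T → Function.Bijective (fun φ : T ⟶ A => φ ≫ a)) :
    ∃! e : (FTors.Rgamma I).obj B ≅ A, e.hom ≫ a = (FTors.Rgammaε I).app B := by
  have hR := isDTors_rgamma hI B
  obtain ⟨u, hu⟩ := (ha _ hR).2 ((FTors.Rgammaε I).app B)
  obtain ⟨v, hv⟩ := (bijective_comp_rgamma hI A B hA).2 a
  have h1 : u ≫ v = 𝟙 _ := (bijective_comp_rgamma hI _ B hR).1 (by
    simp only at hu hv ⊢
    rw [Category.assoc, hv, hu, Category.id_comp])
  have h2 : v ≫ u = 𝟙 _ := (ha A hA).1 (by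
    simp only at hu hv ⊢
    rw [Category.assoc, hu, hv, Category.id_comp])
  exact ⟨⟨u, v, h1, h2⟩, hu, fun e he => Iso.ext ((ha _ hR).1 (he.trans hu.symm))⟩

end Univ

namespace Compl

open Groth.Agent.PullFlatStalk (complSharp preU)
open Groth.Agent.ModFlat (rs map_val_comp)
open Groth.Agent.PullFlat
open Groth.Agent.DRing.PointHom (derAdj)

variable {X : Scheme.{u}} {𝓘 : X.IdealSheafData} (hX : (FSch.completionAlong X 𝓘).IsFormal)

/-- The direct image from the completion preserves epimorphisms. -/
theorem epi_push_map {M M' : FSch.ModF (FSch.completionAlong X 𝓘) hX} (φ : M ⟶ M') [Epi φ] :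
    Epi ((kap hX).push.map φ) := by
  have hex : (ShortComplex.mk φ (0 : M' ⟶ M') comp_zero).Exact := (ShortComplex.exact_iff_epi _ rfl).2 inferInstance
  refine SitePull.epi_of_locally_surjective _ fun U z => ?_
  let S : Sieve U :=
    { arrows := fun V g => ∃ y, appS ((kap hX).push.map φ) V y = rs _ g z
      downward_closed := fun {V V'} g ⟨y, hy⟩ h => ⟨rs _ h y,
        (appS_res ((kap hX).push.map φ) h y).trans ((congrArg (rs _ h) hy).trans (map_val_comp h g z).symm)⟩ }
  refine ⟨S, fun y hy => ?_, fun V g hg => hg⟩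
  by_cases hyZ : y ∈ Set.range (FSch.completionToX X 𝓘 0)
  · obtain ⟨x, rfl⟩ := hyZ
    obtain ⟨T, hT, hT'⟩ := exists_preimage hex (show sect M' (preU X 𝓘 U) from z) rfl
    obtain ⟨V, g, hg, hxV⟩ := hT x hy
    obtain ⟨w, hw⟩ := hT' g hg
    obtain ⟨W, hxW, hWU, hWV⟩ := exists_affine_nhd hxV (U := U) hy
    refine ⟨W.1, homOfLE hWU, ⟨rs M (homOfLE hWV) w, ?_⟩, hxW⟩
    rw [push_rs hX M' hWU]
    refine (appS_res φ (homOfLE hWV) w).trans ((congrArg (rs M' _) hw).trans ?_)
    exact (map_val_comp _ _ _).symm.trans (rs_eq M' _ _ _)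
  · obtain ⟨W, hyW, hWU, hbot, -⟩ := exists_affine_away hyZ hy
    exact ⟨W.1, homOfLE hWU, ⟨0, subsingleton_bot hX M' hbot _ _⟩, hyW⟩

/-- The direct image from the completion is exact. -/
instance preservesFiniteColimits_push : PreservesFiniteColimits (kap hX).push := by
  haveI : (kap hX).push.PreservesEpimorphisms := ⟨fun φ _ => epi_push_map hX φ⟩
  haveI : PreservesFiniteLimits (kap hX).push := by
    haveI := (kap hX).adj.rightAdjoint_preservesLimits
    infer_instance
  haveI : (kap hX).push.PreservesHomology := Functor.preservesHomology_of_preservesEpis_and_kernels _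
  exact Functor.preservesFiniteColimits_of_preservesHomology _

instance preservesFiniteLimits_push : PreservesFiniteLimits (kap hX).push := by
  haveI := (kap hX).adj.rightAdjoint_preservesLimits
  infer_instance

/-- The derived direct image from the completion. -/
noncomputable abbrev pushD : DerivedCategory (FSch.ModF (FSch.completionAlong X 𝓘) hX) ⥤
    DerivedCategory (ModSite.Mod X.sheaf) :=
  (kap hX).push.mapDerivedCategory

/-- The derived direct image is induced by the exact direct image. -/
noncomputable def rpushIso [SiteCmp.HasRpushD (kap hX)] : SiteCmp.RpushD (kap hX) ≅ pushD hX :=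
  _root_.Groth.Agent.KFlat.RestrictComplete.derivedIso (kap hX).push

variable [IsLocallyNoetherian X]

theorem isDTorsZp_pushD {G : DerivedCategory (FSch.ModF (FSch.completionAlong X 𝓘) hX)}
    (hG : FTors.IsDTorsF (FSch.completionAlong X 𝓘) hX G) : FTors.IsDTorsZp X 𝓘 ((pushD hX).obj G) := fun i => by
  haveI := isSerreClass_isTors (hasLocGens_pow (X := X) (𝓘 := 𝓘))
  exact (FTors.IsTorsZp X 𝓘).prop_of_iso (DTrunc.homologyMapDerivedIso (kap hX).push G i).symm
    (isTorsZp_push hX _ (hG i))

theorem isDTorsZp_RpushD [SiteCmp.HasRpushD (kap hX)] {G : DerivedCategory (FSch.ModF (FSch.completionAlong X 𝓘) hX)}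
    (hG : FTors.IsDTorsF (FSch.completionAlong X 𝓘) hX G) :
    FTors.IsDTorsZp X 𝓘 ((SiteCmp.RpushD (kap hX)).obj G) := fun i => by
  haveI := isSerreClass_isTors (hasLocGens_pow (X := X) (𝓘 := 𝓘))
  exact (FTors.IsTorsZp X 𝓘).prop_of_iso ((homologyFunctor _ i).mapIso ((rpushIso hX).app G)).symm
    (isDTorsZp_pushD hX hG i)

variable [PreservesFiniteLimits (kap hX).pull]

theorem isDTorsF_pullD {F : DerivedCategory (ModSite.Mod X.sheaf)} (hF : FTors.IsDTorsZp X 𝓘 F) :
    FTors.IsDTorsF (FSch.completionAlong X 𝓘) hX ((SiteCmp.pullD (kap hX)).obj F) := fun i => by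
  haveI := isSerreClass_isTors (hasLocGens_open (Adic.ComplAlong.isLocNoethFormal (X := X) 𝓘))
  exact (FTors.IsTorsF (FSch.completionAlong X 𝓘) hX).prop_of_iso
    (DTrunc.homologyMapDerivedIso (kap hX).pull F i).symm (isTorsF_pull hX (hF i))

theorem isIso_unitD {F : DerivedCategory (ModSite.Mod X.sheaf)} (hF : FTors.IsDTorsZp X 𝓘 F) :
    IsIso ((derAdj (kap hX).adj).unit.app F) :=
  isIso_derAdj_unit _ F fun i => isIso_unit hX (hF i)

theorem isIso_counitD {G : DerivedCategory (FSch.ModF (FSch.completionAlong X 𝓘) hX)}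
    (hG : FTors.IsDTorsF (FSch.completionAlong X 𝓘) hX G) : IsIso ((derAdj (kap hX).adj).counit.app G) :=
  isIso_derAdj_counit _ G fun i => isIso_counit hX (hG i)

theorem RpushD_map_bijective [SiteCmp.HasRpushD (kap hX)]
    (G H : DerivedCategory (FSch.ModF (FSch.completionAlong X 𝓘) hX))
    (hG : FTors.IsDTorsF (FSch.completionAlong X 𝓘) hX G) :
    Function.Bijective (fun φ : G ⟶ H => (SiteCmp.RpushD (kap hX)).map φ) := by
  haveI := isIso_counitD hX hG
  have h := map_bijective_of_isIso_counit (kap hX).adj G H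
  have e : (fun φ : G ⟶ H => (SiteCmp.RpushD (kap hX)).map φ) =
      ((rpushIso hX).app G).symm.homCongr ((rpushIso hX).app H).symm ∘ fun φ : G ⟶ H => (pushD hX).map φ := by
    funext φ
    simp
  rw [e]
  exact (Equiv.bijective _).comp h

theorem pullD_map_bijective_right (E F : DerivedCategory (ModSite.Mod X.sheaf))
    (hF : FTors.IsDTorsZp X 𝓘 F) :
    Function.Bijective (fun φ : E ⟶ F => (SiteCmp.pullD (kap hX)).map φ) := by
  haveI := isIso_unitD hX hF
  exact map_bijective_of_isIso_unit (kap hX).adj E F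

/-- The derived direct image of the counit of the derived torsion is universal among objects with torsion cohomology. -/
theorem bijective_comp_RpushD [SiteCmp.HasRpushD (kap hX)] [FTors.HasRgammaT (FSch.completionAlong X 𝓘) hX]
    (E : DerivedCategory (FSch.ModF (FSch.completionAlong X 𝓘) hX)) (T : DerivedCategory (ModSite.Mod X.sheaf))
    (hT : FTors.IsDTorsZp X 𝓘 T) :
    Function.Bijective (fun φ : T ⟶ (SiteCmp.RpushD (kap hX)).obj ((FTors.RgammaT _ hX).obj E) =>
      φ ≫ (SiteCmp.RpushD (kap hX)).map ((FTors.RgammaTε _ hX).app E)) := by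
  let ε := (FTors.RgammaTε (FSch.completionAlong X 𝓘) hX).app E
  have h := bijective_comp_rgamma (hasLocGens_open (Adic.ComplAlong.isLocNoethFormal (X := X) 𝓘))
    ((SiteCmp.pullD (kap hX)).obj T) E (isDTorsF_pullD hX hT)
  let adjD := derAdj (kap hX).adj
  let r := rpushIso hX
  have e : (fun φ : T ⟶ (SiteCmp.RpushD (kap hX)).obj ((FTors.RgammaT _ hX).obj E) =>
      φ ≫ (SiteCmp.RpushD (kap hX)).map ε) =
      ((Iso.homToEquiv (r.app E).symm).trans (Equiv.refl _) ∘ (adjD.homEquiv T E)) ∘
        ((fun ψ => ψ ≫ ε) ∘ ((adjD.homEquiv T _).symm ∘ Iso.homToEquiv (r.app ((FTors.RgammaT _ hX).obj E)))) := by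
    funext φ
    simp only [Function.comp_apply, Equiv.trans_apply, Equiv.refl_apply, Iso.homToEquiv_apply, Iso.app_hom,
      Iso.symm_hom, Iso.app_inv]
    rw [Adjunction.homEquiv_naturality_right, Equiv.apply_symm_apply, Category.assoc, Category.assoc]
    refine congrArg (φ ≫ ·) ?_
    exact (NatIso.naturality_2 r ε).symm
  rw [show (fun φ : T ⟶ (SiteCmp.RpushD (kap hX)).obj ((FTors.RgammaT _ hX).obj E) =>
      φ ≫ (SiteCmp.RpushD (kap hX)).map ((FTors.RgammaTε _ hX).app E)) = _ from e]
  exact ((Equiv.bijective _).comp (Equiv.bijective _)).comp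
    (h.comp ((Equiv.bijective _).comp (Equiv.bijective _)))

end Compl

end Groth.Agent.FTorsLib
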