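import Groth.Agent.FTorsLib.ComplUnit

/-!
# The direct image from the completion is fully faithful on torsion modules
-/

set_option autoImplicit false
set_option backward.isDefEq.respectTransparency.types false

universe u

open CategoryTheory CategoryTheory.Limits Opposite TopologicalSpace AlgebraicGeometry ModSite

namespace Groth.Agent.FTorsLib.Compl

open Groth.Agent.PullFlatStalk (complSharp preU)
open Groth.Agent.FFormal (Rg pr)
open Groth.Agent.ModFlat (rs map_val_smul map_val_comp map_ring_comp)
open Groth.Agent.PullFlat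

variable {X : Scheme.{u}} {𝓘 : X.IdealSheafData} (hX : (FSch.completionAlong X 𝓘).IsFormal)
  {M M' : FSch.ModF (FSch.completionAlong X 𝓘) hX}

section

variable (ψ : (kap hX).push.obj M ⟶ (kap hX).push.obj M')

/-- The components of the descent of a map of direct images. -/
noncomputable def descS (V : ((FSch.completionAlong X 𝓘).X 0).Opens) (s : sect M V) : sect M' V :=
  rs M' (homOfLE (preU_extOpen V).ge)
    (show sect M' (preU X 𝓘 (extOpen V)) from
      appS ψ (extOpen V) (show sect ((kap hX).push.obj M) (extOpen V) from rs M (homOfLE (preU_extOpen V).le) s))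

theorem descS_eq {W : X.Opens} {V : ((FSch.completionAlong X 𝓘).X 0).Opens} (h : preU X 𝓘 W ≤ V) (s : sect M V) :
    rs M' (homOfLE h) (descS hX ψ V s) =
      (show sect M' (preU X 𝓘 W) from
        appS ψ W (show sect ((kap hX).push.obj M) W from rs M (homOfLE h) s)) := by
  have hW : W ≤ extOpen V := le_extOpen h
  have e1 : rs M (homOfLE h) s =
      rs M (preMap hW) (rs M (homOfLE (preU_extOpen V).le) s) :=
    (rs_eq M _ _ s).trans (map_val_comp _ _ _)
  refine ((map_val_comp _ _ _).symm.trans (rs_eq M' _ (preMap hW) _)).trans ?_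
  refine (push_rs hX M' hW _).symm.trans (Eq.trans ?_
    (congrArg (fun t : sect M (preU X 𝓘 W) => (show sect M' (preU X 𝓘 W) from
      appS ψ W (show sect ((kap hX).push.obj M) W from t))) e1.symm))
  exact (appS_res ψ (homOfLE hW) _).symm.trans (congrArg (appS ψ W) (push_rs hX M hW _))

theorem descS_add (V : ((FSch.completionAlong X 𝓘).X 0).Opens) (s t : sect M V) :
    descS hX ψ V (s + t) = descS hX ψ V s + descS hX ψ V t := by
  rw [descS, descS, descS, map_add]
  exact (congrArg _ (map_add (appS ψ (extOpen V)) _ _)).trans (map_add _ _ _)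

theorem descS_res {V V' : ((FSch.completionAlong X 𝓘).X 0).Opens} (g : V' ⟶ V) (s : sect M V) :
    descS hX ψ V' (rs M g s) = rs M' g (descS hX ψ V s) := by
  have h : preU X 𝓘 (extOpen V') ≤ V := (preU_extOpen V').le.trans g.le
  have e : rs M' g (descS hX ψ V s) =
      rs M' (homOfLE (preU_extOpen V').ge) (rs M' (homOfLE h) (descS hX ψ V s)) :=
    (rs_eq M' _ _ _).trans (map_val_comp _ _ _)
  rw [e, descS_eq hX ψ h s]
  exact congrArg (fun t : sect M (preU X 𝓘 (extOpen V')) => rs M' (homOfLE (preU_extOpen V').ge)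
    (show sect M' (preU X 𝓘 (extOpen V')) from
      appS ψ (extOpen V') (show sect ((kap hX).push.obj M) (extOpen V') from t)))
    ((map_val_comp _ _ _).symm.trans (rs_eq M _ _ s))

variable [IsLocallyNoetherian X]

theorem descS_smul (hM : FTors.IsTorsF (FSch.completionAlong X 𝓘) hX M)
    (V : ((FSch.completionAlong X 𝓘).X 0).Opens) (a : Rg hX V) (s : sect M V) :
    descS hX ψ V (a • s) = a • descS hX ψ V s := by
  refine sub_eq_zero.1 (eq_zero_of_locally M' (S :=
    { arrows := fun V' g => rs M' g (descS hX ψ V (a • s) - a • descS hX ψ V s) = 0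
      downward_closed := fun {V' V''} g hg h => by
        show rs M' (h ≫ g) _ = 0
        rw [map_val_comp, hg, map_zero] }) ?_ _ fun V' g hg => hg)
  intro x hx
  obtain ⟨V₁, g₁, ⟨n, hn⟩, hxV₁⟩ := hM V s x hx
  obtain ⟨W, hxW, -, hW₁⟩ := exists_affine_nhd hxV₁ (U := ⊤) trivial
  have hWV : preU X 𝓘 W.1 ≤ V := hW₁.trans g₁.le
  refine ⟨preU X 𝓘 W.1, homOfLE hWV, ?_, hxW⟩
  show rs M' (homOfLE hWV) (descS hX ψ V (a • s) - a • descS hX ψ V s) = 0
  rw [map_sub, map_val_smul, descS_eq hX ψ hWV, descS_eq hX ψ hWV, map_val_smul]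
  obtain ⟨b, hb⟩ := exists_approx hX n W (rsC hX (homOfLE hWV) a)
  let t : sect M (preU X 𝓘 W.1) := rs M (homOfLE hWV) s
  have hkill : ∀ a' ∈ RingHom.ker (pr hX n (preU X 𝓘 W.1)), a' • t = 0 := fun a' ha' => by
    have := hn (homOfLE hW₁) a' ha'
    rw [← this]
    exact congrArg (a' • ·) ((rs_eq M _ _ s).trans (map_val_comp _ g₁ s))
  let u : sect M' (preU X 𝓘 W.1) := appS ψ W.1 (show sect ((kap hX).push.obj M) W.1 from t)
  have hpsi : ∀ c : Γ(X, W.1), (show sect M' (preU X 𝓘 W.1) from
      appS ψ W.1 (show sect ((kap hX).push.obj M) W.1 from cs hX W.1 c • t)) = cs hX W.1 c • u := fun c =>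
    map_smul (appS ψ W.1) (show X.sheaf.obj.obj (op W.1) from c) (show sect ((kap hX).push.obj M) W.1 from t)
  have hu : ∀ a' ∈ RingHom.ker (pr hX n (preU X 𝓘 W.1)), a' • u = 0 := fun a' ha' => by
    refine smul_eq_zero_of_ker hX M' n W u (fun c hc => ?_) ha'
    rw [← hpsi c, hkill _ ((ker_pr_preU hX n W).ge (Ideal.mem_map_of_mem _ hc))]
    exact map_zero (appS ψ W.1)
  have e1 : rsC hX (homOfLE hWV) a • t = cs hX W.1 b • t := by
    rw [← sub_eq_zero, ← sub_smul]
    exact hkill _ hb
  have e2 : rsC hX (homOfLE hWV) a • u = cs hX W.1 b • u := by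
    rw [← sub_eq_zero, ← sub_smul]
    exact hu _ hb
  rw [sub_eq_zero]
  exact ((congrArg (fun t' : sect M (preU X 𝓘 W.1) => (show sect M' (preU X 𝓘 W.1) from
    appS ψ W.1 (show sect ((kap hX).push.obj M) W.1 from t'))) e1).trans (hpsi b)).trans e2.symm

/-- A map of direct images of modules, the source torsion, comes from the completion. -/
noncomputable def descHom (hM : FTors.IsTorsF (FSch.completionAlong X 𝓘) hX M) : M ⟶ M' :=
  ⟨PresheafOfModules.homMk
    { app := fun V => AddCommGrpCat.ofHom (AddMonoidHom.mk' (descS hX ψ V.unop) (descS_add hX ψ V.unop))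
      naturality := fun V V' g => by
        ext s
        exact descS_res hX ψ g.unop s }
    (fun V a s => descS_smul hX ψ hM V.unop a s)⟩

theorem push_map_descHom (hM : FTors.IsTorsF (FSch.completionAlong X 𝓘) hX M) :
    (kap hX).push.map (descHom hX ψ hM) = ψ := by
  refine SheafOfModules.hom_ext (PresheafOfModules.hom_ext fun W => ModuleCat.hom_ext (LinearMap.ext fun s => ?_))
  have h := descS_eq hX ψ (le_refl (preU X 𝓘 W.unop)) (show sect M (preU X 𝓘 W.unop) from s)
  rw [show homOfLE (le_refl (preU X 𝓘 W.unop)) = 𝟙 _ from Subsingleton.elim _ _, rs_id, rs_id] at h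
  exact h

end

variable [IsLocallyNoetherian X]

/-- The direct image is bijective on maps out of a torsion module. -/
theorem push_map_bijective (hM : FTors.IsTorsF (FSch.completionAlong X 𝓘) hX M) :
    Function.Bijective ((kap hX).push.map : (M ⟶ M') → _) := by
  refine ⟨fun f f' h => ?_, fun ψ => ⟨descHom hX ψ hM, push_map_descHom hX ψ hM⟩⟩
  refine SheafOfModules.hom_ext (PresheafOfModules.hom_ext fun V => ModuleCat.hom_ext (LinearMap.ext fun s => ?_))
  have key : ∀ φ : M ⟶ M', appS φ V.unop s = rs M' (homOfLE (preU_extOpen V.unop).ge)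
      (show sect M' (preU X 𝓘 (extOpen V.unop)) from appS ((kap hX).push.map φ) (extOpen V.unop)
        (show sect ((kap hX).push.obj M) (extOpen V.unop) from rs M (homOfLE (preU_extOpen V.unop).le) s)) := by
    intro φ
    refine Eq.trans ?_ (congrArg (rs M' _) (appS_res φ (homOfLE (preU_extOpen V.unop).le) s).symm)
    refine ((rs_id _ _ _).symm.trans (rs_eq M' _ (homOfLE (preU_extOpen V.unop).ge ≫
      homOfLE (preU_extOpen V.unop).le) _)).trans ?_
    exact map_val_comp _ _ _
  exact (key f).trans (by rw [h]; exact (key f').symm)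

/-- The counit is an isomorphism on torsion modules. -/
theorem isIso_counit (hM : FTors.IsTorsF (FSch.completionAlong X 𝓘) hX M) : IsIso ((kap hX).adj.counit.app M) := by
  refine isIso_of_coyoneda_map_bijective _ fun T => ?_
  have e : (fun g : M ⟶ T => (kap hX).adj.counit.app M ≫ g) =
      ((kap hX).adj.homEquiv ((kap hX).push.obj M) T).symm ∘ (kap hX).push.map := by
    funext g
    rw [Function.comp_apply, Adjunction.homEquiv_counit, Adjunction.counit_naturality]
  exact e ▸ ((kap hX).adj.homEquiv _ _).symm.bijective.comp (push_map_bijective hX hM)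

end Groth.Agent.FTorsLib.Compl
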