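import Groth.Agent.FTorsLib.TorsQis

/-!
# Torsion subcomplexes of complexes with locally divisible terms

The argument for complexes of injectives only uses that killed sections can locally be divided by further
powers of the sections generating the ideals.
-/

set_option autoImplicit false
set_option backward.isDefEq.respectTransparency.types false

universe u

open CategoryTheory CategoryTheory.Limits Opposite ModSite

namespace Groth.Agent.FTorsLib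

open Groth.Agent.KFlat Groth.Agent.PullFlat
open Groth.Agent.ModFlat (rs map_val_smul map_val_comp map_ring_comp)

variable {C : Type u} [SmallCategory C] {J : GrothendieckTopology C} {O : Sheaf J CommRingCat.{u}}
  {I : FTors.IdealFam O} {V : C} {r : ℕ}

/-- Sections killed by powers of the first sections are locally divisible by powers of the next one. -/
def IsDiv (M : Mod O) (f : Fin r → O.obj.obj (op V)) : Prop :=
  ∀ (i : Fin r) (m n : ℕ) ⦃W : C⦄ (φ : W ⟶ V) (v : sect M W), Killed f i m φ v →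
    ∃ S ∈ J W, ∀ ⦃W' : C⦄ (g : W' ⟶ W), S g → ∃ (t : sect M W') (k m' : ℕ),
      Killed f i m' (g ≫ φ) t ∧ rf f (g ≫ φ) i ^ (n + k) • t = rf f (g ≫ φ) i ^ k • rs M g v

theorem isDiv_of_injective {f : Fin r → O.obj.obj (op V)} (hf : LocGens I f) (M : Mod O) [Injective M] :
    IsDiv M f := fun i m n W φ v hv => by
  refine ⟨⊤, J.top_mem _, fun W' g _ => ?_⟩
  obtain ⟨t, k, ht, ht'⟩ := exists_div hf M i m n (g ≫ φ) (rs M g v) (hv.res g)
  exact ⟨t, k, m, ht, ht'⟩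

variable {f : Fin r → O.obj.obj (op V)} (K : CochainComplex (Mod O) ℤ)

section

variable (hdiv : ∀ d, IsDiv (K.X d) f) (hK : ∀ d, FTors.IsTors I (K.homology d))
include hdiv hK

theorem step_succ' (hf : LocGens I f) (i : Fin r) (hP : Step K f i) : Step K f (i + 1) := by
  intro d W φ z m hz
  have hz' : Killed f i m φ (appS (K.d (d + 1) (d + 1 + 1)) W z) := fun j hj => hz j (by omega)
  obtain ⟨S₁, hS₁, h₁⟩ := hP d φ z m hz'
  refine exists_cover_bind (fun W' g => ∃ (w : sect (K.X d) W') (m' : ℕ),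
      Killed f (i + 1) m' (g ≫ φ) (rs (K.X (d + 1)) g z - appS (K.d d (d + 1)) W' w)) hS₁ fun W₁ g₁ hg₁ => ?_
  obtain ⟨w₀, m₁, hw₀⟩ := h₁ g₁ hg₁
  let z₁ := rs (K.X (d + 1)) g₁ z - appS (K.d d (d + 1)) W₁ w₀
  have hdz₁ : appS (K.d (d + 1) (d + 1 + 1)) W₁ z₁ =
      rs (K.X (d + 1 + 1)) g₁ (appS (K.d (d + 1) (d + 1 + 1)) W z) := by
    simp only [z₁, map_sub, appS_res]
    rw [← appS_comp (K.d d (d + 1)), appS_hom_zero _ (K.d_comp_d _ _ _), sub_zero]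
  let y := rf f (g₁ ≫ φ) i ^ m • z₁
  obtain ⟨c, hc⟩ := exists_cycle K (d + 1) y (by
    rw [map_smul, hdz₁, ← rf_res, ← map_pow, ← map_val_smul g₁, hz i (by omega), map_zero])
  have htors := hK (d + 1) W₁ (appS (K.homologyπ (d + 1)) W₁ c)
  refine exists_cover_bind (fun W' g => ∃ (w : sect (K.X d) W') (m' : ℕ),
      Killed f (i + 1) m' (g ≫ g₁ ≫ φ) (rs (K.X (d + 1)) (g ≫ g₁) z - appS (K.d d (d + 1)) W' w)) htors
    (fun W₂ g₂ hg₂ => ?_) |>.imp fun T => fun ⟨hT, hT'⟩ => ⟨hT, fun W' g hg => by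
      rw [Category.assoc]; exact hT' g hg⟩
  obtain ⟨n, hn⟩ := hg₂
  obtain ⟨N, hN⟩ := killed_of_killedBy hf (g₂ ≫ g₁ ≫ φ) hn
  have hcl : appS (K.homologyπ (d + 1)) W₂ (rf f (g₂ ≫ g₁ ≫ φ) i ^ N • rs (K.cycles (d + 1)) g₂ c) = 0 := by
    rw [map_smul, appS_res]
    exact hN i i.2
  obtain ⟨S₃, hS₃, h₃⟩ := exists_boundary K d _ hcl
  refine exists_cover_bind (fun W' g => ∃ (w : sect (K.X d) W') (m' : ℕ),
      Killed f (i + 1) m' (g ≫ g₂ ≫ g₁ ≫ φ) (rs (K.X (d + 1)) (g ≫ g₂ ≫ g₁) z - appS (K.d d (d + 1)) W' w)) hS₃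
    (fun W₃ g₃ hg₃ => ?_) |>.imp fun T => fun ⟨hT, hT'⟩ => ⟨hT, fun W' g hg => by
      simp only [Category.assoc]; exact hT' g hg⟩
  obtain ⟨v, hv⟩ := h₃ g₃ hg₃
  rw [map_smul, appS_res, hc, map_val_smul g₃, map_pow, rf_res, map_val_smul g₂, map_pow, rf_res,
    map_val_smul g₃, map_pow, rf_res, smul_smul, ← pow_add, ← map_val_comp] at hv
  have hk₁ : Killed f i m₁ ((g₃ ≫ g₂) ≫ g₁ ≫ φ) (rs (K.X (d + 1)) (g₃ ≫ g₂) z₁) := hw₀.res (g₃ ≫ g₂)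
  have hkv : Killed f i m₁ (g₃ ≫ g₂ ≫ g₁ ≫ φ) (appS (K.d d (d + 1)) W₃ v) := by
    rw [hv]
    refine Killed.smul ?_ _
    simpa only [Category.assoc] using hk₁
  obtain ⟨d, rfl⟩ : ∃ e : ℤ, d = e + 1 := ⟨d - 1, by omega⟩
  obtain ⟨S₄, hS₄, h₄⟩ := hP d (g₃ ≫ g₂ ≫ g₁ ≫ φ) v m₁ hkv
  refine exists_cover_bind (fun W' g => ∃ (w : sect (K.X (d + 1)) W') (m' : ℕ),
      Killed f (i + 1) m' (g ≫ g₃ ≫ g₂ ≫ g₁ ≫ φ)
        (rs (K.X (d + 1 + 1)) (g ≫ g₃ ≫ g₂ ≫ g₁) z - appS (K.d (d + 1) (d + 1 + 1)) W' w)) hS₄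
    (fun W₄ g₄ hg₄ => ?_) |>.imp fun T => fun ⟨hT, hT'⟩ => ⟨hT, fun W' g hg => by
      simp only [Category.assoc]; exact hT' g hg⟩
  obtain ⟨u, m₂, hu⟩ := h₄ g₄ hg₄
  obtain ⟨S₅, hS₅, h₅⟩ := hdiv (d + 1) i m₂ (N + m) (g₄ ≫ g₃ ≫ g₂ ≫ g₁ ≫ φ) _ hu
  refine ⟨S₅, hS₅, fun W₅ g₅ hg₅ => ?_⟩
  obtain ⟨t, k, m₃, ht, ht'⟩ := h₅ g₅ hg₅
  let G := g₅ ≫ g₄
  have hz₁ : rs (K.X (d + 1 + 1)) G (rs (K.X (d + 1 + 1)) (g₃ ≫ g₂) z₁) =
      rs (K.X (d + 1 + 1)) (G ≫ g₃ ≫ g₂ ≫ g₁) z -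
        appS (K.d (d + 1) (d + 1 + 1)) W₅ (rs (K.X (d + 1)) (G ≫ g₃ ≫ g₂) w₀) := by
    simp only [z₁]
    rw [← map_val_comp, map_sub, ← map_val_comp, appS_res]
    simp only [Category.assoc]
  have hG : (g₅ ≫ g₄) ≫ g₃ ≫ g₂ ≫ g₁ ≫ φ = g₅ ≫ g₄ ≫ g₃ ≫ g₂ ≫ g₁ ≫ φ := Category.assoc _ _ _
  refine ⟨rs (K.X (d + 1)) (G ≫ g₃ ≫ g₂) w₀ + t, max (max m₁ m₃) (N + m + k), ?_⟩
  rw [map_add, ← sub_sub, ← hz₁, hG]
  intro j hj
  rcases Nat.lt_succ_iff_lt_or_eq.1 hj with hj | hj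
  · have a₁ : Killed f i m₁ (g₅ ≫ g₄ ≫ g₃ ≫ g₂ ≫ g₁ ≫ φ)
        (rs (K.X (d + 1 + 1)) G (rs (K.X (d + 1 + 1)) (g₃ ≫ g₂) z₁)) := by
      simpa only [G, Category.assoc] using hk₁.res G
    exact ((a₁.mono (le_max_left m₁ m₃)).sub
      ((ht.hom (K.d (d + 1) (d + 1 + 1))).mono (le_max_right m₁ m₃))).mono (le_max_left _ _) j hj
  · obtain rfl : j = i := Fin.ext hj
    obtain ⟨e, he⟩ := exists_add_of_le (le_max_right (max m₁ m₃) (N + m + k))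
    rw [he, add_comm (N + m + k) e, pow_add, mul_smul]
    refine (congrArg (_ • ·) ?_).trans (smul_zero _)
    rw [smul_sub, sub_eq_zero, ← map_smul (appS (K.d (d + 1) (d + 1 + 1)) W₅) _ t, ht', map_smul, appS_res,
      map_sub (appS (K.d (d + 1) (d + 1 + 1)) W₄), appS_res, ← appS_comp (K.d d (d + 1)),
      appS_hom_zero _ (K.d_comp_d _ _ _), sub_zero, ← map_val_comp, hv, map_val_smul g₄, map_pow, rf_res,
      map_val_smul g₅, map_pow, rf_res, smul_smul, ← pow_add, ← map_val_comp, ← map_val_comp]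
    simp only [G, Category.assoc]
    rw [add_comm k (N + m)]

theorem step' (hf : LocGens I f) : ∀ i, i ≤ r → Step K f i := fun i => by
  induction i with
  | zero => exact fun _ => step_zero K
  | succ i ih => exact fun hi => step_succ' K hdiv hK hf ⟨i, hi⟩ (ih (Nat.le_of_succ_le hi))

end

/-- The torsion subcomplex of a complex with locally divisible terms and torsion cohomology is quasi-isomorphic. -/
theorem quasiIso_gammaι_of_isDiv (hK : ∀ d, FTors.IsTors I (K.homology d))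
    (hI : ∀ U : C, ∃ S ∈ J U, ∀ ⦃V : C⦄ (g : V ⟶ U), S g →
      ∃ (r : ℕ) (f : Fin r → O.obj.obj (op V)), LocGens I f ∧ ∀ d, IsDiv (K.X d) f) :
    QuasiIso ((NatTrans.mapHomologicalComplex (FTors.gammaι I) (ComplexShape.up ℤ)).app K) := by
  refine quasiIso_of_sections _ (fun i W x hx => Subtype.ext hx) fun d W z a hza => ?_
  obtain ⟨S, hS, hS'⟩ := hI W
  change appS (K.d (d + 1) (d + 1 + 1)) W z = a.1 at hza
  refine exists_cover_bind (fun W' g => ∃ (w : sect (K.X d) W')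
      (c : sect (((FTors.gamma O I).mapHomologicalComplex (ComplexShape.up ℤ)).obj K |>.X (d + 1)) W'),
      rs (K.X (d + 1)) g z = appS (K.d d (d + 1)) W' w + c.1) hS fun W₁ g₁ hg₁ => ?_
  obtain ⟨r, f, hf, hdiv⟩ := hS' g₁ hg₁
  have ht : FTors.killSieve I (K.X (d + 1 + 1)) (rs (K.X (d + 1 + 1)) g₁ a.1) ∈ J W₁ := a.2.res g₁
  refine exists_cover_bind (fun W' g => ∃ (w : sect (K.X d) W')
      (c : sect (((FTors.gamma O I).mapHomologicalComplex (ComplexShape.up ℤ)).obj K |>.X (d + 1)) W'),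
      rs (K.X (d + 1)) (g ≫ g₁) z = appS (K.d d (d + 1)) W' w + c.1) ht fun W₂ g₂ hg₂ => ?_
  obtain ⟨n, hn⟩ := hg₂
  obtain ⟨m, hm⟩ := killed_of_killedBy hf g₂ hn
  obtain ⟨T, hT, hT'⟩ := step' K hdiv hK hf r le_rfl d g₂ (rs (K.X (d + 1)) (g₂ ≫ g₁) z) m (by
    rw [appS_res, hza, map_val_comp]
    exact hm)
  refine ⟨T, hT, fun W₃ g₃ hg₃ => ?_⟩
  obtain ⟨w, m', hw⟩ := hT' g₃ hg₃
  refine ⟨w, ⟨_, isTorsSect_of_killed hf hw⟩, ?_⟩
  rw [add_sub_cancel, ← map_val_comp]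
  simp only [Category.assoc]

end Groth.Agent.FTorsLib
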