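import Groth.Agent.FTorsLib.ComplDerived
import Groth.Agent.FTorsLib.TorsDiv

/-!
# Local generators of the open ideals of a completion coming from the scheme
-/

set_option autoImplicit false
set_option backward.isDefEq.respectTransparency.types false

universe u

open CategoryTheory CategoryTheory.Limits Opposite TopologicalSpace AlgebraicGeometry

namespace Groth.Agent.FTorsLib

open Groth.Agent.FFormal

variable {𝔛 : FSch.Sys.{u}} (hN : 𝔛.IsLocNoethFormal)

/-- Any generators of the ideal of definition over an affine open are local generators of the open ideals. -/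
theorem locGens_affine_of_span {V : (𝔛.X 0).Opens} (hV : IsAffineOpen V) {r : ℕ} (f : Fin r → Rg hN.1 V)
    (hf : Submodule.span (Rg hN.1 V) (Set.range f) = I hN.1 V) :
    LocGens (FTors.openIdealFam 𝔛 hN.1) f := by
  haveI := FFormal.isNoetherianRing hN.1 hN hV
  have hmem : ∀ j, f j ∈ I hN.1 V := fun j => hf ▸ Submodule.subset_span ⟨j, rfl⟩
  refine ⟨fun n => ⟨n + 1, fun j => ?_⟩, fun N => ?_, fun i m => ?_⟩
  · change f j ^ (n + 1) ∈ RingHom.ker (pr hN.1 n V)
    rw [ker_pr hN.1 hN hV n]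
    exact Ideal.pow_mem_pow (hmem j) _
  · let P : Ideal (Rg hN.1 V) := Ideal.span ((fun j : Fin r => f j ^ N) '' {j | (j : ℕ) < r})
    have hle : I hN.1 V ≤ P.radical := by
      rw [← hf, Submodule.span_le]
      rintro _ ⟨j, rfl⟩
      exact ⟨N, Ideal.subset_span ⟨j, j.2, rfl⟩⟩
    obtain ⟨n, hn⟩ := Ideal.exists_pow_le_of_le_radical_of_fg hle (IsNoetherian.noetherian _)
    refine ⟨n, fun W φ a ha => ?_⟩
    obtain ⟨S, hS, hS'⟩ := exists_affine_cover W
    refine ⟨S, hS, fun W' g hg => ?_⟩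
    obtain ⟨U, hU, hUW, hW'U⟩ : ∃ U : (𝔛.X 0).Opens, IsAffineOpen U ∧ U ≤ W ∧ W' ≤ U := by
      rcases hS' g hg with h | h
      · exact ⟨W', h, g.le, le_rfl⟩
      · exact h
    have ha' : (𝔛.Osh hN.1).obj.map (homOfLE hUW).op a ∈ pre f (homOfLE hUW ≫ φ) r N := by
      have h1 : (𝔛.Osh hN.1).obj.map (homOfLE hUW).op a ∈ RingHom.ker (pr hN.1 n U) :=
        (FTors.openIdealFam 𝔛 hN.1).map_mem n (homOfLE hUW) ha
      rw [ker_pr_eq_map hN.1 hN hU hV (hUW.trans φ.le) n] at h1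
      rw [pre_eq_map hN]
      exact Ideal.map_mono ((Ideal.pow_le_pow_right n.le_succ).trans hn) h1
    have h2 := Ideal.mem_map_of_mem ((𝔛.Osh hN.1).obj.map (homOfLE hW'U).op).hom ha'
    rw [pre_map hN] at h2
    rw [Subsingleton.elim g (homOfLE hW'U ≫ homOfLE hUW), Category.assoc]
    refine Eq.mp ?_ h2
    refine congrArg (· ∈ _) ?_
    exact congr($((𝔛.Osh hN.1).obj.map_comp (homOfLE hUW).op (homOfLE hW'U).op) a).symm
  · let P : Ideal (Rg hN.1 V) := Ideal.span ((fun j : Fin r => f j ^ m) '' {j | (j : ℕ) < (i : ℕ)})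
    let Q : ℕ →o Ideal (Rg hN.1 V) :=
      ⟨fun k => Submodule.comap (LinearMap.mulLeft (Rg hN.1 V) (f i ^ k)) P, fun a b hab c hc => by
        obtain ⟨d, rfl⟩ := exists_add_of_le hab
        rw [Submodule.mem_comap, LinearMap.mulLeft_apply, add_comm, pow_add, mul_assoc]
        exact Ideal.mul_mem_left _ _ hc⟩
    obtain ⟨k, hk⟩ := monotone_stabilizes_iff_noetherian.2 inferInstance Q
    refine ⟨k, fun n W φ a ha => ?_⟩
    obtain ⟨S, hS, hS'⟩ := exists_affine_cover W
    refine ⟨S, hS, fun W' g hg => ?_⟩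
    obtain ⟨U, hU, hUW, hW'U⟩ : ∃ U : (𝔛.X 0).Opens, IsAffineOpen U ∧ U ≤ W ∧ W' ≤ U := by
      rcases hS' g hg with h | h
      · exact ⟨W', h, g.le, le_rfl⟩
      · exact h
    let ψ : U ⟶ V := homOfLE hUW ≫ φ
    have h0 := Ideal.mem_map_of_mem ((𝔛.Osh hN.1).obj.map (homOfLE hUW).op).hom ha
    rw [pre_map hN, map_mul, map_pow, pre_eq_map hN] at h0
    have hb : (𝔛.Osh hN.1).obj.map (homOfLE hUW).op a ∈ (Q (n + k)).map (rsR hN.1 ψ.le) := by
      refine mem_map_colon _ (flat_rsR hN.1 hN hU hV ψ.le) P (IsNoetherian.noetherian _) _ _ ?_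
      rw [map_pow]
      refine Eq.mp ?_ h0
      refine congrArg (fun z : Rg hN.1 U => z ^ (n + k) * _ ∈ _) ?_
      exact (rf_res f φ (homOfLE hUW) i).trans (map_op_apply hN ψ (f i))
    rw [← hk (n + k) (Nat.le_add_left k n)] at hb
    have hb' : rsR hN.1 ψ.le (f i ^ k) * (𝔛.Osh hN.1).obj.map (homOfLE hUW).op a ∈ P.map (rsR hN.1 ψ.le) := by
      have := Ideal.mul_mem_mul (Ideal.mem_map_of_mem (rsR hN.1 ψ.le)
        (Ideal.mem_span_singleton_self (f i ^ k))) hb
      rw [← Ideal.map_mul] at this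
      refine Ideal.map_mono ?_ this
      refine Ideal.mul_le.2 fun x hx y hy => ?_
      obtain ⟨c, rfl⟩ := Ideal.mem_span_singleton'.1 hx
      rw [mul_assoc]
      exact Ideal.mul_mem_left _ _ hy
    rw [← pre_eq_map hN] at hb'
    have h2 := Ideal.mem_map_of_mem ((𝔛.Osh hN.1).obj.map (homOfLE hW'U).op).hom hb'
    rw [pre_map hN] at h2
    rw [Subsingleton.elim g (homOfLE hW'U ≫ homOfLE hUW), Category.assoc]
    refine Eq.mp ?_ h2
    refine congrArg (· ∈ _) ?_
    rw [map_pow, ← map_op_apply hN ψ]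
    change (𝔛.Osh hN.1).obj.map (homOfLE hW'U).op (rf f ψ i ^ k * _) = _
    rw [← rf_res f φ (homOfLE hUW) i, ← map_pow, ← map_mul]
    exact congr($((𝔛.Osh hN.1).obj.map_comp (homOfLE hUW).op (homOfLE hW'U).op) (rf f φ i ^ k * a)).symm

namespace Compl

open Groth.Agent.PullFlatStalk (preU)

variable {X : Scheme.{u}} {𝓘 : X.IdealSheafData} (hX : (FSch.completionAlong X 𝓘).IsFormal) [IsLocallyNoetherian X]

/-- Generators of the ideal over an affine open give local generators on the completion. -/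
theorem locGens_cs (V : X.affineOpens) {r : ℕ} (f : Fin r → Γ(X, V.1))
    (hf : Submodule.span Γ(X, V.1) (Set.range f) = 𝓘.ideal V) :
    LocGens (FTors.openIdealFam (FSch.completionAlong X 𝓘) hX) (fun j => cs hX V.1 (f j)) := by
  refine locGens_affine_of_span (Adic.ComplAlong.isLocNoethFormal (X := X) 𝓘) (isAffineOpen_preU V) _ ?_
  show Ideal.span (Set.range ((cs hX V.1) ∘ f)) = RingHom.ker (pr hX 0 (preU X 𝓘 V.1))
  rw [Set.range_comp, ← Ideal.map_span, ker_pr_preU hX 0 V, zero_add, pow_one]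
  exact congrArg _ hf

/-- On an affine open, generators of the ideal give local generators of the family of powers. -/
theorem locGens_pow_of_span (V : X.affineOpens) {r : ℕ} (f : Fin r → Γ(X, V.1))
    (hf : Submodule.span Γ(X, V.1) (Set.range f) = 𝓘.ideal V) :
    LocGens (FTors.powIdealFam X 𝓘) (fun j => (show X.sheaf.obj.obj (op V.1) from f j)) := by
  haveI : IsNoetherianRing Γ(X, V.1) := IsLocallyNoetherian.component_noetherian V
  have hmem : ∀ j, f j ∈ 𝓘.ideal V := fun j => hf ▸ Submodule.subset_span ⟨j, rfl⟩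
  have cover : ∀ (W : X.Opens), ∃ S ∈ Opens.grothendieckTopology X W, ∀ ⦃W' : X.Opens⦄ (g : W' ⟶ W), S g →
      ∃ U : X.Opens, IsAffineOpen U ∧ U ≤ W ∧ W' ≤ U := fun W => by
    refine ⟨{ arrows := fun W' _ => ∃ U : X.Opens, IsAffineOpen U ∧ U ≤ W ∧ W' ≤ U
              downward_closed := fun {A B} f ⟨U, h1, h2, h3⟩ g => ⟨U, h1, h2, g.le.trans h3⟩ }, fun x hx => ?_,
      fun W' g hg => hg⟩
    obtain ⟨U, hU, hxU, hle⟩ := exists_isAffineOpen_mem_and_subset (x := x) (U := W) hx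
    exact ⟨U, homOfLE hle, ⟨U, hU, hle, le_rfl⟩, hxU⟩
  refine ⟨fun n => ⟨n, fun j => ?_⟩, fun N => ?_, fun i m => ?_⟩
  · exact (mem_powIdeal_affine n V _).2 (Ideal.pow_mem_pow (hmem j) _)
  · let P : Ideal Γ(X, V.1) := Ideal.span ((fun j : Fin r => f j ^ N) '' {j | (j : ℕ) < r})
    have hle : 𝓘.ideal V ≤ P.radical := by
      rw [← hf, Submodule.span_le]
      rintro _ ⟨j, rfl⟩
      exact ⟨N, Ideal.subset_span ⟨j, j.2, rfl⟩⟩
    obtain ⟨n, hn⟩ := Ideal.exists_pow_le_of_le_radical_of_fg hle (IsNoetherian.noetherian _)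
    refine ⟨n, fun W φ a ha => ?_⟩
    obtain ⟨S, hS, hS'⟩ := cover W
    refine ⟨S, hS, fun W' g hg => ?_⟩
    obtain ⟨U, hU, hUW, hW'U⟩ := hS' g hg
    have h1 := (FTors.mem_powIdealFam_iff X 𝓘 n W a).1 ha ⟨U, hU⟩ hUW
    rw [ideal_pow_eq_map (V := V) (hUW.trans φ.le)] at h1
    have h2 := Ideal.mem_map_of_mem (rsX hW'U) (Ideal.map_mono hn h1)
    rw [Ideal.map_map] at h2
    have e : (rsX hW'U).comp (rsX (hUW.trans φ.le)) = rsX (g ≫ φ).le :=
      RingHom.ext fun b => rsX_trans _ _ b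
    rw [e, ← pre_eq_map' (fun j => f j) (g ≫ φ) r N] at h2
    refine Eq.mp ?_ h2
    refine congrArg (· ∈ _) ?_
    exact (rsX_trans hW'U hUW a).trans (map_eq_rsX g a).symm
  · let P : Ideal Γ(X, V.1) := Ideal.span ((fun j : Fin r => f j ^ m) '' {j | (j : ℕ) < (i : ℕ)})
    let Q : ℕ →o Ideal Γ(X, V.1) :=
      ⟨fun k => Submodule.comap (LinearMap.mulLeft Γ(X, V.1) (f i ^ k)) P, fun a b hab c hc => by
        obtain ⟨d, rfl⟩ := exists_add_of_le hab
        rw [Submodule.mem_comap, LinearMap.mulLeft_apply, add_comm, pow_add, mul_assoc]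
        exact Ideal.mul_mem_left _ _ hc⟩
    obtain ⟨k, hk⟩ := monotone_stabilizes_iff_noetherian.2 inferInstance Q
    refine ⟨k, fun n W φ a ha => ?_⟩
    obtain ⟨S, hS, hS'⟩ := cover W
    refine ⟨S, hS, fun W' g hg => ?_⟩
    obtain ⟨U, hU, hUW, hW'U⟩ := hS' g hg
    have hUV : U ≤ V.1 := hUW.trans φ.le
    have hcomp : ∀ {A : X.Opens} (h : A ≤ W), (rsX h).comp (rsX φ.le) = rsX (h.trans φ.le) := fun h =>
      RingHom.ext fun b => rsX_trans h φ.le b
    have hrf : (show Γ(X, W) from (X.sheaf.obj.map φ.op).hom (f i)) = rsX φ.le (f i) := map_eq_rsX φ (f i)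
    have ha' : rsX φ.le (f i) ^ (n + k) * (show Γ(X, W) from a) ∈ P.map (rsX φ.le) := by
      rw [← hrf, ← pre_eq_map' (fun j => f j) φ i m]
      exact ha
    have h0 := Ideal.mem_map_of_mem (rsX hUW) ha'
    rw [Ideal.map_map, hcomp hUW, map_mul, map_pow, rsX_trans, ← map_pow] at h0
    have hb : rsX hUW (show Γ(X, W) from a) ∈ (Q (n + k)).map (rsX hUV) :=
      mem_map_colon _ (flat_rsX hU V.2 hUV) P (IsNoetherian.noetherian _) _ _ h0
    rw [← hk (n + k) (Nat.le_add_left k n)] at hb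
    have hb' : rsX hUV (f i ^ k) * rsX hUW (show Γ(X, W) from a) ∈ P.map (rsX hUV) := by
      have := Ideal.mul_mem_mul (Ideal.mem_map_of_mem (rsX hUV) (Ideal.mem_span_singleton_self (f i ^ k))) hb
      rw [← Ideal.map_mul] at this
      refine Ideal.map_mono ?_ this
      refine Ideal.mul_le.2 fun x hx y hy => ?_
      obtain ⟨c, rfl⟩ := Ideal.mem_span_singleton'.1 hx
      rw [mul_assoc]
      exact Ideal.mul_mem_left _ _ hy
    have h2 := Ideal.mem_map_of_mem (rsX hW'U) hb'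
    have hcomp2 : (rsX hW'U).comp (rsX hUV) = rsX (g ≫ φ).le := RingHom.ext fun b => rsX_trans _ _ b
    rw [Ideal.map_map, hcomp2, map_mul, rsX_trans, rsX_trans, ← pre_eq_map' (fun j => f j) (g ≫ φ) i m] at h2
    refine Eq.mp ?_ h2
    refine congrArg (· ∈ _) ?_
    refine Eq.trans ?_ (map_eq_rsX g _).symm
    refine ((map_mul (rsX g.le) _ _).trans (congrArg (· * _) ?_)).symm
    exact ((congrArg (fun t => rsX g.le (t ^ k)) hrf).trans (by rw [← map_pow, rsX_trans]))

/-- Around every point there are generators of the ideal which work on the scheme and on the completion. -/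
theorem exists_gens (V : X.affineOpens) :
    ∃ (r : ℕ) (f : Fin r → X.sheaf.obj.obj (op V.1)), LocGens (FTors.powIdealFam X 𝓘) f ∧
      LocGens (FTors.openIdealFam (FSch.completionAlong X 𝓘) hX) (fun j => cs hX V.1 (f j)) := by
  haveI : IsNoetherianRing Γ(X, V.1) := IsLocallyNoetherian.component_noetherian V
  obtain ⟨r, f, hf⟩ := Submodule.fg_iff_exists_fin_generating_family.1 (IsNoetherian.noetherian (𝓘.ideal V))
  exact ⟨r, f, locGens_pow_of_span V f hf, locGens_cs hX V f hf⟩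

end Compl

end Groth.Agent.FTorsLib
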