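import Groth.Agent.FTorsLib.ComplTors
import Groth.Agent.LocPres.Space

/-!
# The inverse image of a module to the completion, on sections
-/

set_option autoImplicit false
set_option backward.isDefEq.respectTransparency.types false

universe u

open CategoryTheory CategoryTheory.Limits Opposite TopologicalSpace AlgebraicGeometry ModSite
open scoped TensorProduct

namespace Groth.Agent.FTorsLib.Compl

open Groth.Agent.PullFlatStalk (complSharp preU)
open Groth.Agent.FFormal (Rg pr)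
open Groth.Agent.ModFlat (rs map_val_smul map_val_comp map_ring_comp germ_rs germRing_res)
open Groth.Agent.LocPres (ptIn)
open Groth.Agent.PullFlat

variable {X : Scheme.{u}} {𝓘 : X.IdealSheafData} (hX : (FSch.completionAlong X 𝓘).IsFormal)
  (N : ModSite.Mod X.sheaf)

/-- The tautological section of the inverse image over the trace of an open. -/
noncomputable abbrev eta (W : X.Opens) (m : sect N W) : sect ((kap hX).pull.obj N) (preU X 𝓘 W) :=
  etaS (kap hX) N W m

theorem eta_rs {W U : X.Opens} (h : W ≤ U) (m : sect N U) :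
    eta hX N W (rs N (homOfLE h) m) = rs ((kap hX).pull.obj N) (preMap h) (eta hX N U m) :=
  (etaS_map (kap hX) N (homOfLE h) m).trans (rs_eq _ _ _ _)

theorem eta_smul (W : X.Opens) (b : Γ(X, W)) (m : sect N W) :
    eta hX N W ((show X.sheaf.obj.obj (op W) from b) • m) = cs hX W b • eta hX N W m :=
  etaS_smul (kap hX) N W _ m

/-- Restriction of functions of the completion. -/
noncomputable abbrev rsC {V U : ((FSch.completionAlong X 𝓘).X 0).Opens} (g : V ⟶ U) : Rg hX U →+* Rg hX V :=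
  (((FSch.completionAlong X 𝓘).Osh hX).obj.map g.op).hom

theorem rs_sum_eta {W W' : X.Opens} (h : W' ≤ W) {n : ℕ} (r : Fin n → Rg hX (preU X 𝓘 W))
    (m : Fin n → sect N W) :
    rs ((kap hX).pull.obj N) (preMap h) (∑ l, r l • eta hX N W (m l)) =
      ∑ l, rsC hX (preMap h) (r l) • eta hX N W' (rs N (homOfLE h) (m l)) :=
  (map_sum _ _ _).trans (Finset.sum_congr rfl fun l _ =>
    (map_val_smul _ _ _).trans (congrArg (_ • ·) (eta_rs hX N h (m l)).symm))

/-- A section of the inverse image is near every point a combination of tautological sections over an affine open. -/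
theorem exists_repr {V : ((FSch.completionAlong X 𝓘).X 0).Opens} (z : sect ((kap hX).pull.obj N) V)
    {x : (FSch.completionAlong X 𝓘).X 0} (hx : x ∈ V) {U : X.Opens} (hxU : FSch.completionToX X 𝓘 0 x ∈ U) :
    ∃ (W : X.affineOpens) (hWV : preU X 𝓘 W.1 ≤ V), FSch.completionToX X 𝓘 0 x ∈ W.1 ∧ W.1 ≤ U ∧
      ∃ (n : ℕ) (r : Fin n → Rg hX (preU X 𝓘 W.1)) (m : Fin n → sect N W.1),
        rs ((kap hX).pull.obj N) (homOfLE hWV) z = ∑ l, r l • eta hX N W.1 (m l) := by
  obtain ⟨S, hS, hS'⟩ := exists_local_repr (kap hX) N z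
  obtain ⟨V', g, hg, hxV'⟩ := hS x hx
  obtain ⟨n, G, c, hz⟩ := hS' g hg
  let U' : X.Opens := U ⊓ ⟨⋂ l, ((G l).1 : Set X), isOpen_iInter_of_finite fun l => (G l).1.2⟩
  have hxU' : FSch.completionToX X 𝓘 0 x ∈ U' := ⟨hxU, Set.mem_iInter.2 fun l => (G l).2.1.le hxV'⟩
  obtain ⟨W, hxW, hWU', hWV'⟩ := exists_affine_nhd hxV' hxU'
  have hl : ∀ l, W.1 ≤ (G l).1 := fun l y hy => Set.mem_iInter.1 (hWU' hy).2 l
  refine ⟨W, hWV'.trans g.le, hxW, fun y hy => (hWU' hy).1, n, fun l => rsC hX (homOfLE hWV') (c l),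
    fun l => rs N (homOfLE (hl l)) (G l).2.2, ?_⟩
  rw [rs_eq _ (homOfLE (hWV'.trans g.le)) (homOfLE hWV' ≫ g) z, map_val_comp, hz, map_sum]
  refine Finset.sum_congr rfl fun l _ => ?_
  rw [map_val_smul, eta_rs, genVal, ← map_val_comp]
  exact congrArg (_ • ·) (rs_eq _ _ _ _)

variable [IsLocallyNoetherian X]

/-- The stalk maps of the completion are flat. -/
theorem flat_stalkHom (x : (FSch.completionAlong X 𝓘).X 0) :
    (PullFlatStalk.stalkHom (FSch.completionToX X 𝓘 0).base (complSharp X 𝓘 hX) x).Flat := by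
  unfold PullFlatStalk.stalkHom
  rw [CommRingCat.hom_comp]
  exact RingHom.Flat.comp (RingHom.Flat.of_bijective (ConcreteCategory.bijective_of_isIso
    (InjMod.PointStalk.fiberIso ((FSch.completionToX X 𝓘 0).base x) X.sheaf.obj).hom))
    (PullFlatStalk.flat_stalk X 𝓘 hX x)

/-- A vanishing combination of tautological sections comes, near every point, from relations on the scheme. -/
theorem exists_relations_nhd (W : X.Opens) {x : (FSch.completionAlong X 𝓘).X 0}
    (hx : FSch.completionToX X 𝓘 0 x ∈ W) {n : ℕ} (r : Fin n → Rg hX (preU X 𝓘 W)) (m : Fin n → sect N W)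
    (h : ∑ l, r l • eta hX N W (m l) = 0) :
    ∃ (W' : X.affineOpens) (hW' : W'.1 ≤ W) (k : ℕ) (s : Fin k → Fin n → Γ(X, W'.1))
      (d : Fin k → Rg hX (preU X 𝓘 W'.1)), FSch.completionToX X 𝓘 0 x ∈ W'.1 ∧
      (∀ j, ∑ l, (show X.sheaf.obj.obj (op W'.1) from s j l) • rs N (homOfLE hW') (m l) = 0) ∧
      ∀ l, rsC hX (preMap hW') (r l) = ∑ j, d j * cs hX W'.1 (s j l) := by
  classical
  let φ := (FSch.completionToX X 𝓘 0).base
  let c := complSharp X 𝓘 hX
  let O := ((FSch.completionAlong X 𝓘).Osh hX).obj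
  let p := PullFlatStalk.pt φ x
  let G : Fin n → Gen (kap hX) N (preU X 𝓘 W) := fun l => ⟨W, 𝟙 _, m l⟩
  have hG : ∑ l, r l • genVal (kap hX) N (G l) = 0 :=
    (Finset.sum_congr rfl fun l _ => congrArg (r l • ·) (rs_id _ _ _)).trans h
  letI := PullFlatStalk.stalkAlgebra φ c x
  haveI : Module.Flat (stalkRing (PullFlatStalk.pt φ x) X.sheaf)
      (TopCat.Presheaf.stalk (C := CommRingCat.{u}) O x) := flat_stalkHom hX x
  have h1 := PullFlatStalk.evalT_eq_zero φ c N x (W := preU X 𝓘 W) hx G r hG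
  rw [PullFlatStalk.evalT_comb] at h1
  obtain ⟨k, κ, d, hκ, hd⟩ := PullFlatStalk.exists_relations (R := stalkRing (PullFlatStalk.pt φ x) X.sheaf) _ _ h1
  obtain ⟨V₁, g₁, hV₁, hs⟩ := LocPres.exists_fun_nhd (O := X.sheaf) (U := W) hx
    (fun i : Fin (k * n) => κ (finProdFinEquiv.symm i).1 (finProdFinEquiv.symm i).2)
  choose s₁ hs₁ using hs
  let s : Fin k → Fin n → X.sheaf.obj.obj (op V₁) := fun j l => s₁ (finProdFinEquiv (j, l))
  have hsg : ∀ j l, germRing p V₁ (ptIn hV₁) (s j l) = κ j l := fun j l =>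
    (hs₁ _).trans (by rw [Equiv.symm_apply_apply])
  obtain ⟨V₂, g₂, hV₂, hrel⟩ := LocPres.exists_eq_nhd (F := N) hV₁ (fun j => ∑ l, s j l • rs N g₁ (m l))
    (fun _ => 0) (fun j => by
      refine (Groth.Agent.ModFlat.germ_sum (ptIn hV₁) _ _).trans (Eq.trans ?_
        ((hκ j).trans (map_zero (p.toPresheafFiber V₁ (ptIn hV₁) (toAb N).obj).hom).symm))
      exact Finset.sum_congr rfl fun l _ => congrArg₂ (· • ·) (hsg j l) (germ_rs (p := p) rfl _))
  choose Dd hxD dd hdd using fun j => TopCat.Presheaf.exists_germ_eq (C := CommRingCat.{u}) O (d j)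
  let V₀ : ((FSch.completionAlong X 𝓘).X 0).Opens :=
    preU X 𝓘 V₂ ⊓ ⟨⋂ j, (Dd j : Set ((FSch.completionAlong X 𝓘).X 0)), isOpen_iInter_of_finite fun j => (Dd j).2⟩
  have hx₀ : x ∈ V₀ := ⟨hV₂, Set.mem_iInter.2 hxD⟩
  let gW : V₀ ⟶ preU X 𝓘 W := homOfLE fun y hy => g₁.le (g₂.le hy.1)
  let g12 : V₀ ⟶ preU X 𝓘 V₁ := homOfLE fun y hy => g₂.le hy.1
  let gD : ∀ j, V₀ ⟶ Dd j := fun j => homOfLE fun y hy => Set.mem_iInter.1 hy.2 j
  have he : ∀ l, (TopCat.Presheaf.germ (C := CommRingCat.{u}) O V₀ x hx₀).hom (rsC hX gW (r l)) =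
      (TopCat.Presheaf.germ (C := CommRingCat.{u}) O V₀ x hx₀).hom
        (∑ j, rsC hX (gD j) (dd j) * rsC hX g12 (cs hX V₁ (s j l))) := fun l => by
    rw [map_sum, TopCat.Presheaf.germ_res_apply (C := CommRingCat.{u}) O gW x hx₀, hd l]
    refine Finset.sum_congr rfl fun j _ => ?_
    rw [map_mul, TopCat.Presheaf.germ_res_apply (C := CommRingCat.{u}) O (gD j) x hx₀, hdd j, ← hsg j l,
      TopCat.Presheaf.germ_res_apply (C := CommRingCat.{u}) O g12 x hx₀]
    exact congrArg (d j * ·) (PullFlatStalk.stalkHom_germ φ c x hV₁ (s j l))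
  choose Wl hxl il il' hl using fun l => TopCat.Presheaf.germ_eq (C := CommRingCat.{u}) O x hx₀ hx₀ _ _ (he l)
  let V₃ : ((FSch.completionAlong X 𝓘).X 0).Opens :=
    V₀ ⊓ ⟨⋂ l, (Wl l : Set ((FSch.completionAlong X 𝓘).X 0)), isOpen_iInter_of_finite fun l => (Wl l).2⟩
  obtain ⟨W', hxW', hW'₂, hW'₃⟩ := exists_affine_nhd (V := V₃) ⟨hx₀, Set.mem_iInter.2 hxl⟩ (U := V₂) hV₂
  have hW'1 : W'.1 ≤ V₁ := hW'₂.trans g₂.le
  have hW'0 : preU X 𝓘 W'.1 ≤ V₀ := fun y hy => (hW'₃ hy).1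
  let g : ∀ l, preU X 𝓘 W'.1 ⟶ Wl l := fun l => homOfLE fun y hy => Set.mem_iInter.1 (hW'₃ hy).2 l
  refine ⟨W', hW'1.trans g₁.le, k, fun j l => (X.presheaf.map (homOfLE hW'1).op).hom (s j l),
    fun j => rsC hX (homOfLE hW'0 ≫ gD j) (dd j), hxW', fun j => ?_, fun l => ?_⟩
  · have h3 := congrArg (rs N (homOfLE hW'₂)) (hrel j)
    simp only [map_zero, map_sum, map_val_smul] at h3
    refine Eq.trans (Finset.sum_congr rfl fun l _ => ?_) h3
    refine congrArg₂ (· • ·) ?_ ?_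
    · exact (map_ring_comp (O := X.sheaf) (homOfLE hW'₂) g₂ (s j l))
    · exact (rs_eq N _ (homOfLE hW'₂ ≫ g₂ ≫ g₁) _).trans
        ((map_val_comp _ _ _).trans (congrArg _ (map_val_comp _ _ _)))
  · have h4 := congrArg (rsC hX (g l)) (hl l)
    change rsC hX (g l) (rsC hX (il l) _) = rsC hX (g l) (rsC hX (il' l) _) at h4
    have hcomp : ∀ {A B D : ((FSch.completionAlong X 𝓘).X 0).Opens} (a : A ⟶ B) (b : B ⟶ D) (c' : A ⟶ D)
        (t : Rg hX D), rsC hX a (rsC hX b t) = rsC hX c' t := fun a b c' t => by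
      rw [Subsingleton.elim c' (a ≫ b)]
      exact (map_ring_comp (O := (FSch.completionAlong X 𝓘).Osh hX) a b t).symm
    simp only [map_sum, map_mul] at h4
    refine Eq.trans ?_ (h4.trans (Finset.sum_congr rfl fun j _ => ?_))
    · rw [hcomp (il l) gW (il l ≫ gW), hcomp (g l) (il l ≫ gW) (preMap (hW'1.trans g₁.le))]
    · rw [hcomp (il' l) (gD j) (il' l ≫ gD j), hcomp (g l) (il' l ≫ gD j) (homOfLE hW'0 ≫ gD j),
        hcomp (il' l) g12 (il' l ≫ g12), hcomp (g l) (il' l ≫ g12) (preMap hW'1), cs_res hX hW'1 (s j l)]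

end Groth.Agent.FTorsLib.Compl
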