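import Groth.Agent.SitePull.Stable
import Mathlib.CategoryTheory.Preadditive.Injective.Preserves
import Mathlib.Algebra.Category.ModuleCat.Presheaf.Abelian

/-!
# Divisibility in injective sheaves of modules
-/

set_option autoImplicit false
set_option backward.isDefEq.respectTransparency.types false

universe u

open CategoryTheory CategoryTheory.Limits Opposite ModSite

namespace Groth.Agent.FTorsLib

open Groth.Agent.KFlat Groth.Agent.PullFlat
open Groth.Agent.ModFlat (rs map_val_comp)

variable {C : Type u} [SmallCategory C] {J : GrothendieckTopology C} {O : Sheaf J CommRingCat.{u}}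

/-- The presheaf of types of `r` copies of the maps into `V`. -/
def copies (r : ℕ) (V : C) : Cᵒᵖ ⥤ Type u where
  obj W := Fin r × (W.unop ⟶ V)
  map f := ↾fun p => (p.1, f.unop ≫ p.2)

/-- An injective module is injective as a presheaf of modules. -/
theorem injective_val (I : Mod O) [Injective I] : Injective I.val := by
  haveI : (shPre O).PreservesMonomorphisms := by
    haveI : PreservesFiniteLimits (shPre O) :=
      inferInstanceAs (PreservesFiniteLimits (PresheafOfModules.sheafification (𝟙 (ringSh O).obj)))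
    infer_instance
  exact Injective.injective_of_adjoint (preAdj O) I

/-- In an injective module a system `g j • t = y j` is solvable as soon as every relation among the `g j`
is satisfied by the `y j`. -/
theorem exists_smul_eq (I : Mod O) [Injective I] {V : C} {r : ℕ} (g : Fin r → O.obj.obj (op V))
    (y : Fin r → sect I V)
    (hrel : ∀ ⦃W : C⦄ (φ : W ⟶ V) (a : Fin r → O.obj.obj (op W)),
      ∑ j, a j * O.obj.map φ.op (g j) = 0 → ∑ j, a j • rs I φ (y j) = 0) :
    ∃ t : sect I V, ∀ j, g j • t = y j := by
  classical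
  haveI := injective_val I
  let R := (ringSh O).obj
  let P : PresheafOfModules.{u} R := (PresheafOfModules.free R).obj (yoneda.obj V)
  let P' : PresheafOfModules.{u} R := (PresheafOfModules.free R).obj (copies r V)
  let gs : ∀ W : Cᵒᵖ, Fin r × (W.unop ⟶ V) → R.obj W := fun W p => O.obj.map p.2.op (g p.1)
  let k : P' ⟶ P := PresheafOfModules.freeObjDesc
    { app := fun W => ↾fun p => (Finsupp.single p.2 (gs W p) : (W.unop ⟶ V) →₀ R.obj W)
      naturality := fun W W' f => by
        ext p
        change (Finsupp.single (f.unop ≫ p.2) (gs W' (p.1, f.unop ≫ p.2)) : (W'.unop ⟶ V) →₀ R.obj W') =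
          (P.map f).hom (Finsupp.single p.2 (gs W p) : (W.unop ⟶ V) →₀ R.obj W)
        have e : (Finsupp.single p.2 (gs W p) : (W.unop ⟶ V) →₀ R.obj W) =
            gs W p • (ModuleCat.freeMk p.2 : P.obj W) :=
          ((Finsupp.smul_single' (gs W p) p.2 1).trans (by rw [mul_one])).symm
        rw [e]
        refine Eq.trans ?_ ((P.map f).hom.map_smul (gs W p) (ModuleCat.freeMk p.2 : P.obj W)).symm
        have e2 : (P.map f).hom (ModuleCat.freeMk p.2 : P.obj W) =
            (ModuleCat.freeMk (f.unop ≫ p.2) : P.obj W') :=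
          ModuleCat.freeDesc_apply (R := R.obj W) (M := (ModuleCat.restrictScalars (R.map f).hom).obj (P.obj W'))
            (↾fun x => ModuleCat.freeMk ((yoneda.obj V).map f x)) p.2
        rw [e2]
        change _ = (show R.obj W' from (R.map f).hom (gs W p)) • (ModuleCat.freeMk (f.unop ≫ p.2) : P.obj W')
        refine Eq.trans ?_ ((Finsupp.smul_single' _ (f.unop ≫ p.2) 1).trans (by rw [mul_one])).symm
        exact congrArg (Finsupp.single (f.unop ≫ p.2)) congr($(O.obj.map_comp p.2.op f) (g p.1)) }
  let η : P' ⟶ I.val := PresheafOfModules.freeObjDesc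
    { app := fun W => ↾fun p => rs I p.2 (y p.1)
      naturality := fun W W' f => by
        ext p
        exact map_val_comp (F := I) f.unop p.2 (y p.1) }
  have hdesc : ∀ (W : Cᵒᵖ) (N : ModuleCat.{u} (R.obj W)) (φ : (Fin r × (W.unop ⟶ V)) → N)
      (e : (Fin r × (W.unop ⟶ V)) →₀ R.obj W),
      (ModuleCat.freeDesc (R := R.obj W) (↾φ)).hom e = e.sum fun p c => c • φ p := by
    intro W N φ e
    induction e using Finsupp.induction_linear with
    | zero => exact (map_zero (ModuleCat.freeDesc (R := R.obj W) (↾φ)).hom).trans Finsupp.sum_zero_index.symm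
    | add x z hx hz =>
      refine Eq.trans ?_ (Finsupp.sum_add_index' (h := fun p c => c • φ p) (fun p => zero_smul _ _)
        (fun p c d => add_smul _ _ _)).symm
      exact (map_add (ModuleCat.freeDesc (R := R.obj W) (↾φ)).hom x z).trans (congrArg₂ (· + ·) hx hz)
    | single p c =>
      refine Eq.trans ?_ (Finsupp.sum_single_index (h := fun p c => c • φ p) (zero_smul _ _)).symm
      have : (Finsupp.single p c : (Fin r × (W.unop ⟶ V)) →₀ R.obj W) =
          c • (ModuleCat.freeMk p : (ModuleCat.free (R.obj W)).obj (Fin r × (W.unop ⟶ V))) :=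
        ((Finsupp.smul_single' c p 1).trans (by rw [mul_one])).symm
      rw [this]
      exact (map_smul _ c _).trans (congrArg (c • ·) (ModuleCat.freeDesc_apply _ p))
  have hker : kernel.ι k ≫ η = 0 := by
    refine PresheafOfModules.hom_ext fun W => ModuleCat.hom_ext (LinearMap.ext fun z => ?_)
    change η.app W ((kernel.ι k).app W z) = 0
    have hz : k.app W ((kernel.ι k).app W z) = 0 :=
      congr(($(kernel.condition k)).app W z)
    revert hz
    generalize (kernel.ι k).app W z = e
    intro hz
    let F : (Fin r × (W.unop ⟶ V)) →₀ R.obj W := e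
    have hk : ((F.sum fun p c => c • Finsupp.single p.2 (gs W p)) : (W.unop ⟶ V) →₀ R.obj W) = 0 :=
      (hdesc W (P.obj W) (fun p => (Finsupp.single p.2 (gs W p) : (W.unop ⟶ V) →₀ R.obj W)) F).symm.trans hz
    refine (hdesc W (I.val.obj W) (fun p => rs I p.2 (y p.1)) F).trans ?_
    let T : Finset (W.unop ⟶ V) := F.support.image Prod.snd
    have hsub : F.support ⊆ Finset.univ ×ˢ T := fun p hp =>
      Finset.mem_product.2 ⟨Finset.mem_univ _, Finset.mem_image_of_mem _ hp⟩
    refine ((Finsupp.sum_of_support_subset F hsub (fun p c => c • (show I.val.obj W from rs I p.2 (y p.1)))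
      (fun p _ => zero_smul _ _)).trans (Finset.sum_product_right ..)).trans ?_
    refine Finset.sum_eq_zero fun φ hφ => hrel φ (fun j => F (j, φ)) ?_
    have hk' := (Finset.sum_product_right ..).symm.trans ((Finsupp.sum_of_support_subset F hsub
      (fun p c => c • (Finsupp.single p.2 (gs W p) : (W.unop ⟶ V) →₀ R.obj W)) (fun p _ => zero_smul _ _)).symm.trans hk)
    have h2 := congrArg (fun v : (W.unop ⟶ V) →₀ R.obj W => v φ) hk'
    simp only [Finsupp.coe_finsetSum, Finset.sum_apply, Finsupp.smul_apply, smul_eq_mul, Finsupp.zero_apply] at h2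
    rw [Finset.sum_eq_single φ (fun φ' _ hne => Finset.sum_eq_zero fun j _ => by
        rw [Finsupp.single_eq_of_ne hne.symm, mul_zero]) (fun h => absurd hφ h)] at h2
    refine Eq.trans (Finset.sum_congr rfl fun j _ => ?_) h2
    rw [Finsupp.single_eq_same]
    rfl
  obtain ⟨τ, hτ⟩ : ∃ τ : P ⟶ I.val, k ≫ τ = η := by
    refine ⟨Injective.factorThru (cokernel.desc (kernel.ι k) η hker) (Abelian.factorThruCoimage k), ?_⟩
    exact (congrArg (· ≫ Injective.factorThru _ _) (Abelian.coimage.fac k).symm).trans
      ((Category.assoc _ _ _).trans ((congrArg (_ ≫ ·) (Injective.comp_factorThru _ _)).trans (cokernel.π_desc _ _ _)))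
  refine ⟨PresheafOfModules.freeYonedaEquiv τ, fun j => ?_⟩
  have h1 := congr(($hτ).app (op V) (ModuleCat.freeMk ((j, 𝟙 V) : Fin r × (V ⟶ V))))
  have e1 : k.app (op V) (ModuleCat.freeMk ((j, 𝟙 V) : Fin r × (V ⟶ V))) =
      (show R.obj (op V) from g j) • (ModuleCat.freeMk (𝟙 V) : P.obj (op V)) :=
    (ModuleCat.freeDesc_apply _ _).trans (by
      refine Eq.trans ?_ ((Finsupp.smul_single' _ (𝟙 V) 1).trans (by rw [mul_one])).symm
      exact congrArg (Finsupp.single (𝟙 V)) congr($(O.obj.map_id (op V)) (g j)))
  have e2 : η.app (op V) (ModuleCat.freeMk ((j, 𝟙 V) : Fin r × (V ⟶ V))) = y j :=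
    (ModuleCat.freeDesc_apply _ _).trans (rs_id I V (y j))
  rw [← e2, ← h1]
  exact ((map_smul (τ.app (op V)).hom (show R.obj (op V) from g j) _).symm.trans
    (congrArg (τ.app (op V)).hom e1.symm))

end Groth.Agent.FTorsLib
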