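import Groth.Agent.SitePull.Stable
import Mathlib.Algebra.Homology.QuasiIso
import Mathlib.Algebra.Homology.HomotopyCategory.DegreewiseSplit

/-!
# Exactness of complexes of sheaves of modules, in terms of sections
-/

set_option autoImplicit false

universe u

open CategoryTheory CategoryTheory.Limits Opposite ModSite

namespace Groth.Agent.FTorsLib

open Groth.Agent.KFlat Groth.Agent.PullFlat
open Groth.Agent.ModFlat (rs map_val_comp)

variable {C : Type u} [SmallCategory C] {J : GrothendieckTopology C} {O : Sheaf J CommRingCat.{u}}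

theorem appS_hom_zero {F G : Mod O} {U : C} (φ : F ⟶ G) (h : φ = 0) (x : sect F U) : appS φ U x = 0 := by
  rw [h, appS_zero]

/-- Exactness from local preimages. -/
theorem exact_of_locally (S : ShortComplex (Mod O))
    (h : ∀ (V : C) (z : sect S.X₂ V), appS S.g V z = 0 →
      ∃ T ∈ J V, ∀ ⦃W : C⦄ (g : W ⟶ V), T g → ∃ y, appS S.f W y = rs S.X₂ g z) : S.Exact := by
  rw [ShortComplex.exact_iff_kernel_ι_comp_cokernel_π_zero]
  refine SheafOfModules.hom_ext (PresheafOfModules.hom_ext fun U => ModuleCat.hom_ext (LinearMap.ext fun k => ?_))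
  obtain ⟨T, hT, hy⟩ := h U.unop (appS (kernel.ι S.g) U.unop k)
    ((appS_comp (kernel.ι S.g) S.g k).symm.trans (appS_hom_zero _ (kernel.condition S.g) k))
  refine (appS_comp (kernel.ι S.g) (cokernel.π S.f) (U := U.unop) k).trans
    (eq_zero_of_locally _ hT _ fun W g hg => ?_)
  obtain ⟨y, hy⟩ := hy g hg
  rw [← appS_res, ← hy, ← appS_comp]
  exact appS_hom_zero _ (cokernel.condition S.f) y

/-- A section killed by the second map of an exact sequence is locally in the image of the first. -/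
theorem exists_preimage {S : ShortComplex (Mod O)} (hS : S.Exact) {V : C} (z : sect S.X₂ V)
    (hz : appS S.g V z = 0) :
    ∃ T ∈ J V, ∀ ⦃W : C⦄ (g : W ⟶ V), T g → ∃ y, appS S.f W y = rs S.X₂ g z := by
  have hl : (freeUEquiv V S.X₂).symm z ≫ S.g = 0 := by
    refine (freeUEquiv V S.X₃).injective ?_
    rw [SitePull.freeUEquiv_comp_appS, Equiv.apply_symm_apply, hz, SitePull.freeUEquiv_zero]
  have : Epi (kernel.lift S.g S.f S.zero) := S.exact_iff_epi_kernel_lift.1 hS
  let k := kernel.lift S.g ((freeUEquiv V S.X₂).symm z) hl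
  obtain ⟨T, hT, hy⟩ := exists_local_lift (kernel.lift S.g S.f S.zero) (freeUEquiv V _ k)
  refine ⟨T, hT, fun W g hg => ?_⟩
  obtain ⟨y, hy⟩ := hy g hg
  refine ⟨y, ?_⟩
  conv_lhs => rw [← kernel.lift_ι S.g S.f S.zero]
  rw [appS_comp, hy, appS_res, ← SitePull.freeUEquiv_comp_appS, kernel.lift_ι, Equiv.apply_symm_apply]

/-- Sections of the cycles. -/
theorem exists_cycle (K : CochainComplex (Mod O) ℤ) (i : ℤ) {V : C} (z : sect (K.X i) V)
    (hz : appS (K.d i (i + 1)) V z = 0) : ∃ c : sect (K.cycles i) V, appS (K.iCycles i) V c = z := by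
  have hl : (freeUEquiv V (K.X i)).symm z ≫ K.d i (i + 1) = 0 := by
    refine (freeUEquiv V (K.X (i + 1))).injective ?_
    rw [SitePull.freeUEquiv_comp_appS, Equiv.apply_symm_apply, hz, SitePull.freeUEquiv_zero]
  refine ⟨freeUEquiv V _ (K.liftCycles ((freeUEquiv V (K.X i)).symm z) (i + 1) (by simp) hl), ?_⟩
  rw [← SitePull.freeUEquiv_comp_appS, HomologicalComplex.liftCycles_i, Equiv.apply_symm_apply]

/-- A cycle whose class vanishes is locally a boundary. -/
theorem exists_boundary (K : CochainComplex (Mod O) ℤ) (i : ℤ) {V : C} (c : sect (K.cycles (i + 1)) V)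
    (hc : appS (K.homologyπ (i + 1)) V c = 0) :
    ∃ T ∈ J V, ∀ ⦃W : C⦄ (g : W ⟶ V), T g →
      ∃ w : sect (K.X i) W, appS (K.d i (i + 1)) W w = rs (K.X (i + 1)) g (appS (K.iCycles (i + 1)) V c) := by
  let S := ShortComplex.mk (K.toCycles i (i + 1)) (K.homologyπ (i + 1)) (by simp)
  have hS : S.Exact := ShortComplex.exact_of_g_is_cokernel _ (K.homologyIsCokernel i (i + 1) (by simp))
  obtain ⟨T, hT, hy⟩ := exists_preimage hS c hc
  refine ⟨T, hT, fun W g hg => ?_⟩
  obtain ⟨y, hy⟩ := hy g hg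
  refine ⟨y, ?_⟩
  conv_lhs => rw [← K.toCycles_i i (i + 1)]
  rw [appS_comp, hy, appS_res]

/-- A morphism of complexes, injective on sections, is a quasi-isomorphism as soon as sections whose
differential comes from the source can locally be moved into the source. -/
theorem quasiIso_of_sections {K' K : CochainComplex (Mod O) ℤ} (φ : K' ⟶ K)
    (hinj : ∀ (i : ℤ) (V : C) (x : sect (K'.X i) V), appS (φ.f i) V x = 0 → x = 0)
    (h : ∀ (i : ℤ) (V : C) (z : sect (K.X (i + 1)) V) (a : sect (K'.X (i + 1 + 1)) V),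
      appS (K.d (i + 1) (i + 1 + 1)) V z = appS (φ.f (i + 1 + 1)) V a →
      ∃ T ∈ J V, ∀ ⦃W : C⦄ (g : W ⟶ V), T g → ∃ (w : sect (K.X i) W) (c : sect (K'.X (i + 1)) W),
        rs (K.X (i + 1)) g z = appS (K.d i (i + 1)) W w + appS (φ.f (i + 1)) W c) :
    QuasiIso φ := by
  constructor
  intro n
  obtain ⟨n, rfl⟩ : ∃ m, n = m + 1 + 1 := ⟨n - 2, by omega⟩
  rw [quasiIsoAt_iff_isIso_homologyMap]
  haveI : Mono (HomologicalComplex.homologyMap φ (n + 1 + 1)) := by
    refine Preadditive.mono_of_cancel_zero _ fun {Z} π hπ => SheafOfModules.hom_ext (PresheafOfModules.hom_ext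
      fun U => ModuleCat.hom_ext (LinearMap.ext fun k => ?_))
    have h0 : appS (HomologicalComplex.homologyMap φ (n + 1 + 1)) U.unop (appS π U.unop k) = 0 :=
      (appS_comp π _ k).symm.trans (appS_hom_zero _ hπ k)
    change appS π U.unop k = 0
    revert h0
    generalize appS π U.unop k = x
    intro h0
    obtain ⟨T, hT, hc⟩ := exists_local_lift (K'.homologyπ (n + 1 + 1)) x
    refine eq_zero_of_locally _ hT x fun W g hg => ?_
    obtain ⟨c, hc⟩ := hc g hg
    have h1 : appS (K.homologyπ (n + 1 + 1)) W (appS (HomologicalComplex.cyclesMap φ (n + 1 + 1)) W c) = 0 := by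
      rw [← appS_comp, ← HomologicalComplex.homologyπ_naturality, appS_comp, hc, appS_res, h0, map_zero]
    obtain ⟨T', hT', hw⟩ := exists_boundary K (n + 1) _ h1
    refine eq_zero_of_locally _ hT' _ fun W' g' hg' => ?_
    obtain ⟨w, hw⟩ := hw g' hg'
    rw [← appS_comp, HomologicalComplex.cyclesMap_i, appS_comp, ← appS_res] at hw
    obtain ⟨T'', hT'', hv⟩ := h n W' w _ hw
    refine eq_zero_of_locally _ hT'' _ fun W'' g'' hg'' => ?_
    obtain ⟨v, c', hvc⟩ := hv g'' hg''
    have h2 : appS (K'.d (n + 1) (n + 1 + 1)) W'' c' =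
        rs (K'.X (n + 1 + 1)) g'' (rs (K'.X (n + 1 + 1)) g' (appS (K'.iCycles (n + 1 + 1)) W c)) := by
      refine sub_eq_zero.1 (hinj _ _ _ ?_)
      rw [map_sub, ← appS_comp, ← φ.comm, appS_comp, appS_res, ← hw, ← appS_res, hvc, map_add, ← appS_comp (K.d n (n + 1)),
        appS_hom_zero _ (K.d_comp_d n (n + 1) (n + 1 + 1)), zero_add, ← appS_comp (φ.f (n + 1)), sub_self]
    rw [← hc, ← appS_res, ← appS_res]
    have h3 : rs (K'.cycles (n + 1 + 1)) g'' (rs (K'.cycles (n + 1 + 1)) g' c) =
        appS (K'.toCycles (n + 1) (n + 1 + 1)) W'' c' := by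
      refine sub_eq_zero.1 ?_
      let e := rs (K'.cycles (n + 1 + 1)) g'' (rs (K'.cycles (n + 1 + 1)) g' c) -
        appS (K'.toCycles (n + 1) (n + 1 + 1)) W'' c'
      have he : appS (K'.iCycles (n + 1 + 1)) W'' e = 0 := by
        simp only [e, map_sub]
        rw [← appS_comp (K'.toCycles _ _), HomologicalComplex.toCycles_i, h2, ← appS_res, ← appS_res, sub_self]
      change e = 0
      revert he
      generalize e = e₀
      intro he
      refine (freeUEquiv W'' _).symm.injective ?_
      refine (cancel_mono (K'.iCycles (n + 1 + 1))).1 ((freeUEquiv W'' _).injective ?_)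
      rw [SitePull.freeUEquiv_comp_appS, SitePull.freeUEquiv_comp_appS, Equiv.apply_symm_apply,
        Equiv.apply_symm_apply, he, map_zero]
    rw [h3, ← appS_comp]
    exact appS_hom_zero _ (K'.toCycles_comp_homologyπ _ _) c'
  haveI : Epi (HomologicalComplex.homologyMap φ (n + 1 + 1)) := by
    refine SitePull.epi_of_locally_surjective _ fun V x => ?_
    obtain ⟨T, hT, hc⟩ := exists_local_lift (K.homologyπ (n + 1 + 1)) x
    refine exists_cover_bind (fun W g => ∃ y, appS (HomologicalComplex.homologyMap φ (n + 1 + 1)) W y =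
      rs (K.homology (n + 1 + 1)) g x) hT fun W g hg => ?_
    obtain ⟨c, hc⟩ := hc g hg
    obtain ⟨T', hT', hv⟩ := h (n + 1) W (appS (K.iCycles (n + 1 + 1)) W c) 0 (by
      rw [map_zero, ← appS_comp]
      exact appS_hom_zero _ (K.iCycles_d _ _) c)
    refine ⟨T', hT', fun W' g' hg' => ?_⟩
    obtain ⟨w, b, hb⟩ := hv g' hg'
    obtain ⟨b', hb'⟩ := exists_cycle K' (n + 1 + 1) b (by
      refine hinj _ _ _ ?_
      have e := congrArg (appS (K.d (n + 1 + 1) (n + 1 + 1 + 1)) W') hb
      rw [appS_res, ← appS_comp, appS_hom_zero _ (K.iCycles_d _ _), map_zero, map_add, ← appS_comp,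
        appS_hom_zero _ (K.d_comp_d _ _ _), zero_add] at e
      rw [← appS_comp, ← φ.comm, appS_comp]
      exact e.symm)
    refine ⟨appS (K'.homologyπ (n + 1 + 1)) W' b', ?_⟩
    have h4 : rs (K.cycles (n + 1 + 1)) g' c =
        appS (K.toCycles (n + 1) (n + 1 + 1)) W' w + appS (HomologicalComplex.cyclesMap φ (n + 1 + 1)) W' b' := by
      refine (freeUEquiv W' _).symm.injective ?_
      refine (cancel_mono (K.iCycles (n + 1 + 1))).1 ((freeUEquiv W' _).injective ?_)
      rw [SitePull.freeUEquiv_comp_appS, SitePull.freeUEquiv_comp_appS, Equiv.apply_symm_apply,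
        Equiv.apply_symm_apply, appS_res, map_add, ← appS_comp (K.toCycles _ _), HomologicalComplex.toCycles_i,
        ← appS_comp (HomologicalComplex.cyclesMap φ _), HomologicalComplex.cyclesMap_i, appS_comp, hb']
      exact hb
    rw [map_val_comp, ← hc, ← appS_res, h4, map_add, ← appS_comp (K.toCycles _ _),
      appS_hom_zero _ (K.toCycles_comp_homologyπ _ _), zero_add, ← appS_comp, ← appS_comp,
      HomologicalComplex.homologyπ_naturality]
  exact isIso_of_mono_of_epi _

end Groth.Agent.FTorsLib
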