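import Groth.Prelude.Def_FTors2
import Groth.Agent.FTorsLib.Sections
import Groth.Agent.FTorsLib.InjExt
import Groth.Agent.PullFlat.Site

/-!
# Torsion subcomplexes of complexes of injectives with torsion cohomology

If the family of ideals is locally given, up to cofinality, by powers of finitely many sections whose
colon ideals stabilise, the torsion subcomplex of a complex of injective modules with torsion cohomology
sheaves is quasi-isomorphic to it.
-/

set_option autoImplicit false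
set_option backward.isDefEq.respectTransparency.types false

universe u

open CategoryTheory CategoryTheory.Limits Opposite ModSite

namespace Groth.Agent.FTorsLib

open Groth.Agent.KFlat Groth.Agent.PullFlat
open Groth.Agent.ModFlat (rs map_val_smul map_val_comp map_ring_comp)

variable {C : Type u} [SmallCategory C] {J : GrothendieckTopology C} {O : Sheaf J CommRingCat.{u}}

/-- The restrictions of chosen sections. -/
noncomputable abbrev rf {V : C} {r : ℕ} (f : Fin r → O.obj.obj (op V)) {W : C} (φ : W ⟶ V) (j : Fin r) :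
    O.obj.obj (op W) := O.obj.map φ.op (f j)

theorem rf_res {V : C} {r : ℕ} (f : Fin r → O.obj.obj (op V)) {W W' : C} (φ : W ⟶ V) (g : W' ⟶ W) (j : Fin r) :
    O.obj.map g.op (rf f φ j) = rf f (g ≫ φ) j :=
  congr($(O.obj.map_comp φ.op g.op) (f j)).symm

/-- The ideal generated by the `m`-th powers of the first `i` sections. -/
noncomputable abbrev pre {V : C} {r : ℕ} (f : Fin r → O.obj.obj (op V)) {W : C} (φ : W ⟶ V) (i m : ℕ) :
    Ideal (O.obj.obj (op W)) :=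
  Ideal.span ((fun j : Fin r => rf f φ j ^ m) '' {j | (j : ℕ) < i})

/-- Finitely many sections over `V` whose powers are cofinal in the family, with stabilising colons. -/
structure LocGens (I : FTors.IdealFam O) {V : C} {r : ℕ} (f : Fin r → O.obj.obj (op V)) : Prop where
  /-- powers lie in the family -/
  pow_mem : ∀ n : ℕ, ∃ N : ℕ, ∀ j, f j ^ N ∈ I.ideal n V
  /-- the family lies locally in the span of powers -/
  mem_span : ∀ N : ℕ, ∃ n : ℕ, ∀ ⦃W : C⦄ (φ : W ⟶ V) (a : O.obj.obj (op W)), a ∈ I.ideal n W →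
    ∃ S ∈ J W, ∀ ⦃W' : C⦄ (g : W' ⟶ W), S g → O.obj.map g.op a ∈ pre f (g ≫ φ) r N
  /-- colons stabilise -/
  colon : ∀ (i : Fin r) (m : ℕ), ∃ k : ℕ, ∀ (n : ℕ) ⦃W : C⦄ (φ : W ⟶ V) (a : O.obj.obj (op W)),
    rf f φ i ^ (n + k) * a ∈ pre f φ i m →
    ∃ S ∈ J W, ∀ ⦃W' : C⦄ (g : W' ⟶ W), S g → O.obj.map g.op (rf f φ i ^ k * a) ∈ pre f (g ≫ φ) i m

/-- Every object is covered by objects carrying such sections. -/
def HasLocGens (I : FTors.IdealFam O) : Prop :=
  ∀ U : C, ∃ S ∈ J U, ∀ ⦃V : C⦄ (g : V ⟶ U), S g → ∃ (r : ℕ) (f : Fin r → O.obj.obj (op V)), LocGens I f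

variable {I : FTors.IdealFam O} {V : C} {r : ℕ} {f : Fin r → O.obj.obj (op V)}

/-- Killed by the `m`-th powers of the first `i` sections. -/
def Killed (f : Fin r → O.obj.obj (op V)) {M : Mod O} (i m : ℕ) {W : C} (φ : W ⟶ V) (s : sect M W) : Prop :=
  ∀ j : Fin r, (j : ℕ) < i → rf f φ j ^ m • s = 0

namespace Killed

variable {M N : Mod O} {i m m' : ℕ} {W W' : C} {φ : W ⟶ V} {s s' : sect M W}

theorem mono (h : Killed f i m φ s) (hm : m ≤ m') : Killed f i m' φ s := fun j hj => by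
  obtain ⟨d, rfl⟩ := exists_add_of_le hm
  rw [add_comm, pow_add, mul_smul, h j hj, smul_zero]

theorem res (h : Killed f i m φ s) (g : W' ⟶ W) : Killed f i m (g ≫ φ) (rs M g s) := fun j hj => by
  rw [← rf_res, ← map_pow, ← map_val_smul g, h j hj, map_zero]

theorem hom (h : Killed f i m φ s) (ψ : M ⟶ N) : Killed f i m φ (appS ψ W s) := fun j hj => by
  rw [← map_smul, h j hj, map_zero]

theorem sub (h : Killed f i m φ s) (h' : Killed f i m φ s') : Killed f i m φ (s - s') := fun j hj => by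
  rw [smul_sub, h j hj, h' j hj, sub_zero]

theorem smul (h : Killed f i m φ s) (a : O.obj.obj (op W)) : Killed f i m φ (a • s) := fun j hj => by
  rw [smul_comm, h j hj, smul_zero]

theorem of_mem_pre (h : Killed f i m φ s) {a : O.obj.obj (op W)} (ha : a ∈ pre f φ i m) : a • s = 0 := by
  have : pre f φ i m ≤ LinearMap.ker (LinearMap.toSpanSingleton (O.obj.obj (op W)) (sect M W) s) := by
    refine Ideal.span_le.2 ?_
    rintro _ ⟨j, hj, rfl⟩
    exact LinearMap.mem_ker.2 (h j hj)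
  exact LinearMap.mem_ker.1 (this ha)

end Killed

theorem isTorsSect_of_killed (hf : LocGens I f) {M : Mod O} {W : C} {φ : W ⟶ V} {s : sect M W} {m : ℕ}
    (h : Killed f r m φ s) : FTors.IsTorsSect I M s := by
  obtain ⟨n, hn⟩ := hf.mem_span m
  refine FTors.IsTorsSect.of_killedBy (n := n) fun W' g a ha => ?_
  obtain ⟨S, hS, hS'⟩ := hn (g ≫ φ) a ha
  refine eq_zero_of_locally M hS _ fun W'' g' hg' => ?_
  rw [map_val_smul g']
  have hk := (h.res g).res g'
  exact hk.of_mem_pre (hS' g' hg')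

theorem killed_of_killedBy (hf : LocGens I f) {M : Mod O} {W : C} (φ : W ⟶ V) {s : sect M W} {n : ℕ}
    (h : FTors.KilledBy I M n s) : ∃ m, Killed f r m φ s := by
  obtain ⟨N, hN⟩ := hf.pow_mem n
  refine ⟨N, fun j _ => ?_⟩
  have := h (𝟙 W) (rf f φ j ^ N) (by rw [← map_pow]; exact I.map_mem n φ (hN j))
  rwa [FTors.res_id] at this

theorem LocGens.restrict (hf : LocGens I f) {V' : C} (g : V' ⟶ V) :
    LocGens I (fun j => O.obj.map g.op (f j)) := by
  have e : ∀ {W : C} (φ : W ⟶ V') (i m : ℕ),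
      pre (fun j => O.obj.map g.op (f j)) φ i m = pre f (φ ≫ g) i m := fun φ i m => by
    refine congrArg Ideal.span (Set.image_congr' fun j => ?_)
    exact congrArg (· ^ m) (rf_res f g φ j)
  refine ⟨fun n => ?_, fun N => ?_, fun i m => ?_⟩
  · obtain ⟨N, hN⟩ := hf.pow_mem n
    exact ⟨N, fun j => by rw [← map_pow]; exact I.map_mem n g (hN j)⟩
  · obtain ⟨n, hn⟩ := hf.mem_span N
    refine ⟨n, fun W φ a ha => ?_⟩
    obtain ⟨S, hS, hS'⟩ := hn (φ ≫ g) a ha
    exact ⟨S, hS, fun W' g' hg' => by rw [e, Category.assoc]; exact hS' g' hg'⟩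
  · obtain ⟨k, hk⟩ := hf.colon i m
    refine ⟨k, fun n W φ a ha => ?_⟩
    have hr : rf (fun j => O.obj.map g.op (f j)) φ i = rf f (φ ≫ g) i := rf_res f g φ i
    rw [e, hr] at ha
    obtain ⟨S, hS, hS'⟩ := hk n (φ ≫ g) a ha
    exact ⟨S, hS, fun W' g' hg' => by rw [e, hr, Category.assoc]; exact hS' g' hg'⟩

variable (K : CochainComplex (Mod O) ℤ)

/-- The statement of the induction on the number of sections. -/
def Step (f : Fin r → O.obj.obj (op V)) (i : ℕ) : Prop :=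
  ∀ (d : ℤ) ⦃W : C⦄ (φ : W ⟶ V) (z : sect (K.X (d + 1)) W) (m : ℕ),
    Killed f i m φ (appS (K.d (d + 1) (d + 1 + 1)) W z) →
    ∃ S ∈ J W, ∀ ⦃W' : C⦄ (g : W' ⟶ W), S g → ∃ (w : sect (K.X d) W') (m' : ℕ),
      Killed f i m' (g ≫ φ) (rs (K.X (d + 1)) g z - appS (K.d d (d + 1)) W' w)

theorem step_zero : Step K f 0 := fun d W φ z m _ =>
  ⟨⊤, J.top_mem _, fun W' g _ => ⟨0, 0, fun j hj => absurd hj (Nat.not_lt_zero _)⟩⟩

theorem exists_div (hf : LocGens I f) (M : Mod O) [Injective M] (i : Fin r) (m n : ℕ) {W : C} (φ : W ⟶ V)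
    (v : sect M W) (hv : Killed f i m φ v) :
    ∃ (t : sect M W) (k : ℕ), Killed f i m φ t ∧ rf f φ i ^ (n + k) • t = rf f φ i ^ k • v := by
  classical
  obtain ⟨k, hk⟩ := hf.colon i m
  obtain ⟨t, ht⟩ := exists_smul_eq M
    (Fin.snoc (fun j : Fin r => if (j : ℕ) < i then rf f φ j ^ m else 0) (rf f φ i ^ (n + k)))
    (Fin.snoc (fun _ : Fin r => (0 : sect M W)) (rf f φ i ^ k • v))
    (fun W' ψ a ha => by
      simp only [Fin.sum_univ_castSucc, Fin.snoc_castSucc, Fin.snoc_last, map_zero, smul_zero,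
        Finset.sum_const_zero, zero_add] at ha ⊢
      have hmem : rf f (ψ ≫ φ) i ^ (n + k) * a (Fin.last r) ∈ pre f (ψ ≫ φ) i m := by
        have h2 : ∑ j : Fin r, a j.castSucc * O.obj.map ψ.op (if (j : ℕ) < i then rf f φ j ^ m else 0) ∈
            pre f (ψ ≫ φ) i m := by
          refine Ideal.sum_mem _ fun j _ => Ideal.mul_mem_left _ _ ?_
          split_ifs with hj
          · rw [map_pow, rf_res]
            exact Ideal.subset_span ⟨j, hj, rfl⟩
          · rw [map_zero]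
            exact Ideal.zero_mem _
        rw [mul_comm, ← rf_res, ← map_pow, eq_neg_of_add_eq_zero_right ha]
        exact neg_mem h2
      obtain ⟨S, hS, hS'⟩ := hk n (ψ ≫ φ) (a (Fin.last r)) hmem
      refine eq_zero_of_locally M hS _ fun W'' g hg => ?_
      rw [map_val_smul ψ, smul_smul, mul_comm, map_pow, rf_res, map_val_smul g]
      exact ((hv.res ψ).res g).of_mem_pre (hS' g hg))
  refine ⟨t, k, fun j hj => ?_, ?_⟩
  · have := ht j.castSucc
    simpa only [Fin.snoc_castSucc, if_pos hj] using this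
  · have := ht (Fin.last r)
    simpa only [Fin.snoc_last] using this

variable [∀ d, Injective (K.X d)] (hK : ∀ d, FTors.IsTors I (K.homology d))
include hK

theorem step_succ (hf : LocGens I f) (i : Fin r) (hP : Step K f i) : Step K f (i + 1) := by
  intro d W φ z m hz
  have hz' : Killed f i m φ (appS (K.d (d + 1) (d + 1 + 1)) W z) := fun j hj => hz j (by omega)
  obtain ⟨S₁, hS₁, h₁⟩ := hP d φ z m hz'
  refine exists_cover_bind (fun W' g => ∃ (w : sect (K.X d) W') (m' : ℕ),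
      Killed f (i + 1) m' (g ≫ φ) (rs (K.X (d + 1)) g z - appS (K.d d (d + 1)) W' w)) hS₁ fun W₁ g₁ hg₁ => ?_
  obtain ⟨w₀, m₁, hw₀⟩ := h₁ g₁ hg₁
  let z₁ := rs (K.X (d + 1)) g₁ z - appS (K.d d (d + 1)) W₁ w₀
  have hdz₁ : appS (K.d (d + 1) (d + 1 + 1)) W₁ z₁ =
      rs (K.X (d + 1 + 1)) g₁ (appS (K.d (d + 1) (d + 1 + 1)) W z) := by
    simp only [z₁, map_sub, appS_res]
    rw [← appS_comp (K.d d (d + 1)), appS_hom_zero _ (K.d_comp_d _ _ _), sub_zero]
  let y := rf f (g₁ ≫ φ) i ^ m • z₁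
  obtain ⟨c, hc⟩ := exists_cycle K (d + 1) y (by
    rw [map_smul, hdz₁, ← rf_res, ← map_pow, ← map_val_smul g₁, hz i (by omega), map_zero])
  have htors := hK (d + 1) W₁ (appS (K.homologyπ (d + 1)) W₁ c)
  refine exists_cover_bind (fun W' g => ∃ (w : sect (K.X d) W') (m' : ℕ),
      Killed f (i + 1) m' (g ≫ g₁ ≫ φ) (rs (K.X (d + 1)) (g ≫ g₁) z - appS (K.d d (d + 1)) W' w)) htors
    (fun W₂ g₂ hg₂ => ?_) |>.imp fun T => fun ⟨hT, hT'⟩ => ⟨hT, fun W' g hg => by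
      rw [Category.assoc]; exact hT' g hg⟩
  obtain ⟨n, hn⟩ := hg₂
  obtain ⟨N, hN⟩ := killed_of_killedBy hf (g₂ ≫ g₁ ≫ φ) hn
  have hcl : appS (K.homologyπ (d + 1)) W₂ (rf f (g₂ ≫ g₁ ≫ φ) i ^ N • rs (K.cycles (d + 1)) g₂ c) = 0 := by
    rw [map_smul, appS_res]
    exact hN i i.2
  obtain ⟨S₃, hS₃, h₃⟩ := exists_boundary K d _ hcl
  refine exists_cover_bind (fun W' g => ∃ (w : sect (K.X d) W') (m' : ℕ),
      Killed f (i + 1) m' (g ≫ g₂ ≫ g₁ ≫ φ) (rs (K.X (d + 1)) (g ≫ g₂ ≫ g₁) z - appS (K.d d (d + 1)) W' w)) hS₃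
    (fun W₃ g₃ hg₃ => ?_) |>.imp fun T => fun ⟨hT, hT'⟩ => ⟨hT, fun W' g hg => by
      simp only [Category.assoc]; exact hT' g hg⟩
  obtain ⟨v, hv⟩ := h₃ g₃ hg₃
  rw [map_smul, appS_res, hc, map_val_smul g₃, map_pow, rf_res, map_val_smul g₂, map_pow, rf_res,
    map_val_smul g₃, map_pow, rf_res, smul_smul, ← pow_add, ← map_val_comp] at hv
  have hk₁ : Killed f i m₁ ((g₃ ≫ g₂) ≫ g₁ ≫ φ) (rs (K.X (d + 1)) (g₃ ≫ g₂) z₁) := hw₀.res (g₃ ≫ g₂)
  have hkv : Killed f i m₁ (g₃ ≫ g₂ ≫ g₁ ≫ φ) (appS (K.d d (d + 1)) W₃ v) := by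
    rw [hv]
    refine Killed.smul ?_ _
    simpa only [Category.assoc] using hk₁
  obtain ⟨d, rfl⟩ : ∃ e : ℤ, d = e + 1 := ⟨d - 1, by omega⟩
  obtain ⟨S₄, hS₄, h₄⟩ := hP d (g₃ ≫ g₂ ≫ g₁ ≫ φ) v m₁ hkv
  refine ⟨S₄, hS₄, fun W₄ g₄ hg₄ => ?_⟩
  obtain ⟨u, m₂, hu⟩ := h₄ g₄ hg₄
  obtain ⟨t, k, ht, ht'⟩ := exists_div hf (K.X (d + 1)) i m₂ (N + m) _ _ hu
  have hz₁ : rs (K.X (d + 1 + 1)) g₄ (rs (K.X (d + 1 + 1)) (g₃ ≫ g₂) z₁) =
      rs (K.X (d + 1 + 1)) (g₄ ≫ g₃ ≫ g₂ ≫ g₁) z -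
        appS (K.d (d + 1) (d + 1 + 1)) W₄ (rs (K.X (d + 1)) (g₄ ≫ g₃ ≫ g₂) w₀) := by
    simp only [z₁]
    rw [← map_val_comp, map_sub, ← map_val_comp, appS_res]
    simp only [Category.assoc]
  refine ⟨rs (K.X (d + 1)) (g₄ ≫ g₃ ≫ g₂) w₀ + t, max (max m₁ m₂) (N + m + k), ?_⟩
  rw [map_add, ← sub_sub]
  simp only [Category.assoc]
  rw [← hz₁]
  intro j hj
  rcases Nat.lt_succ_iff_lt_or_eq.1 hj with hj | hj
  · have a₁ : Killed f i m₁ (g₄ ≫ g₃ ≫ g₂ ≫ g₁ ≫ φ)
        (rs (K.X (d + 1 + 1)) g₄ (rs (K.X (d + 1 + 1)) (g₃ ≫ g₂) z₁)) := by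
      simpa only [Category.assoc] using hk₁.res g₄
    exact ((a₁.mono (le_max_left m₁ m₂)).sub
      ((ht.hom (K.d (d + 1) (d + 1 + 1))).mono (le_max_right m₁ m₂))).mono (le_max_left _ _) j hj
  · obtain rfl : j = i := Fin.ext hj
    obtain ⟨e, he⟩ := exists_add_of_le (le_max_right (max m₁ m₂) (N + m + k))
    rw [he, add_comm (N + m + k) e, pow_add, mul_smul]
    refine (congrArg (_ • ·) ?_).trans (smul_zero _)
    rw [smul_sub, sub_eq_zero, ← map_smul (appS (K.d (d + 1) (d + 1 + 1)) W₄) _ t, ht', map_smul, map_sub (appS (K.d (d + 1) (d + 1 + 1)) W₄), appS_res,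
      ← appS_comp (K.d d (d + 1)), appS_hom_zero _ (K.d_comp_d _ _ _), sub_zero, hv, map_val_smul g₄, map_pow,
      rf_res, smul_smul, ← pow_add]
    rw [add_comm k (N + m)]

theorem step (hf : LocGens I f) : ∀ i, i ≤ r → Step K f i := fun i => by
  induction i with
  | zero => exact fun _ => step_zero K
  | succ i ih => exact fun hi => step_succ K hK hf ⟨i, hi⟩ (ih (Nat.le_of_succ_le hi))

/-- The inclusion of the torsion subcomplex of a complex of injectives with torsion cohomology is a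
quasi-isomorphism. -/
theorem quasiIso_gammaι (hI : HasLocGens I) :
    QuasiIso ((NatTrans.mapHomologicalComplex (FTors.gammaι I) (ComplexShape.up ℤ)).app K) := by
  refine quasiIso_of_sections _ (fun i W x hx => Subtype.ext hx) fun d W z a hza => ?_
  obtain ⟨S, hS, hS'⟩ := hI W
  change appS (K.d (d + 1) (d + 1 + 1)) W z = a.1 at hza
  refine exists_cover_bind (fun W' g => ∃ (w : sect (K.X d) W')
      (c : sect (((FTors.gamma O I).mapHomologicalComplex (ComplexShape.up ℤ)).obj K |>.X (d + 1)) W'),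
      rs (K.X (d + 1)) g z = appS (K.d d (d + 1)) W' w + c.1) hS fun W₁ g₁ hg₁ => ?_
  obtain ⟨r, f, hf⟩ := hS' g₁ hg₁
  have ht : FTors.killSieve I (K.X (d + 1 + 1)) (rs (K.X (d + 1 + 1)) g₁ a.1) ∈ J W₁ := a.2.res g₁
  refine exists_cover_bind (fun W' g => ∃ (w : sect (K.X d) W')
      (c : sect (((FTors.gamma O I).mapHomologicalComplex (ComplexShape.up ℤ)).obj K |>.X (d + 1)) W'),
      rs (K.X (d + 1)) (g ≫ g₁) z = appS (K.d d (d + 1)) W' w + c.1) ht fun W₂ g₂ hg₂ => ?_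
  obtain ⟨n, hn⟩ := hg₂
  obtain ⟨m, hm⟩ := killed_of_killedBy hf g₂ hn
  obtain ⟨T, hT, hT'⟩ := step K hK hf r le_rfl d g₂ (rs (K.X (d + 1)) (g₂ ≫ g₁) z) m (by
    rw [appS_res, hza, map_val_comp]
    exact hm)
  refine ⟨T, hT, fun W₃ g₃ hg₃ => ?_⟩
  obtain ⟨w, m', hw⟩ := hT' g₃ hg₃
  refine ⟨w, ⟨_, isTorsSect_of_killed hf hw⟩, ?_⟩
  rw [add_sub_cancel, ← map_val_comp]
  simp only [Category.assoc]

end Groth.Agent.FTorsLib
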