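import Groth.Prelude.Def_WeakSerre
import Groth.Agent.FTorsLib.TorsQis
import Mathlib.CategoryTheory.Adjunction.FullyFaithful

/-!
# Torsion modules form a Serre class with the torsion functor as coreflection
-/

set_option autoImplicit false
set_option backward.isDefEq.respectTransparency.types false

universe u

open CategoryTheory CategoryTheory.Limits Opposite ModSite ZeroObject

namespace Groth.Agent.FTorsLib

open Groth.Agent.KFlat Groth.Agent.PullFlat
open Groth.Agent.ModFlat (rs map_val_smul map_val_comp)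

variable {C : Type u} [SmallCategory C] {J : GrothendieckTopology C} {O : Sheaf J CommRingCat.{u}}
  (I : FTors.IdealFam O)

theorem appS_injective_of_mono {F G : Mod O} (φ : F ⟶ G) [Mono φ] {U : C} (x : sect F U)
    (hx : appS φ U x = 0) : x = 0 := by
  refine (freeUEquiv U F).symm.injective ?_
  refine (cancel_mono φ).1 ((freeUEquiv U G).injective ?_)
  rw [SitePull.freeUEquiv_comp_appS, SitePull.freeUEquiv_comp_appS, Equiv.apply_symm_apply, Equiv.apply_symm_apply,
    hx, map_zero]

theorem isTorsSect_of_injective {F G : Mod O} (φ : F ⟶ G)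
    (hφ : ∀ (W : C) (x : sect F W), appS φ W x = 0 → x = 0) {U : C} (s : sect F U)
    (h : FTors.IsTorsSect I G (appS φ U s)) : FTors.IsTorsSect I F s := by
  refine J.superset_covering ?_ h
  rintro W g ⟨n, hn⟩
  refine ⟨n, fun W' g' a ha => hφ _ _ ?_⟩
  have := hn g' a ha
  rw [map_smul, ← this]
  refine congrArg (a • ·) ?_
  change appS φ W' (rs F g' (rs F g s)) = rs G g' (rs G g (appS φ U s))
  rw [appS_res, appS_res]

theorem isTors_gamma (M : Mod O) : FTors.IsTors I ((FTors.gamma O I).obj M) := fun U s =>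
  isTorsSect_of_injective I ((FTors.gammaι I).app M) (fun _ _ hx => Subtype.ext hx) s s.2

theorem isTors_of_epi {F G : Mod O} (φ : F ⟶ G) [Epi φ] (hF : FTors.IsTors I F) : FTors.IsTors I G := by
  intro U s
  obtain ⟨S, hS, hy⟩ := exists_local_lift φ s
  refine FTors.IsTorsSect.of_cover hS fun V g hg => ?_
  obtain ⟨y, hy⟩ := hy g hg
  change FTors.IsTorsSect I G (rs G g s)
  rw [← hy]
  exact (hF V y).hom φ

theorem isTors_of_mono {F G : Mod O} (φ : F ⟶ G) [Mono φ] (hG : FTors.IsTors I G) : FTors.IsTors I F :=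
  fun _ s => isTorsSect_of_injective I φ (fun _ x => appS_injective_of_mono φ x) s (hG _ _)

theorem isTors_zero : FTors.IsTors I (0 : Mod O) := fun U s => by
  have : s = 0 := by
    refine (freeUEquiv U (0 : Mod O)).symm.injective ?_
    exact (isZero_zero (Mod O)).eq_of_tgt _ _
  rw [this]
  exact FTors.IsTorsSect.zero I _ U

variable {I}

theorem exists_killed_upto {V : C} {r : ℕ} {f : Fin r → O.obj.obj (op V)} (hf : LocGens I f) {S : ShortComplex (Mod O)}
    (hS : S.ShortExact) (h₁ : FTors.IsTors I S.X₁) (h₃ : FTors.IsTors I S.X₃) (s : sect S.X₂ V) :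
    ∀ i, i ≤ r → ∃ T ∈ J V, ∀ ⦃W : C⦄ (g : W ⟶ V), T g → ∃ m, Killed f i m g (rs S.X₂ g s) := by
  intro i
  induction i with
  | zero => exact fun _ => ⟨⊤, J.top_mem V, fun W g _ => ⟨0, fun j hj => absurd hj (Nat.not_lt_zero _)⟩⟩
  | succ i ih =>
    intro hi
    obtain ⟨T, hT, hT'⟩ := ih (Nat.le_of_succ_le hi)
    refine exists_cover_bind _ hT fun W g hg => ?_
    obtain ⟨m, hm⟩ := hT' g hg
    refine exists_cover_bind (fun W' g' => ∃ m', Killed f (i + 1) m' (g' ≫ g) (rs S.X₂ (g' ≫ g) s))
      (h₃ W (appS S.g W (rs S.X₂ g s))) fun W₁ g₁ hg₁ => ?_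
    obtain ⟨n, hn⟩ := hg₁
    obtain ⟨m₁, hm₁⟩ := killed_of_killedBy hf (g₁ ≫ g) hn
    obtain ⟨T₂, hT₂, hx⟩ := exists_preimage hS.exact (rf f (g₁ ≫ g) ⟨i, hi⟩ ^ m₁ • rs S.X₂ g₁ (rs S.X₂ g s)) (by
      rw [map_smul, appS_res]
      exact hm₁ ⟨i, hi⟩ hi)
    refine exists_cover_bind (fun W' g' => ∃ m', Killed f (i + 1) m' ((g' ≫ g₁) ≫ g) (rs S.X₂ ((g' ≫ g₁) ≫ g) s))
      hT₂ fun W₂ g₂ hg₂ => ?_
    obtain ⟨x, hx⟩ := hx g₂ hg₂
    refine ⟨FTors.killSieve I S.X₁ x, h₁ W₂ x, fun W₃ g₃ hg₃ => ?_⟩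
    obtain ⟨n', hn'⟩ := hg₃
    obtain ⟨m₂, hm₂⟩ := killed_of_killedBy hf (((g₃ ≫ g₂) ≫ g₁) ≫ g) hn'
    refine ⟨max m (m₂ + m₁), fun j hj => ?_⟩
    rcases Nat.lt_succ_iff_lt_or_eq.1 hj with hj | hj
    · have := ((hm.res ((g₃ ≫ g₂) ≫ g₁)).mono (le_max_left m (m₂ + m₁))) j hj
      rwa [← map_val_comp] at this
    · obtain rfl : j = ⟨i, hi⟩ := Fin.ext hj
      obtain ⟨e, he⟩ := exists_add_of_le (le_max_right m (m₂ + m₁))
      rw [he, add_comm (m₂ + m₁) e, pow_add, mul_smul]
      refine (congrArg (_ • ·) ?_).trans (smul_zero _)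
      rw [pow_add, mul_smul, map_val_comp, map_val_comp, map_val_comp]
      have e1 : rf f (((g₃ ≫ g₂) ≫ g₁) ≫ g) ⟨i, hi⟩ ^ m₁ • rs S.X₂ g₃ (rs S.X₂ g₂ (rs S.X₂ g₁ (rs S.X₂ g s))) =
          appS S.f W₃ (rs S.X₁ g₃ x) := by
        rw [appS_res, hx, map_val_smul g₂, map_val_smul g₃, map_pow, rf_res, map_pow, rf_res]
        simp only [Category.assoc]
      rw [e1, ← map_smul]
      exact (congrArg (appS S.f W₃) (hm₂ ⟨i, hi⟩ hi)).trans (map_zero _)

/-- Torsion modules form a Serre class. -/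
theorem isSerreClass_isTors (hI : HasLocGens I) : (FTors.IsTors I).IsSerreClass where
  exists_zero := ⟨0, isZero_zero _, isTors_zero I⟩
  prop_of_mono f := fun hY => isTors_of_mono I f hY
  prop_of_epi f := fun hX => isTors_of_epi I f hX
  prop_X₂_of_shortExact {S} hS h₁ h₃ := by
    intro U s
    obtain ⟨T, hT, hT'⟩ := hI U
    refine FTors.IsTorsSect.of_cover hT fun V g hg => ?_
    obtain ⟨r, f, hf⟩ := hT' g hg
    obtain ⟨T₂, hT₂, hk⟩ := exists_killed_upto hf hS h₁ h₃ (rs S.X₂ g s) r le_rfl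
    refine FTors.IsTorsSect.of_cover hT₂ fun W g' hg' => ?_
    obtain ⟨m, hm⟩ := hk g' hg'
    exact isTorsSect_of_killed hf hm

variable (I)

/-- The torsion functor with values in torsion modules. -/
noncomputable def coreflect : Mod O ⥤ (FTors.IsTors I).FullSubcategory :=
  (FTors.IsTors I).lift (FTors.gamma O I) (isTors_gamma I)

/-- A torsion module maps into its torsion submodule. -/
noncomputable def toGamma (M : Mod O) (hM : FTors.IsTors I M) : M ⟶ (FTors.gamma O I).obj M :=
  ⟨PresheafOfModules.homMk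
    { app := fun X => AddCommGrpCat.ofHom
        { toFun := fun s => ⟨s, hM X.unop s⟩
          map_zero' := rfl
          map_add' := fun _ _ => rfl }
      naturality := fun _ _ g => by ext s; rfl }
    (fun _ _ _ => rfl)⟩

theorem toGamma_ι (M : Mod O) (hM : FTors.IsTors I M) : toGamma I M hM ≫ (FTors.gammaι I).app M = 𝟙 M :=
  SheafOfModules.hom_ext (PresheafOfModules.hom_ext fun _ => rfl)

instance mono_gammaι (M : Mod O) : Mono ((FTors.gammaι I).app M) :=
  Preadditive.mono_of_cancel_zero _ fun {Z} g hg => SheafOfModules.hom_ext (PresheafOfModules.hom_ext fun U =>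
    ModuleCat.hom_ext (LinearMap.ext fun x => Subtype.ext congr(($hg).val.app U x)))

/-- Torsion modules are coreflective. -/
noncomputable def coreflectAdj : (FTors.IsTors I).ι ⊣ coreflect I :=
  Adjunction.mkOfHomEquiv
    { homEquiv := fun X M =>
        { toFun := fun φ => ObjectProperty.homMk (toGamma I X.obj X.property ≫ (FTors.gamma O I).map φ)
          invFun := fun ψ => ψ.hom ≫ (FTors.gammaι I).app M
          left_inv := fun φ => by
            change (toGamma I X.obj X.property ≫ (FTors.gamma O I).map φ) ≫ (FTors.gammaι I).app M = φ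
            rw [Category.assoc, (FTors.gammaι I).naturality φ, ← Category.assoc]
            exact (congrArg (· ≫ φ) (toGamma_ι I X.obj X.property)).trans (Category.id_comp φ)
          right_inv := fun ψ => ObjectProperty.hom_ext _ <| by
            refine (cancel_mono ((FTors.gammaι I).app M)).1 ?_
            change (toGamma I X.obj X.property ≫ (FTors.gamma O I).map _) ≫ (FTors.gammaι I).app M = _
            rw [Category.assoc, (FTors.gammaι I).naturality, ← Category.assoc, toGamma_ι]
            exact Category.id_comp _ }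
      homEquiv_naturality_left_symm := fun {X' X Y} f g => by
        change (f.hom ≫ g.hom) ≫ (FTors.gammaι I).app Y = f.hom ≫ g.hom ≫ (FTors.gammaι I).app Y
        exact Category.assoc f.hom g.hom _
      homEquiv_naturality_right := fun _ _ => ObjectProperty.hom_ext _ <| by
        change toGamma I _ _ ≫ (FTors.gamma O I).map _ = (toGamma I _ _ ≫ (FTors.gamma O I).map _) ≫ _
        rw [Functor.map_comp, Category.assoc]
        rfl }

theorem coreflectAdj_counit (M : Mod O) :
    (coreflectAdj I).counit.app M = (FTors.gammaι I).app M := by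
  simp only [coreflectAdj, Adjunction.mkOfHomEquiv_counit_app]
  exact Category.id_comp ((FTors.gammaι I).app M)

end Groth.Agent.FTorsLib
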