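import Groth.Agent.FTorsLib.ComplBasic
import Groth.Agent.FTorsLib.Torsion
import Groth.Agent.SitePull.Stable

/-!
# Torsion modules on a scheme and on its completion
-/

set_option autoImplicit false
set_option backward.isDefEq.respectTransparency.types false

universe u

open CategoryTheory CategoryTheory.Limits Opposite TopologicalSpace AlgebraicGeometry ModSite

namespace Groth.Agent.FTorsLib.Compl

open Groth.Agent.PullFlatStalk (complSharp preU)
open Groth.Agent.FFormal (Rg pr)
open Groth.Agent.ModFlat (rs map_val_smul map_val_comp map_ring_comp)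
open Groth.Agent.PullFlat

variable {X : Scheme.{u}} {𝓘 : X.IdealSheafData} (hX : (FSch.completionAlong X 𝓘).IsFormal)

/-- The morphism of ringed spaces from the completion. -/
noncomputable abbrev kap : RMor ((FSch.completionAlong X 𝓘).Osh hX) X.sheaf :=
  FSch.toSchemeMor (FSch.completionAlong X 𝓘) hX (FSch.completionToX X 𝓘) (FSch.completionToX_comm X 𝓘)

/-- The inverse image of opens. -/
noncomputable abbrev preMap {W U : X.Opens} (h : W ≤ U) : preU X 𝓘 W ⟶ preU X 𝓘 U :=
  homOfLE fun _ hx => h hx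

theorem cs_res {W U : X.Opens} (h : W ≤ U) (b : Γ(X, U)) :
    cs hX W ((X.presheaf.map (homOfLE h).op).hom b) =
      (((FSch.completionAlong X 𝓘).Osh hX).obj.map (preMap h).op).hom (cs hX U b) :=
  ConcreteCategory.congr_hom ((complSharp X 𝓘 hX).hom.naturality (homOfLE h).op) b

theorem rs_eq {C : Type u} [SmallCategory C] {J : GrothendieckTopology C} {O : Sheaf J CommRingCat.{u}}
    (F : Mod O) {U V : C} [Subsingleton (V ⟶ U)] (g g' : V ⟶ U) (x : sect F U) : rs F g x = rs F g' x := by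
  rw [Subsingleton.elim g g']

theorem subsingleton_bot (M : FSch.ModF (FSch.completionAlong X 𝓘) hX) {V : ((FSch.completionAlong X 𝓘).X 0).Opens}
    (hV : V = ⊥) (s t : sect M V) : s = t := by
  subst hV
  refine sub_eq_zero.1 (eq_zero_of_locally M (S := ⊥) ?_ _ fun W g hg => hg.elim)
  exact fun x hx => hx.elim

section Killed

variable (N : ModSite.Mod X.sheaf)

/-- A section killed on an affine open by a power of the ideal is killed by the corresponding member of the family. -/
theorem killedBy_pow {n : ℕ} (W : X.affineOpens) (s : sect N W.1)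
    (h : ∀ b ∈ 𝓘.ideal W ^ n, (show X.sheaf.obj.obj (op W.1) from b) • s = 0) :
    FTors.KilledBy (FTors.powIdealFam X 𝓘) N n s := by
  intro V g a ha
  let S : Sieve V :=
    { arrows := fun V' g' => rs N g' (a • FTors.res N g s) = 0
      downward_closed := fun {V' V''} g' hg h' => by
        show rs N (h' ≫ g') _ = 0
        rw [map_val_comp, hg, map_zero] }
  refine eq_zero_of_locally N (S := S) ?_ _ fun V' g' hg => hg
  intro y hy
  obtain ⟨W', hW', hyW', hle⟩ := exists_isAffineOpen_mem_and_subset (x := y) (U := V) hy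
  refine ⟨W', homOfLE hle, ?_, hyW'⟩
  show rs N (homOfLE hle) (a • rs N g s) = 0
  refine ((map_val_smul (F := N) (homOfLE hle) a (rs N g s)).trans
    (congrArg (_ • ·) (map_val_comp (F := N) (homOfLE hle) g s).symm)).trans ?_
  have ha' := (FTors.mem_powIdealFam_iff X 𝓘 n V a).1 ha ⟨W', hW'⟩ hle
  have hWW : W' ≤ W.1 := fun z hz => g.le (hle hz)
  have e : 𝓘.ideal ⟨W', hW'⟩ ^ n = (𝓘.ideal W ^ n).map (X.presheaf.map (homOfLE hWW).op).hom :=
    ((Ideal.map_pow _ _ _).trans (congrArg (· ^ n) (𝓘.map_ideal (U := ⟨W', hW'⟩) (V := W) hWW))).symm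
  rw [e] at ha'
  have hker : (𝓘.ideal W ^ n).map (X.presheaf.map (homOfLE hWW).op).hom ≤
      LinearMap.ker (LinearMap.toSpanSingleton Γ(X, W') (sect N W') (rs N (homOfLE hWW) s)) := by
    refine Ideal.map_le_iff_le_comap.2 fun b hb => LinearMap.mem_ker.2 ?_
    refine (map_val_smul (homOfLE hWW) _ s).symm.trans ?_
    rw [h b hb, map_zero]
  exact (congrArg (_ • ·) (rs_eq N (homOfLE hle ≫ g) (homOfLE hWW) s)).trans (LinearMap.mem_ker.1 (hker ha'))

theorem isTorsSect_of_nhds {U : X.Opens} {s : sect N U}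
    (h : ∀ y ∈ U, ∃ (W : X.affineOpens) (hW : W.1 ≤ U) (n : ℕ), y ∈ W.1 ∧
      ∀ b ∈ 𝓘.ideal W ^ n, (show X.sheaf.obj.obj (op W.1) from b) • rs N (homOfLE hW) s = 0) :
    FTors.IsTorsSect (FTors.powIdealFam X 𝓘) N s := by
  intro y hy
  obtain ⟨W, hW, n, hyW, hn⟩ := h y hy
  exact ⟨W.1, homOfLE hW, ⟨n, killedBy_pow N W _ hn⟩, hyW⟩

/-- Sections of a torsion module are killed near every point by powers of the ideal. -/
theorem exists_killed {N : ModSite.Mod X.sheaf} (hN : FTors.IsTorsZp X 𝓘 N) {U : X.Opens} (s : sect N U) {y : X} (hy : y ∈ U) :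
    ∃ (V : X.Opens) (hV : V ≤ U) (n : ℕ), y ∈ V ∧
      FTors.KilledBy (FTors.powIdealFam X 𝓘) N n (rs N (homOfLE hV) s) := by
  obtain ⟨V, g, ⟨n, hn⟩, hyV⟩ := hN U s y hy
  refine ⟨V, g.le, n, hyV, ?_⟩
  rw [rs_eq N (homOfLE g.le) g s]
  exact hn

theorem smul_eq_zero_of_killedBy {N : ModSite.Mod X.sheaf} {n : ℕ} {V : X.Opens} {s : sect N V}
    (h : FTors.KilledBy (FTors.powIdealFam X 𝓘) N n s) (W : X.affineOpens) (hW : W.1 ≤ V)
    {b : Γ(X, W.1)} (hb : b ∈ 𝓘.ideal W ^ n) :
    (show X.sheaf.obj.obj (op W.1) from b) • rs N (homOfLE hW) s = 0 :=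
  h (homOfLE hW) _ ((mem_powIdeal_affine n W _).2 hb)

end Killed

section Push

variable (M : FSch.ModF (FSch.completionAlong X 𝓘) hX)

/-- The structure of the direct image: functions act through the completion. -/
theorem push_smul {W : X.Opens} (b : X.sheaf.obj.obj (op W)) (s : sect ((kap hX).push.obj M) W) :
    (b • s : sect ((kap hX).push.obj M) W) =
      (show sect M (preU X 𝓘 W) from (cs hX W b • (show sect M (preU X 𝓘 W) from s) : sect M (preU X 𝓘 W))) :=
  rfl

theorem push_rs {W U : X.Opens} (h : W ≤ U) (s : sect ((kap hX).push.obj M) U) :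
    rs ((kap hX).push.obj M) (homOfLE h) s = rs M (preMap h) (show sect M (preU X 𝓘 U) from s) :=
  congrArg (fun g => rs M g (show sect M (preU X 𝓘 U) from s)) (Subsingleton.elim _ _)

variable [IsLocallyNoetherian X]

theorem isTorsZp_push (hM : FTors.IsTorsF (FSch.completionAlong X 𝓘) hX M) :
    FTors.IsTorsZp X 𝓘 ((kap hX).push.obj M) := by
  intro U s
  refine isTorsSect_of_nhds _ fun y hy => ?_
  by_cases hyZ : y ∈ Set.range (FSch.completionToX X 𝓘 0)
  · obtain ⟨x, rfl⟩ := hyZ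
    obtain ⟨V, g, ⟨n, hn⟩, hxV⟩ := hM (preU X 𝓘 U) s x hy
    obtain ⟨W, hxW, hWU, hWV⟩ := exists_affine_nhd hxV (U := U) hy
    refine ⟨W, hWU, n + 1, hxW, fun b hb => ?_⟩
    rw [push_smul, push_rs]
    have hk : cs hX W.1 b ∈ (FTors.openIdealFam (FSch.completionAlong X 𝓘) hX).ideal n (preU X 𝓘 W.1) := by
      rw [FTors.mem_openIdealFam_iff]
      refine (pr_cs hX n W.1 b).trans ?_
      exact RingHom.mem_ker.1 ((lev_surjective_ker hX n W).2.ge hb)
    refine Eq.trans (congrArg (_ • ·) ?_) (hn (homOfLE hWV) _ hk)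
    exact (rs_eq M _ _ _).trans (map_val_comp (homOfLE hWV) g _)
  · obtain ⟨W, hyW, hWU, hbot, -⟩ := exists_affine_away hyZ hy
    exact ⟨W, hWU, 0, hyW, fun b _ => subsingleton_bot hX M hbot _ _⟩

/-- A section over the trace of an affine open killed by a power of the ideal is killed by the open ideal. -/
theorem smul_eq_zero_of_ker (n : ℕ) (W : X.affineOpens) (s : sect M (preU X 𝓘 W.1))
    (h : ∀ b ∈ 𝓘.ideal W ^ (n + 1), cs hX W.1 b • s = 0) {a : Rg hX (preU X 𝓘 W.1)}
    (ha : a ∈ RingHom.ker (pr hX n (preU X 𝓘 W.1))) : a • s = 0 := by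
  rw [ker_pr_preU hX n W] at ha
  have hker : (𝓘.ideal W ^ (n + 1)).map (cs hX W.1) ≤
      LinearMap.ker (LinearMap.toSpanSingleton (Rg hX (preU X 𝓘 W.1)) (sect M (preU X 𝓘 W.1)) s) :=
    Ideal.map_le_iff_le_comap.2 fun b hb => LinearMap.mem_ker.2 (h b hb)
  exact LinearMap.mem_ker.1 (hker ha)

theorem killedBy_open (n : ℕ) (W : X.affineOpens) (s : sect M (preU X 𝓘 W.1))
    (h : ∀ b ∈ 𝓘.ideal W ^ (n + 1), cs hX W.1 b • s = 0) :
    FTors.KilledBy (FTors.openIdealFam (FSch.completionAlong X 𝓘) hX) M n s := by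
  intro V g a ha
  let S : Sieve V :=
    { arrows := fun V' g' => rs M g' (a • FTors.res M g s) = 0
      downward_closed := fun {V' V''} g' hg h' => by
        show rs M (h' ≫ g') _ = 0
        rw [map_val_comp, hg, map_zero] }
  refine eq_zero_of_locally M (S := S) ?_ _ fun V' g' hg => hg
  intro x hx
  obtain ⟨W', hxW', hle, hW'V⟩ := exists_affine_nhd hx (U := W.1) (g.le hx)
  refine ⟨preU X 𝓘 W'.1, homOfLE hW'V, ?_, hxW'⟩
  show rs M (homOfLE hW'V) (a • rs M g s) = 0
  rw [map_val_smul (homOfLE hW'V), ← map_val_comp, rs_eq M (homOfLE hW'V ≫ g) (preMap hle) s]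
  refine smul_eq_zero_of_ker hX M n W' _ (fun b hb => ?_) ?_
  · rw [← 𝓘.map_ideal hle, ← Ideal.map_pow] at hb
    have hker : (𝓘.ideal W ^ (n + 1)).map (X.presheaf.map (homOfLE hle).op).hom ≤
        Ideal.comap (cs hX W'.1) (LinearMap.ker (LinearMap.toSpanSingleton (Rg hX (preU X 𝓘 W'.1))
          (sect M (preU X 𝓘 W'.1)) (rs M (preMap hle) s))) :=
      Ideal.map_le_iff_le_comap.2 fun b hb => LinearMap.mem_ker.2 (by
        change cs hX W'.1 ((X.presheaf.map (homOfLE hle).op).hom b) • rs M (preMap hle) s = 0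
        rw [cs_res hX hle b]
        refine (map_val_smul (preMap hle) _ s).symm.trans ?_
        rw [h b hb, map_zero])
    exact LinearMap.mem_ker.1 (hker hb)
  · have := (FTors.openIdealFam (FSch.completionAlong X 𝓘) hX).map_mem n (homOfLE hW'V) ha
    exact this

end Push

end Groth.Agent.FTorsLib.Compl
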