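import Groth.Agent.FTorsLib.ComplPull

/-!
# The unit of the completion on torsion modules
-/

set_option autoImplicit false
set_option backward.isDefEq.respectTransparency.types false

universe u

open CategoryTheory CategoryTheory.Limits Opposite TopologicalSpace AlgebraicGeometry ModSite

namespace Groth.Agent.FTorsLib.Compl

open Groth.Agent.PullFlatStalk (complSharp preU)
open Groth.Agent.FFormal (Rg pr)
open Groth.Agent.ModFlat (rs map_val_smul map_val_comp map_ring_comp)
open Groth.Agent.PullFlat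

variable {X : Scheme.{u}} {𝓘 : X.IdealSheafData} (hX : (FSch.completionAlong X 𝓘).IsFormal)
  {N : ModSite.Mod X.sheaf}

/-- Finitely many sections of a torsion module are killed near a point by one power of the ideal. -/
theorem exists_killed_family (hN : FTors.IsTorsZp X 𝓘 N) {U : X.Opens} {k : ℕ} (m : Fin k → sect N U) {y : X}
    (hy : y ∈ U) :
    ∃ (W : X.affineOpens) (hW : W.1 ≤ U) (n : ℕ), y ∈ W.1 ∧
      ∀ l, ∀ b ∈ 𝓘.ideal W ^ (n + 1), (show X.sheaf.obj.obj (op W.1) from b) • rs N (homOfLE hW) (m l) = 0 := by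
  choose V hV n hyV hn using fun l => exists_killed hN (m l) hy
  obtain ⟨W, hW, hyW, hle⟩ := exists_isAffineOpen_mem_and_subset (x := y)
    (U := U ⊓ ⟨⋂ l, (V l : Set X), isOpen_iInter_of_finite fun l => (V l).2⟩) ⟨hy, Set.mem_iInter.2 hyV⟩
  refine ⟨⟨W, hW⟩, fun z hz => (hle hz).1, Finset.univ.sup n, hyW, fun l b hb => ?_⟩
  have hWV : W ≤ V l := fun z hz => Set.mem_iInter.1 (hle hz).2 l
  rw [rs_eq N _ (homOfLE hWV ≫ homOfLE (hV l)) (m l), map_val_comp]
  exact smul_eq_zero_of_killedBy (hn l) ⟨W, hW⟩ hWV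
    (Ideal.pow_le_pow_right ((Finset.le_sup (Finset.mem_univ l)).trans (Nat.le_succ _)) hb)

variable [IsLocallyNoetherian X]

omit [IsLocallyNoetherian X] in
theorem eta_zero (W : X.Opens) : eta hX N W 0 = 0 :=
  map_zero ((kap hX).adj.unit.app N |>.val.app (op W)).hom

/-- The inverse image of a torsion module is torsion. -/
theorem isTorsF_pull (hN : FTors.IsTorsZp X 𝓘 N) :
    FTors.IsTorsF (FSch.completionAlong X 𝓘) hX ((kap hX).pull.obj N) := by
  intro V z x hx
  obtain ⟨W, hWV, hxW, -, k, r, m, hz⟩ := exists_repr hX N z hx (U := ⊤) trivial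
  obtain ⟨W', hW', n, hxW', hn⟩ := exists_killed_family hN m hxW
  refine ⟨preU X 𝓘 W'.1, preMap hW' ≫ homOfLE hWV, ⟨n, killedBy_open hX _ n W' _ fun b hb => ?_⟩, hxW'⟩
  show cs hX W'.1 b • rs ((kap hX).pull.obj N) (preMap hW' ≫ homOfLE hWV) z = 0
  rw [map_val_comp, hz, rs_sum_eta hX N hW', Finset.smul_sum]
  refine Finset.sum_eq_zero fun l _ => ?_
  rw [smul_comm, ← eta_smul hX N, hn l b hb, eta_zero, smul_zero]

/-- The unit is injective on torsion modules. -/
theorem eta_injective (hN : FTors.IsTorsZp X 𝓘 N) {U : X.Opens} (s : sect N U) (hs : eta hX N U s = 0) : s = 0 := by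
  let S : Sieve U :=
    { arrows := fun V g => rs N g s = 0
      downward_closed := fun {V V'} g hg h => by
        show rs N (h ≫ g) s = 0
        rw [map_val_comp, hg, map_zero] }
  refine eq_zero_of_locally N (S := S) ?_ s fun V g hg => hg
  intro y hy
  by_cases hyZ : y ∈ Set.range (FSch.completionToX X 𝓘 0)
  · obtain ⟨x, rfl⟩ := hyZ
    have h0 : ∑ _ : Fin 1, (1 : Rg hX (preU X 𝓘 U)) • eta hX N U s = 0 := by
      rw [Finset.sum_const, hs, smul_zero, smul_zero]
    obtain ⟨W', hW', k, c, d, hxW', hrel, h1⟩ :=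
      exists_relations_nhd hX N U hy (fun _ : Fin 1 => 1) (fun _ => s) h0
    let x0 := (FSch.completionAlong X 𝓘).lvU hX 0 (preU X 𝓘 W'.1)
    have hx0 : x ∈ x0 := (FSch.lvU_p _ hX _ (FSch.completionToX_comm X 𝓘) 0 W'.1).le hxW'
    obtain ⟨j, hj⟩ : ∃ j, FSch.completionToX X 𝓘 0 x ∈ X.basicOpen (c j 0) := by
      by_contra hc
      rw [not_exists] at hc
      have hnon : ∀ j, ((FSch.completionAlong X 𝓘).X 0).presheaf.germ x0 x hx0 (lev hX 0 W'.1 (c j 0)) ∈
          IsLocalRing.maximalIdeal (((FSch.completionAlong X 𝓘).X 0).presheaf.stalk x) := fun j => by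
        rw [IsLocalRing.mem_maximalIdeal, mem_nonunits_iff, ← Scheme.mem_basicOpen]
        intro hm
        have he := Scheme.basicOpen_appLE (FSch.completionToX X 𝓘 0) x0 W'.1
          (FSch.lvU_p _ hX _ (FSch.completionToX_comm X 𝓘) 0 W'.1).ge (c j 0)
        exact hc j (he.le hm).2
      have h2 := congrArg (fun a => ((FSch.completionAlong X 𝓘).X 0).presheaf.germ x0 x hx0
        (pr hX 0 (preU X 𝓘 W'.1) a)) (h1 0)
      simp only [map_one, map_sum, map_mul, pr_cs] at h2
      exact (IsLocalRing.maximalIdeal _).ne_top_iff_one.1 Ideal.IsPrime.ne_top'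
        (h2.symm ▸ Ideal.sum_mem _ fun j _ => Ideal.mul_mem_left _ _ (hnon j))
    have hle : X.basicOpen (c j 0) ≤ W'.1 := X.basicOpen_le _
    refine ⟨X.basicOpen (c j 0), homOfLE (hle.trans hW'), ?_, hj⟩
    show rs N (homOfLE (hle.trans hW')) s = 0
    have h3 := congrArg (rs N (homOfLE hle)) (hrel j)
    rw [Fin.sum_univ_one, map_zero, map_val_smul, ← map_val_comp] at h3
    have hu : IsUnit (X.sheaf.obj.map (homOfLE hle).op (show X.sheaf.obj.obj (op W'.1) from c j 0)) :=
      X.toRingedSpace.isUnit_res_basicOpen (c j 0)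
    exact (rs_eq N _ _ s).trans (hu.smul_eq_zero.1 h3)
  · obtain ⟨W₀, hyW₀, hW₀U, hbot, -⟩ := exists_affine_away (𝓘 := 𝓘) hyZ hy
    obtain ⟨V, hV, n, hyV, hn⟩ := exists_killed hN (rs N (homOfLE hW₀U) s) hyW₀
    obtain ⟨W, hyW, hWV, -, hW1⟩ := exists_affine_away (𝓘 := 𝓘) hyZ hyV
    refine ⟨W.1, homOfLE hWV ≫ homOfLE hV ≫ homOfLE hW₀U, ?_, hyW⟩
    have := smul_eq_zero_of_killedBy hn W hWV (hW1 n)
    show rs N (homOfLE hWV ≫ homOfLE hV ≫ homOfLE hW₀U) s = 0
    rw [map_val_comp, map_val_comp]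
    exact (one_smul ((ringSh X.sheaf).obj.obj (op W.1)) _).symm.trans this

/-- The unit is an isomorphism on torsion modules. -/
theorem isIso_unit (hN : FTors.IsTorsZp X 𝓘 N) : IsIso ((kap hX).adj.unit.app N) := by
  haveI : Mono ((kap hX).adj.unit.app N) := mono_of_appS_injective _ fun U s hs => eta_injective hX hN s hs
  haveI : Epi ((kap hX).adj.unit.app N) := by
    refine SitePull.epi_of_locally_surjective _ fun U z => ?_
    refine ⟨{ arrows := fun V g => ∃ y, appS ((kap hX).adj.unit.app N) V y = rs _ g z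
              downward_closed := fun {V V'} g ⟨y, hy⟩ h => ⟨rs N h y,
                (appS_res ((kap hX).adj.unit.app N) h y).trans ((congrArg (rs _ h) hy).trans (map_val_comp h g z).symm)⟩ },
      fun y hy => ?_, fun V g hg => hg⟩
    by_cases hyZ : y ∈ Set.range (FSch.completionToX X 𝓘 0)
    · obtain ⟨x, rfl⟩ := hyZ
      obtain ⟨W, hWV, hxW, hWU, k, r, m, hz⟩ :=
        exists_repr hX N (show sect ((kap hX).pull.obj N) (preU X 𝓘 U) from z) (x := x) hy hy
      obtain ⟨W', hW', n, hxW', hn⟩ := exists_killed_family hN m hxW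
      choose b hb using fun l => exists_approx hX n W' (rsC hX (preMap hW') (r l))
      let y₀ : sect N W'.1 := ∑ l, (show X.sheaf.obj.obj (op W'.1) from b l) • rs N (homOfLE hW') (m l)
      refine ⟨W'.1, homOfLE (hW'.trans hWU), ⟨y₀, ?_⟩, hxW'⟩
      show eta hX N W'.1 y₀ = rs ((kap hX).push.obj _) (homOfLE (hW'.trans hWU)) z
      refine Eq.trans ?_ (((congrArg (rs _ (preMap hW')) hz).symm.trans (map_val_comp _ _ _).symm).trans
        ((rs_eq _ _ _ _).trans (push_rs hX _ (hW'.trans hWU) z).symm))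
      rw [rs_sum_eta hX N hW']
      refine (map_sum ((kap hX).adj.unit.app N |>.val.app (op W'.1)).hom _ _).trans (Finset.sum_congr rfl fun l _ => ?_)
      refine (eta_smul hX N W'.1 (b l) (rs N (homOfLE hW') (m l))).trans ?_
      have hk : (rsC hX (preMap hW') (r l) - cs hX W'.1 (b l)) • eta hX N W'.1 (rs N (homOfLE hW') (m l)) = 0 :=
        smul_eq_zero_of_ker hX _ n W' _ (fun c hc => by
          rw [← eta_smul hX N, hn l c hc]
          exact eta_zero hX _) (hb l)
      rw [sub_smul, sub_eq_zero] at hk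
      exact hk.symm
    · obtain ⟨W, hyW, hWU, hbot, -⟩ := exists_affine_away hyZ hy
      exact ⟨W.1, homOfLE hWU, ⟨0, subsingleton_bot hX _ hbot _ _⟩, hyW⟩
  exact isIso_of_mono_of_epi _

end Groth.Agent.FTorsLib.Compl
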