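import Groth.Agent.FTorsLib.Torsion
import Groth.Agent.SitePull.SubDerived
import Groth.Agent.DTrunc.RightDerived
import Groth.Agent.ModShf.GrothAb

/-!
# The derived category of torsion modules and the derived torsion functor
-/

set_option autoImplicit false
set_option backward.isDefEq.respectTransparency.types false

universe u

open CategoryTheory CategoryTheory.Limits Opposite ModSite DerivedCategory

namespace Groth.Agent.FTorsLib

attribute [local instance] HasDerivedCategory.standard

open Groth.Agent.KFlat

variable {C : Type u} [SmallCategory C] {J : GrothendieckTopology C} {O : Sheaf J CommRingCat.{u}}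
  (I : FTors.IdealFam O)

instance additive_coreflect [(FTors.IsTors I).ContainsZero] [(FTors.IsTors I).IsClosedUnderFiniteProducts] :
    (coreflect I).Additive where
  map_add {M N f g} := ObjectProperty.hom_ext _ (by
    change (FTors.gamma O I).map (f + g) = _
    rw [Functor.map_add]
    rfl)

theorem counit_mapCx [WSerre.IsWeakSerre (FTors.IsTors I)] (K : CochainComplex (Mod O) ℤ) :
    (CxAdj.mapCx (coreflectAdj I) (ComplexShape.up ℤ)).counit.app K =
      (NatTrans.mapHomologicalComplex (FTors.gammaι I) (ComplexShape.up ℤ)).app K := by
  refine HomologicalComplex.hom_ext _ _ fun n => ?_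
  exact coreflectAdj_counit I (K.X n)

theorem counitQuasiIso [WSerre.IsWeakSerre (FTors.IsTors I)] (hI : HasLocGens I) :
    SitePull.SubDerived.CounitQuasiIso (FTors.IsTors I) (coreflectAdj I) := by
  intro K hK hH
  rw [counit_mapCx]
  haveI := hK
  exact quasiIso_gammaι K hH hI

/-- `D(A_I) → D(Mod O)` is fully faithful with image the complexes with torsion cohomology. -/
theorem toDerived_spec [WSerre.IsWeakSerre (FTors.IsTors I)] (hI : HasLocGens I) :
    (WSerre.toDerived (FTors.IsTors I)).Full ∧ (WSerre.toDerived (FTors.IsTors I)).Faithful ∧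
      ∀ G : DerivedCategory (Mod O), (WSerre.toDerived (FTors.IsTors I)).essImage G ↔ FTors.IsDTors I G :=
  ⟨(SitePull.SubDerived.fullyFaithful (counitQuasiIso I hI)).1,
    (SitePull.SubDerived.fullyFaithful (counitQuasiIso I hI)).2,
    fun G => (SitePull.SubDerived.cohIn_iff_essImage (counitQuasiIso I hI) G).symm⟩

end Groth.Agent.FTorsLib
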