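import Groth.Agent.FTorsLib.TorsQis
import Groth.Agent.FFormal.Coh

/-!
# Open ideals of a locally Noetherian formal scheme are locally finitely generated up to cofinality
-/

set_option autoImplicit false
set_option backward.isDefEq.respectTransparency.types false

universe u

open CategoryTheory CategoryTheory.Limits Opposite TopologicalSpace AlgebraicGeometry

namespace Groth.Agent.FTorsLib

/-- Colon ideals by elements commute with flat base change. -/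
theorem mem_map_colon {A B : Type u} [CommRing A] [CommRing B] (φ : A →+* B) (hφ : φ.Flat) (p : Ideal A)
    (hp : p.FG) (x : A) (b : B) (hb : φ x * b ∈ p.map φ) :
    b ∈ Ideal.map φ (Submodule.comap (LinearMap.mulLeft A x) p) := by
  obtain ⟨m, g, rfl⟩ := Submodule.fg_iff_exists_fin_generating_family.1 hp
  change φ x * b ∈ (Ideal.span (Set.range g)).map φ at hb
  rw [Ideal.map_span, ← Set.range_comp, Ideal.mem_span_range_iff_exists_fun] at hb
  obtain ⟨c, hc⟩ := hb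
  have h := FFormal.mem_span_of_flat φ hφ (n := 1) (p := 1) (fun _ _ => x) (fun k _ => g k) (fun _ => b) c
    (fun _ => by rw [Fin.sum_univ_one, mul_comm]; exact hc.symm)
  have hle : Submodule.span B ((fun c0 => φ ∘ c0) ''
      {c0 : Fin 1 → A | ∃ b0 : Fin m → A, ∀ _i : Fin 1, ∑ j, c0 j * x = ∑ k, b0 k * g k}) ≤
      Submodule.comap (LinearMap.proj (R := B) 0)
        (Ideal.map φ (Submodule.comap (LinearMap.mulLeft A x) (Ideal.span (Set.range g)))) := by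
    refine Submodule.span_le.2 ?_
    rintro _ ⟨c0, ⟨b0, hb0⟩, rfl⟩
    refine Ideal.mem_map_of_mem φ ?_
    rw [Submodule.mem_comap, LinearMap.mulLeft_apply, Ideal.mem_span_range_iff_exists_fun]
    exact ⟨b0, by rw [← hb0 0, Fin.sum_univ_one, mul_comm]⟩
  exact hle h

variable {𝔛 : FSch.Sys.{u}}

open Groth.Agent.FFormal

theorem exists_affine_cover (U : (𝔛.X 0).Opens) :
    ∃ S ∈ Opens.grothendieckTopology (𝔛.X 0) U, ∀ ⦃V : (𝔛.X 0).Opens⦄ (g : V ⟶ U), S g → IsAffineOpen V ∨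
      ∃ W : (𝔛.X 0).Opens, IsAffineOpen W ∧ W ≤ U ∧ V ≤ W := by
  refine ⟨{ arrows := fun V _ => ∃ W : (𝔛.X 0).Opens, IsAffineOpen W ∧ W ≤ U ∧ V ≤ W
            downward_closed := fun {V V'} f ⟨W, h1, h2, h3⟩ g => ⟨W, h1, h2, g.le.trans h3⟩ }, ?_,
    fun V g hg => Or.inr hg⟩
  intro x hx
  obtain ⟨_, ⟨W, hW, rfl⟩, hxW, hWU⟩ := (𝔛.X 0).isBasis_affineOpens.exists_subset_of_mem_open hx U.2
  exact ⟨W, homOfLE hWU, ⟨W, hW, hWU, le_rfl⟩, hxW⟩

variable (hN : 𝔛.IsLocNoethFormal)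

theorem map_op_apply {V W : (𝔛.X 0).Opens} (φ : W ⟶ V) (a : Rg hN.1 V) :
    (𝔛.Osh hN.1).obj.map φ.op a = rsR hN.1 φ.le a := by
  rw [Subsingleton.elim φ (homOfLE φ.le)]
  rfl

theorem rsR_trans {W' W V : (𝔛.X 0).Opens} (h₁ : W' ≤ W) (h₂ : W ≤ V) (a : Rg hN.1 V) :
    rsR hN.1 h₁ (rsR hN.1 h₂ a) = rsR hN.1 (h₁.trans h₂) a :=
  rsR_rsR h₁ h₂ a

theorem pre_map {V W W' : (𝔛.X 0).Opens} {r : ℕ} (f : Fin r → Rg hN.1 V) (φ : W ⟶ V) (g : W' ⟶ W) (i m : ℕ) :
    (pre f φ i m).map ((𝔛.Osh hN.1).obj.map g.op).hom = pre f (g ≫ φ) i m := by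
  rw [pre, Ideal.map_span, ← Set.image_comp]
  refine congrArg Ideal.span (Set.image_congr' fun j => ?_)
  rw [Function.comp_apply, map_pow]
  exact congrArg (· ^ m) (rf_res f φ g j)

theorem pre_eq_map {V W : (𝔛.X 0).Opens} {r : ℕ} (f : Fin r → Rg hN.1 V) (φ : W ⟶ V) (i m : ℕ) :
    pre f φ i m =
      (Ideal.span ((fun j : Fin r => f j ^ m) '' {j | (j : ℕ) < i})).map (rsR hN.1 φ.le) := by
  rw [Ideal.map_span, ← Set.image_comp]
  refine congrArg Ideal.span (Set.image_congr' fun j => ?_)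
  rw [Function.comp_apply, map_pow, ← map_op_apply hN φ]

theorem locGens_affine {V : (𝔛.X 0).Opens} (hV : IsAffineOpen V) :
    ∃ (r : ℕ) (f : Fin r → Rg hN.1 V), LocGens (FTors.openIdealFam 𝔛 hN.1) f := by
  haveI := FFormal.isNoetherianRing hN.1 hN hV
  obtain ⟨r, f, hf⟩ := Submodule.fg_iff_exists_fin_generating_family.1 (IsNoetherian.noetherian (I hN.1 V))
  have hmem : ∀ j, f j ∈ I hN.1 V := fun j => hf ▸ Submodule.subset_span ⟨j, rfl⟩
  refine ⟨r, f, fun n => ⟨n + 1, fun j => ?_⟩, fun N => ?_, fun i m => ?_⟩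
  · change f j ^ (n + 1) ∈ RingHom.ker (pr hN.1 n V)
    rw [ker_pr hN.1 hN hV n]
    exact Ideal.pow_mem_pow (hmem j) _
  · let P : Ideal (Rg hN.1 V) := Ideal.span ((fun j : Fin r => f j ^ N) '' {j | (j : ℕ) < r})
    have hle : I hN.1 V ≤ P.radical := by
      rw [← hf, Submodule.span_le]
      rintro _ ⟨j, rfl⟩
      exact ⟨N, Ideal.subset_span ⟨j, j.2, rfl⟩⟩
    obtain ⟨n, hn⟩ := Ideal.exists_pow_le_of_le_radical_of_fg hle (IsNoetherian.noetherian _)
    refine ⟨n, fun W φ a ha => ?_⟩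
    obtain ⟨S, hS, hS'⟩ := exists_affine_cover W
    refine ⟨S, hS, fun W' g hg => ?_⟩
    obtain ⟨U, hU, hUW, hW'U⟩ : ∃ U : (𝔛.X 0).Opens, IsAffineOpen U ∧ U ≤ W ∧ W' ≤ U := by
      rcases hS' g hg with h | h
      · exact ⟨W', h, g.le, le_rfl⟩
      · exact h
    have ha' : (𝔛.Osh hN.1).obj.map (homOfLE hUW).op a ∈ pre f (homOfLE hUW ≫ φ) r N := by
      have h1 : (𝔛.Osh hN.1).obj.map (homOfLE hUW).op a ∈ RingHom.ker (pr hN.1 n U) :=
        (FTors.openIdealFam 𝔛 hN.1).map_mem n (homOfLE hUW) ha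
      rw [ker_pr_eq_map hN.1 hN hU hV (hUW.trans φ.le) n] at h1
      rw [pre_eq_map hN]
      exact Ideal.map_mono ((Ideal.pow_le_pow_right n.le_succ).trans hn) h1
    have h2 := Ideal.mem_map_of_mem ((𝔛.Osh hN.1).obj.map (homOfLE hW'U).op).hom ha'
    rw [pre_map hN] at h2
    rw [Subsingleton.elim g (homOfLE hW'U ≫ homOfLE hUW), Category.assoc]
    refine Eq.mp ?_ h2
    refine congrArg (· ∈ _) ?_
    exact congr($((𝔛.Osh hN.1).obj.map_comp (homOfLE hUW).op (homOfLE hW'U).op) a).symm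
  · let P : Ideal (Rg hN.1 V) := Ideal.span ((fun j : Fin r => f j ^ m) '' {j | (j : ℕ) < (i : ℕ)})
    let Q : ℕ →o Ideal (Rg hN.1 V) :=
      ⟨fun k => Submodule.comap (LinearMap.mulLeft (Rg hN.1 V) (f i ^ k)) P, fun a b hab c hc => by
        obtain ⟨d, rfl⟩ := exists_add_of_le hab
        rw [Submodule.mem_comap, LinearMap.mulLeft_apply, add_comm, pow_add, mul_assoc]
        exact Ideal.mul_mem_left _ _ hc⟩
    obtain ⟨k, hk⟩ := monotone_stabilizes_iff_noetherian.2 inferInstance Q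
    refine ⟨k, fun n W φ a ha => ?_⟩
    obtain ⟨S, hS, hS'⟩ := exists_affine_cover W
    refine ⟨S, hS, fun W' g hg => ?_⟩
    obtain ⟨U, hU, hUW, hW'U⟩ : ∃ U : (𝔛.X 0).Opens, IsAffineOpen U ∧ U ≤ W ∧ W' ≤ U := by
      rcases hS' g hg with h | h
      · exact ⟨W', h, g.le, le_rfl⟩
      · exact h
    let ψ : U ⟶ V := homOfLE hUW ≫ φ
    have h0 := Ideal.mem_map_of_mem ((𝔛.Osh hN.1).obj.map (homOfLE hUW).op).hom ha
    rw [pre_map hN, map_mul, map_pow, pre_eq_map hN] at h0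
    have hb : (𝔛.Osh hN.1).obj.map (homOfLE hUW).op a ∈ (Q (n + k)).map (rsR hN.1 ψ.le) := by
      refine mem_map_colon _ (flat_rsR hN.1 hN hU hV ψ.le) P (IsNoetherian.noetherian _) _ _ ?_
      rw [map_pow]
      refine Eq.mp ?_ h0
      refine congrArg (fun z : Rg hN.1 U => z ^ (n + k) * _ ∈ _) ?_
      exact (rf_res f φ (homOfLE hUW) i).trans (map_op_apply hN ψ (f i))
    rw [← hk (n + k) (Nat.le_add_left k n)] at hb
    have hb' : rsR hN.1 ψ.le (f i ^ k) * (𝔛.Osh hN.1).obj.map (homOfLE hUW).op a ∈ P.map (rsR hN.1 ψ.le) := by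
      have := Ideal.mul_mem_mul (Ideal.mem_map_of_mem (rsR hN.1 ψ.le)
        (Ideal.mem_span_singleton_self (f i ^ k))) hb
      rw [← Ideal.map_mul] at this
      refine Ideal.map_mono ?_ this
      refine Ideal.mul_le.2 fun x hx y hy => ?_
      obtain ⟨c, rfl⟩ := Ideal.mem_span_singleton'.1 hx
      rw [mul_assoc]
      exact Ideal.mul_mem_left _ _ hy
    rw [← pre_eq_map hN] at hb'
    have h2 := Ideal.mem_map_of_mem ((𝔛.Osh hN.1).obj.map (homOfLE hW'U).op).hom hb'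
    rw [pre_map hN] at h2
    rw [Subsingleton.elim g (homOfLE hW'U ≫ homOfLE hUW), Category.assoc]
    refine Eq.mp ?_ h2
    refine congrArg (· ∈ _) ?_
    rw [map_pow, ← map_op_apply hN ψ]
    change (𝔛.Osh hN.1).obj.map (homOfLE hW'U).op (rf f ψ i ^ k * _) = _
    rw [← rf_res f φ (homOfLE hUW) i, ← map_pow, ← map_mul]
    exact congr($((𝔛.Osh hN.1).obj.map_comp (homOfLE hUW).op (homOfLE hW'U).op) (rf f φ i ^ k * a)).symm

include hN in
theorem hasLocGens_open : HasLocGens (FTors.openIdealFam 𝔛 hN.1) := by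
  intro U
  refine ⟨⟨fun V _ => ∃ (r : ℕ) (f : Fin r → Rg hN.1 V), LocGens (FTors.openIdealFam 𝔛 hN.1) f, ?_⟩, ?_,
    fun V g hg => hg⟩
  · rintro V V' _ ⟨r, f, hf⟩ g
    exact ⟨r, fun j => (𝔛.Osh hN.1).obj.map g.op (f j), hf.restrict g⟩
  · intro x hx
    obtain ⟨_, ⟨W, hW, rfl⟩, hxW, hWU⟩ := (𝔛.X 0).isBasis_affineOpens.exists_subset_of_mem_open hx U.2
    exact ⟨W, homOfLE hWU, locGens_affine hN hW, hxW⟩

end Groth.Agent.FTorsLib
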