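import Groth.Agent.LocPres.GPres
import Groth.Agent.LocPres.TensorPres
import Groth.Agent.LocPres.Space
import Mathlib.Topology.Sheaves.SheafCondition.UniqueGluing

/-!
# Sections of a free module over a compact open
-/

set_option autoImplicit false
set_option backward.isDefEq.respectTransparency.types false

universe u

open CategoryTheory CategoryTheory.Limits Opposite ModSite TopologicalSpace

namespace Groth.Agent.FTorsLib

open Groth.Agent.ModFlat (rs map_val_smul map_val_comp map_ring_comp)
open Groth.Agent.PullFlat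
open Groth.Agent.LocPres

variable {X : TopCat.{u}} {O : Sheaf (Opens.grothendieckTopology X) CommRingCat.{u}}

/-- Over a compact open every section is a finite combination of a free family. -/
theorem exists_finsupp_of_compact {G : Mod O} {U : Opens X} {I : Type u} {t : I → sect G U} (htg : IsGen t)
    (hti : IsIndep t) (hU : IsCompact (U : Set X)) (z : sect G U) :
    ∃ c : I →₀ O.obj.obj (op U), combS t (𝟙 U) c = z := by
  classical
  obtain ⟨S, hS, hS'⟩ := htg (𝟙 U) z
  choose W g hg hx using fun x : (U : Set X) => hS x.1 x.2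
  obtain ⟨s, hs⟩ := hU.elim_finite_subcover (fun x : (U : Set X) => (W x : Set X)) (fun x => (W x).2)
    (fun y hy => Set.mem_iUnion.2 ⟨⟨y, hy⟩, hx _⟩)
  choose c hc using fun x => hS' (g x) (hg x)
  let V : s → Opens X := fun x => W x.1
  let j : ∀ x : s, V x ⟶ U := fun x => g x.1
  have hcov : U ≤ iSup V := fun y hy => by
    obtain ⟨x, hxs, hyx⟩ := Set.mem_iUnion₂.1 (hs hy)
    exact Opens.mem_iSup.2 ⟨⟨x, hxs⟩, hyx⟩
  let A : Finset I := s.biUnion fun x => (c x).support
  let F : TopCat.Sheaf CommRingCat.{u} X := O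
  have hglue : ∀ a : I, ∃ b : O.obj.obj (op U), ∀ x : s, (O.obj.map (j x).op).hom b = c x.1 a := fun a => by
    have hcompat : TopCat.Presheaf.IsCompatible F.1 V (fun x => c x.1 a) := fun x y => by
      let l : V x ⊓ V y ⟶ V x := homOfLE inf_le_left
      let r : V x ⊓ V y ⟶ V y := homOfLE inf_le_right
      have h0 : combS t (l ≫ j x)
          ((c x.1).mapRange (O.obj.map l.op).hom (map_zero _) -
            (c y.1).mapRange (O.obj.map r.op).hom (map_zero _)) = 0 := by
        have ex := congrArg (rs G l) (hc x.1)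
        have ey := congrArg (rs G r) (hc y.1)
        rw [combS_res, ← map_val_comp, Category.comp_id] at ex ey
        rw [map_sub, ex]
        rw [Subsingleton.elim (l ≫ j x) (r ≫ j y), ey, sub_eq_zero]
      obtain ⟨R, hR, hR'⟩ := hti _ _ h0
      refine sub_eq_zero.1 (F.eq_of_locally_eq' (U := fun q : {q : Opens X × PUnit.{u+1} // ∃ h : q.1 ≤ V x ⊓ V y, R (homOfLE h)} => q.1.1)
        (V x ⊓ V y) (fun q => homOfLE q.2.1) (fun p hp => ?_) _ _ fun q => ?_)
      · obtain ⟨P, gP, hgP, hpP⟩ := hR p hp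
        exact Opens.mem_iSup.2 ⟨⟨(P, PUnit.unit), gP.le, by rwa [Subsingleton.elim (homOfLE gP.le) gP]⟩, hpP⟩
      · rw [map_zero]
        exact hR' (homOfLE q.2.1) q.2.2 a
    exact (F.existsUnique_gluing' V U j hcov _ hcompat).exists
  choose b hb using hglue
  refine ⟨∑ a ∈ A, Finsupp.single a (b a), ?_⟩
  rw [← sub_eq_zero]
  refine eq_zero_of_locally _ (S := ⟨fun P _ => ∃ x : s, P ≤ V x, fun {P Q} g ⟨x, hx⟩ h => ⟨x, h.le.trans hx⟩⟩) ?_ _
    fun P gP ⟨x, hx⟩ => ?_
  · intro p hp
    obtain ⟨x, hpx⟩ := Opens.mem_iSup.1 (hcov hp)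
    exact ⟨V x, j x, ⟨x, le_rfl⟩, hpx⟩
  · rw [Subsingleton.elim gP (homOfLE hx ≫ j x), map_val_comp]
    refine (congrArg (rs G (homOfLE hx)) ?_).trans (map_zero _)
    rw [map_sub, combS_res, sub_eq_zero, ← hc x.1, Category.comp_id]
    refine congrArg (combS t (j x)) (Finsupp.ext fun a => ?_)
    rw [Finsupp.mapRange_apply, Finsupp.finsetSum_apply]
    by_cases ha : a ∈ A
    · rw [Finset.sum_eq_single a (fun a' _ hne => Finsupp.single_eq_of_ne hne.symm)
        (fun h => absurd ha h), Finsupp.single_eq_same]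
      exact hb a x
    · rw [Finset.sum_eq_zero (fun a' ha' => Finsupp.single_apply.trans (if_neg fun h : a' = a => ha (h ▸ ha'))), map_zero]
      exact (Finsupp.notMem_support_iff.1 fun h => ha (Finset.mem_biUnion.2 ⟨x.1, x.2, h⟩)).symm

end Groth.Agent.FTorsLib
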