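import Groth.Agent.FTorsLib.PullDiv

/-!
# The torsion functor commutes with the inverse image to the completion
-/

set_option autoImplicit false
set_option backward.isDefEq.respectTransparency.types false

universe u

open CategoryTheory CategoryTheory.Limits Opposite TopologicalSpace AlgebraicGeometry ModSite

namespace Groth.Agent.FTorsLib.Compl

open Groth.Agent.PullFlatStalk (complSharp preU)
open Groth.Agent.FFormal (Rg pr)
open Groth.Agent.ModFlat (rs map_val_smul map_val_comp map_ring_comp)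
open Groth.Agent.PullFlat

variable {X : Scheme.{u}} {𝓘 : X.IdealSheafData} (hX : (FSch.completionAlong X 𝓘).IsFormal)

/-- The torsion functor of the completion. -/
noncomputable abbrev gT := FTors.gamma ((FSch.completionAlong X 𝓘).Osh hX) (FTors.openIdealFam (FSch.completionAlong X 𝓘) hX)

/-- The torsion functor of the scheme. -/
noncomputable abbrev gZ := FTors.gamma X.sheaf (FTors.powIdealFam X 𝓘)

variable [IsLocallyNoetherian X]

/-- The components of the comparison of the torsion functors. -/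
noncomputable def gammaCmpApp (M : ModSite.Mod X.sheaf) :
    (kap hX).pull.obj ((gZ (X := X) (𝓘 := 𝓘)).obj M) ⟶ (gT hX).obj ((kap hX).pull.obj M) :=
  toGamma _ _ (isTorsF_pull hX (isTors_gamma _ M)) ≫
    (gT hX).map ((kap hX).pull.map ((FTors.gammaι (FTors.powIdealFam X 𝓘)).app M))

theorem gammaCmpApp_ι (M : ModSite.Mod X.sheaf) :
    gammaCmpApp hX M ≫ (FTors.gammaι (FTors.openIdealFam (FSch.completionAlong X 𝓘) hX)).app ((kap hX).pull.obj M) =
      (kap hX).pull.map ((FTors.gammaι (FTors.powIdealFam X 𝓘)).app M) := by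
  rw [gammaCmpApp, Category.assoc, (FTors.gammaι _).naturality, ← Category.assoc, toGamma_ι]
  exact Category.id_comp _

/-- The comparison of the torsion functors. -/
noncomputable def gammaCmp : gZ (X := X) (𝓘 := 𝓘) ⋙ (kap hX).pull ⟶ (kap hX).pull ⋙ gT hX where
  app := gammaCmpApp hX
  naturality M M' f := by
    refine (cancel_mono ((FTors.gammaι (FTors.openIdealFam (FSch.completionAlong X 𝓘) hX)).app _)).1 ?_
    simp only [Category.assoc, Functor.comp_map]
    refine ((congrArg (_ ≫ ·) (gammaCmpApp_ι hX M')).trans ?_).trans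
      (congrArg (gammaCmpApp hX M ≫ ·) ((FTors.gammaι _).naturality _).symm)
    refine Eq.trans ?_ ((congrArg (· ≫ (kap hX).pull.map f) (gammaCmpApp_ι hX M).symm).trans (Category.assoc _ _ _))
    exact ((kap hX).pull.map_comp _ _).symm.trans ((congrArg _ ((FTors.gammaι _).naturality f)).trans
      ((kap hX).pull.map_comp _ _))

variable [PreservesFiniteLimits (kap hX).pull]

/-- The torsion functor commutes with the inverse image to the completion. -/
theorem isIso_gammaCmp (M : ModSite.Mod X.sheaf) : IsIso (gammaCmpApp hX M) := by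
  let I₀ := FTors.powIdealFam X 𝓘
  let I₁ := FTors.openIdealFam (FSch.completionAlong X 𝓘) hX
  haveI : Mono ((kap hX).pull.map ((FTors.gammaι I₀).app M)) := inferInstance
  haveI : Mono (gammaCmpApp hX M ≫ (FTors.gammaι I₁).app ((kap hX).pull.obj M)) := by
    rw [gammaCmpApp_ι]; infer_instance
  haveI : Mono (gammaCmpApp hX M) := mono_of_mono _ ((FTors.gammaι I₁).app ((kap hX).pull.obj M))
  haveI : Epi (gammaCmpApp hX M) := by
    refine SitePull.epi_of_locally_surjective _ fun U z => ?_
    refine ⟨{ arrows := fun U' g => ∃ y, appS (gammaCmpApp hX M) U' y = rs _ g z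
              downward_closed := fun {U' U''} g ⟨y, hy⟩ h => ⟨rs _ h y,
                (appS_res (gammaCmpApp hX M) h y).trans ((congrArg (rs _ h) hy).trans (map_val_comp h g z).symm)⟩ },
      fun x hx => ?_, fun U' g hg => hg⟩
    obtain ⟨U₁, g₁, ⟨n, hn⟩, hxU₁⟩ := (show FTors.killSieve I₁ _ z.1 ∈ Opens.grothendieckTopology ((FSch.completionAlong X 𝓘).X 0) U from z.2) x hx
    obtain ⟨V, hxV, -, hVU₁⟩ := exists_affine_nhd hxU₁ (U := ⊤) trivial
    obtain ⟨r, f, hf₀, hf₁⟩ := exists_gens (𝓘 := 𝓘) hX V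
    obtain ⟨m, hm⟩ := killed_of_killedBy hf₁ (M := (kap hX).pull.obj M) (𝟙 _)
      (FTors.KilledBy.res (homOfLE hVU₁) hn)
    obtain ⟨W, hWV, hWU, hxW, p, c, v, he, hv⟩ := exists_repr_killed hX f M (𝟙 _) (le_refl r) _ hm hxV
    let w : Fin p → sect ((gZ (X := X) (𝓘 := 𝓘)).obj M) W := fun l => ⟨v l, isTorsSect_of_killed hf₀ (hv l)⟩
    refine ⟨preU X 𝓘 W, homOfLE hWU ≫ homOfLE hVU₁ ≫ g₁, ⟨∑ l, c l • eta hX _ W (w l), ?_⟩, hxW⟩
    refine appS_injective ((FTors.gammaι I₁).app ((kap hX).pull.obj M)) _ ?_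
    refine (appS_comp (gammaCmpApp hX M) _ _).symm.trans ?_
    rw [gammaCmpApp_ι]
    refine (map_sum (appS ((kap hX).pull.map ((FTors.gammaι I₀).app M)) _) _ _).trans ?_
    refine Eq.trans ?_ (appS_res ((FTors.gammaι I₁).app ((kap hX).pull.obj M)) _ z).symm
    refine Eq.trans ?_ ((map_val_comp (homOfLE hWU) (homOfLE hVU₁ ≫ g₁) z.1).trans
      (congrArg (rs _ (homOfLE hWU)) (map_val_comp (homOfLE hVU₁) g₁ z.1))).symm
    refine Eq.trans (Finset.sum_congr rfl fun l _ => ?_) he.symm
    refine (map_smul (appS ((kap hX).pull.map ((FTors.gammaι I₀).app M)) _) _ _).trans (congrArg (c l • ·) ?_)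
    exact (congrArg (fun t : (gZ (X := X) (𝓘 := 𝓘)).obj M ⟶ (kap hX).push.obj ((kap hX).pull.obj M) =>
        t.val.app (op W) (w l)) ((kap hX).adj.unit.naturality ((FTors.gammaι I₀).app M))).symm
  exact isIso_of_mono_of_epi _

end Groth.Agent.FTorsLib.Compl
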