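import Groth.Agent.FTorsLib.ComplGens

/-!
# Killed sections of an inverse image to the completion
-/

set_option autoImplicit false
set_option backward.isDefEq.respectTransparency.types false

universe u

open CategoryTheory CategoryTheory.Limits Opposite TopologicalSpace AlgebraicGeometry ModSite

namespace Groth.Agent.FTorsLib.Compl

open Groth.Agent.PullFlatStalk (complSharp preU)
open Groth.Agent.FFormal (Rg pr)
open Groth.Agent.ModFlat (rs map_val_smul map_val_comp map_ring_comp)
open Groth.Agent.PullFlat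

variable {X : Scheme.{u}} {𝓘 : X.IdealSheafData} (hX : (FSch.completionAlong X 𝓘).IsFormal)
  {V : X.Opens} {r : ℕ} (f : Fin r → X.sheaf.obj.obj (op V))

/-- The images of sections on the completion. -/
noncomputable abbrev cf : Fin r → Rg hX (preU X 𝓘 V) := fun j => cs hX V (f j)

theorem cs_rf {W : X.Opens} (φ : W ⟶ V) (ψ : preU X 𝓘 W ⟶ preU X 𝓘 V) (j : Fin r) :
    cs hX W (rf f φ j) = rf (cf hX f) ψ j := by
  rw [Subsingleton.elim φ (homOfLE φ.le), Subsingleton.elim ψ (preMap φ.le)]
  exact cs_res hX φ.le (f j)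

theorem eta_sum (N : ModSite.Mod X.sheaf) (W : X.Opens) {n : ℕ} (v : Fin n → sect N W) :
    eta hX N W (∑ l, v l) = ∑ l, eta hX N W (v l) :=
  map_sum ((kap hX).adj.unit.app N |>.val.app (op W)).hom _ _

theorem eta_pow_smul (N : ModSite.Mod X.sheaf) (W : X.Opens) (a : X.sheaf.obj.obj (op W)) (m : ℕ) (t : sect N W) :
    eta hX N W (a ^ m • t) = cs hX W a ^ m • eta hX N W t :=
  (eta_smul hX N W _ t).trans (congrArg (· • _) (map_pow (cs hX W) a m))

variable [IsLocallyNoetherian X]

/-- A killed combination is, near every point, a combination of killed sections. -/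
theorem exists_killed_repr {N : ModSite.Mod X.sheaf} {x : (FSch.completionAlong X 𝓘).X 0} (i m : ℕ) :
    i ≤ r → ∀ {W : X.Opens} (hWV : W ≤ V) (_ : FSch.completionToX X 𝓘 0 x ∈ W) {n : ℕ}
      (c : Fin n → Rg hX (preU X 𝓘 W)) (v : Fin n → sect N W),
      Killed (cf hX f) i m (preMap hWV) (∑ l, c l • eta hX N W (v l)) →
      ∃ (W' : X.Opens) (hW' : W' ≤ W) (k : ℕ) (d : Fin k → Rg hX (preU X 𝓘 W')) (v' : Fin k → sect N W'),
        FSch.completionToX X 𝓘 0 x ∈ W' ∧
          rs ((kap hX).pull.obj N) (preMap hW') (∑ l, c l • eta hX N W (v l)) = ∑ l, d l • eta hX N W' (v' l) ∧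
          ∀ l, Killed f i m (homOfLE (hW'.trans hWV)) (v' l) := by
  induction i with
  | zero =>
    intro _ W hWV hx n c v _
    exact ⟨W, le_rfl, n, fun l => rsC hX (preMap le_rfl) (c l), fun l => rs N (homOfLE le_rfl) (v l), hx,
      rs_sum_eta hX N le_rfl c v, fun l j hj => absurd hj (Nat.not_lt_zero _)⟩
  | succ i ih =>
    intro hi W hWV hx n c v hk
    obtain ⟨W₁, hW₁, k, d, v₁, hx₁, hz, hv₁⟩ := ih (Nat.le_of_succ_le hi) hWV hx c v
      fun j hj => hk j (by omega)
    let j₀ : Fin r := ⟨i, hi⟩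
    have hW₁V : W₁ ≤ V := hW₁.trans hWV
    let a : X.sheaf.obj.obj (op W₁) := rf f (homOfLE hW₁V) j₀ ^ m
    have h0 : ∑ l, d l • eta hX N W₁ (a • v₁ l) = 0 := by
      have hk' := (hk.res (preMap hW₁)) j₀ (Nat.lt_succ_self i)
      rw [hz, Finset.smul_sum] at hk'
      refine Eq.trans (Finset.sum_congr rfl fun l _ => ?_) hk'
      rw [smul_comm]
      refine congrArg (d l • ·) ((eta_smul hX N W₁ a (v₁ l)).trans (congrArg (· • _) ?_))
      exact (map_pow (cs hX W₁) _ m).trans (congrArg (· ^ m) (cs_rf hX f (homOfLE hW₁V) _ j₀))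
    obtain ⟨W', hW', k', s, d', hx', hrel, hd⟩ := exists_relations_nhd hX N W₁ hx₁ d (fun l => a • v₁ l) h0
    let v' : Fin k' → sect N W'.1 := fun p =>
      ∑ l, (show X.sheaf.obj.obj (op W'.1) from s p l) • rs N (homOfLE hW') (v₁ l)
    refine ⟨W'.1, hW'.trans hW₁, k', d', v', hx', ?_, fun p => ?_⟩
    · rw [rs_eq _ (preMap (hW'.trans hW₁)) (preMap hW' ≫ preMap hW₁), map_val_comp, hz, rs_sum_eta hX N hW']
      simp only [v', hd, Finset.sum_smul]
      rw [Finset.sum_comm]
      refine Finset.sum_congr rfl fun p _ => ?_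
      refine Eq.trans ?_ (congrArg (d' p • ·) (eta_sum hX N W'.1 _).symm)
      rw [Finset.smul_sum]
      refine Finset.sum_congr rfl fun l _ => ?_
      rw [mul_smul]
      exact congrArg (d' p • ·) (eta_smul hX N W'.1 (s p l) _).symm
    · intro j hj
      simp only [v', Finset.smul_sum]
      rcases Nat.lt_succ_iff_lt_or_eq.1 hj with hj | hj
      · refine Finset.sum_eq_zero fun l _ => ?_
        rw [smul_comm]
        refine smul_eq_zero_of_right _ ?_
        have := (hv₁ l).res (homOfLE hW') j hj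
        exact Eq.trans (congrArg (fun t => t ^ m • _) (congrArg (fun g => rf f g j) (Subsingleton.elim _ _))) this
      · obtain rfl : j = j₀ := Fin.ext hj
        refine Eq.trans (Finset.sum_congr rfl fun l _ => ?_) (hrel p)
        rw [smul_comm]
        refine congrArg (_ • ·) ?_
        rw [map_val_smul]
        refine congrArg (· • _) ?_
        simp only [a, map_pow]
        refine congrArg (· ^ m) ?_
        exact ((rf_res f (homOfLE hW₁V) (homOfLE hW') j₀).trans (congrArg (fun g => rf f g j₀) (Subsingleton.elim _ _))).symm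

/-- A killed section of an inverse image is, near every point, a combination of killed sections. -/
theorem exists_repr_killed (N : ModSite.Mod X.sheaf) {U : ((FSch.completionAlong X 𝓘).X 0).Opens}
    (φ : U ⟶ preU X 𝓘 V) {i m : ℕ} (hi : i ≤ r) (z : sect ((kap hX).pull.obj N) U)
    (hz : Killed (cf hX f) i m φ z) {x : (FSch.completionAlong X 𝓘).X 0} (hx : x ∈ U) :
    ∃ (W : X.Opens) (hWV : W ≤ V) (hWU : preU X 𝓘 W ≤ U), FSch.completionToX X 𝓘 0 x ∈ W ∧
      ∃ (n : ℕ) (c : Fin n → Rg hX (preU X 𝓘 W)) (v : Fin n → sect N W),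
        rs ((kap hX).pull.obj N) (homOfLE hWU) z = ∑ l, c l • eta hX N W (v l) ∧
        ∀ l, Killed f i m (homOfLE hWV) (v l) := by
  obtain ⟨W₀, hW₀U, hxW₀, hW₀V, n, c, v, he⟩ := exists_repr hX N z hx (φ.le hx)
  have hk : Killed (cf hX f) i m (preMap hW₀V) (∑ l, c l • eta hX N W₀.1 (v l)) := by
    rw [← he, Subsingleton.elim (preMap hW₀V) (homOfLE hW₀U ≫ φ)]
    exact hz.res _
  obtain ⟨W, hW, k, d, v', hxW, he', hv'⟩ := exists_killed_repr hX f i m hi hW₀V hxW₀ c v hk
  refine ⟨W, hW.trans hW₀V, fun y hy => hW₀U (hW hy), hxW, k, d, v', ?_, hv'⟩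
  rw [← he', ← he, ← map_val_comp]
  exact rs_eq _ _ _ _

/-- Inverse images of injectives are locally divisible. -/
theorem isDiv_pull {f : Fin r → X.sheaf.obj.obj (op V)} (hf : LocGens (FTors.powIdealFam X 𝓘) f)
    (E : ModSite.Mod X.sheaf) [Injective E] :
    IsDiv ((kap hX).pull.obj E) (cf hX f) := by
  intro i m n U φ z hz
  refine ⟨{ arrows := fun U' g => ∃ (t : sect ((kap hX).pull.obj E) U') (k m' : ℕ),
              Killed (cf hX f) i m' (g ≫ φ) t ∧
              rf (cf hX f) (g ≫ φ) i ^ (n + k) • t =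
                rf (cf hX f) (g ≫ φ) i ^ k • rs ((kap hX).pull.obj E) g z
            downward_closed := fun {U' U''} g ⟨t, k, m', ht, ht'⟩ h => ⟨rs _ h t, k, m', by
              rw [Category.assoc]; exact ht.res h, by
              have := congrArg (rs ((kap hX).pull.obj E) h) ht'
              rw [map_val_smul h, map_val_smul h, map_pow, map_pow, rf_res, ← map_val_comp, ← Category.assoc] at this
              exact this⟩ }, fun x hx => ?_, fun U' g hg => hg⟩
  obtain ⟨W, hWV, hWU, hxW, p, c, v, he, hv⟩ := exists_repr_killed hX f E φ (le_of_lt i.2) z hz hx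
  choose t k ht ht' using fun l => exists_div hf E i m n (homOfLE hWV) (v l) (hv l)
  refine ⟨preU X 𝓘 W, homOfLE hWU, ⟨∑ l, c l • eta hX E W (t l), Finset.univ.sup k, m, fun j hj => ?_, ?_⟩, hxW⟩
  · rw [Finset.smul_sum]
    refine Finset.sum_eq_zero fun l _ => ?_
    rw [smul_comm, ← cs_rf hX f (homOfLE hWV) (homOfLE hWU ≫ φ) j]
    exact smul_eq_zero_of_right _ ((congrArg (· • _) (map_pow (cs hX W) _ m).symm).trans
      ((eta_smul hX E W _ (t l)).symm.trans ((congrArg (eta hX E W) (ht l j hj)).trans (eta_zero hX W))))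
  · rw [he, Finset.smul_sum, Finset.smul_sum]
    refine Finset.sum_congr rfl fun l _ => ?_
    rw [smul_comm, smul_comm _ (c l)]
    refine congrArg (c l • ·) ?_
    have hkl : k l ≤ Finset.univ.sup k := Finset.le_sup (Finset.mem_univ l)
    obtain ⟨e, he'⟩ := exists_add_of_le hkl
    have h1 := congrArg (fun u => cs hX W (rf f (homOfLE hWV) i) ^ e • eta hX E W u) (ht' l)
    rw [eta_pow_smul, eta_pow_smul, smul_smul, smul_smul, ← pow_add, ← pow_add,
      cs_rf hX f (homOfLE hWV) (homOfLE hWU ≫ φ) i] at h1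
    rw [he', show n + (k l + e) = e + (n + k l) by omega, add_comm (k l) e]
    exact h1

end Groth.Agent.FTorsLib.Compl
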