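import Groth.Agent.FTorsLib.GammaPull
import Groth.Agent.KFlat.Homological
import Mathlib.Algebra.Homology.HomotopyCategory.MappingCone

/-!
# The derived torsion functors commute with the inverse image to the completion
-/

set_option autoImplicit false
set_option backward.isDefEq.respectTransparency.types false

universe u

open CategoryTheory CategoryTheory.Limits Opposite TopologicalSpace AlgebraicGeometry ModSite DerivedCategory

attribute [local instance] HasDerivedCategory.standard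

namespace Groth.Agent.FTorsLib

open Groth.Agent.PullFlat
open Groth.Agent.ModFlat (rs map_val_smul map_val_comp)

section

variable {C : Type u} [SmallCategory C] {J : GrothendieckTopology C} {O : Sheaf J CommRingCat.{u}}
  {I : FTors.IdealFam O}

/-- Local divisibility passes to a sum. -/
theorem isDiv_of_split {V : C} {r : ℕ} {f : Fin r → O.obj.obj (op V)} {M A B : Mod O} (p₁ : M ⟶ A) (p₂ : M ⟶ B)
    (i₁ : A ⟶ M) (i₂ : B ⟶ M) (h : p₁ ≫ i₁ + p₂ ≫ i₂ = 𝟙 M) (hA : IsDiv A f) (hB : IsDiv B f) :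
    IsDiv M f := by
  intro i m n W φ v hv
  obtain ⟨S, hS, hS'⟩ := hA i m n φ _ (hv.hom p₁)
  refine exists_cover_bind (fun W' g => ∃ (t : sect M W') (k m' : ℕ),
      Killed f i m' (g ≫ φ) t ∧ rf f (g ≫ φ) i ^ (n + k) • t = rf f (g ≫ φ) i ^ k • rs M g v) hS fun W₁ g₁ hg₁ => ?_
  obtain ⟨t₁, k₁, m₁, ht₁, ht₁'⟩ := hS' g₁ hg₁
  obtain ⟨T, hT, hT'⟩ := hB i m n (g₁ ≫ φ) _ ((hv.res g₁).hom p₂)
  refine ⟨T, hT, fun W₂ g₂ hg₂ => ?_⟩
  obtain ⟨t₂, k₂, m₂, ht₂, ht₂'⟩ := hT' g₂ hg₂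
  refine ⟨appS i₁ W₂ (rs A g₂ t₁) + appS i₂ W₂ t₂, k₁ + k₂, max m₁ m₂, fun j hj => ?_, ?_⟩
  · rw [Category.assoc, smul_add, ((ht₁.res g₂).hom i₁).mono (le_max_left _ _) j hj,
      (ht₂.hom i₂).mono (le_max_right _ _) j hj, add_zero]
  · rw [Category.assoc]
    have e1 := congrArg (rs A g₂) ht₁'
    rw [map_val_smul g₂, map_val_smul g₂, map_pow, map_pow, rf_res, ← map_val_comp] at e1
    have hw : rs M (g₂ ≫ g₁) v = appS i₁ W₂ (rs A (g₂ ≫ g₁) (appS p₁ W v)) +
        appS i₂ W₂ (rs B g₂ (appS p₂ W₁ (rs M g₁ v))) := by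
      rw [← appS_res, ← appS_res, ← map_val_comp, ← appS_comp, ← appS_comp]
      exact (congrArg (fun χ => appS χ W₂ (rs M (g₂ ≫ g₁) v)) h.symm)
    rw [hw, smul_add, smul_add]
    refine congrArg₂ (· + ·)
      ((map_smul (appS i₁ W₂) _ _).symm.trans ((congrArg (appS i₁ W₂) ?_).trans (map_smul (appS i₁ W₂) _ _)))
      ((map_smul (appS i₂ W₂) _ _).symm.trans ((congrArg (appS i₂ W₂) ?_).trans (map_smul (appS i₂ W₂) _ _)))
    · rw [show n + (k₁ + k₂) = k₂ + (n + k₁) by omega, pow_add _ k₂ (n + k₁), add_comm k₁ k₂, pow_add _ k₂ k₁,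
        mul_smul, mul_smul, e1]
    · rw [show n + (k₁ + k₂) = k₁ + (n + k₂) by omega, pow_add _ k₁ (n + k₂), pow_add _ k₁ k₂, mul_smul, mul_smul,
        ht₂']

/-- The torsion functor preserves quasi-isomorphisms between complexes with locally divisible terms. -/
theorem quasiIso_gamma_map {K L : CochainComplex (Mod O) ℤ} (g : K ⟶ L) [QuasiIso g] (hI : HasLocGens I)
    (hdiv : ∀ U : C, ∃ S ∈ J U, ∀ ⦃V : C⦄ (g : V ⟶ U), S g →
      ∃ (r : ℕ) (f : Fin r → O.obj.obj (op V)), LocGens I f ∧ (∀ d, IsDiv (K.X d) f) ∧ ∀ d, IsDiv (L.X d) f) :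
    QuasiIso (((FTors.gamma O I).mapHomologicalComplex (ComplexShape.up ℤ)).map g) := by
  haveI := isSerreClass_isTors hI
  have hac := Groth.Agent.KFlat.acyclic_mappingCone_of_quasiIso g
  haveI hq := quasiIso_gammaι_of_isDiv (CochainComplex.mappingCone g)
    (fun d => (FTors.IsTors I).prop_of_iso (((hac d).isZero_homology).iso (isZero_zero _)).symm
      (isTors_zero I)) (fun U => by
      obtain ⟨S, hS, hS'⟩ := hdiv U
      refine ⟨S, hS, fun V g' hg' => ?_⟩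
      obtain ⟨r, f, hf, hK, hL⟩ := hS' g' hg'
      exact ⟨r, f, hf, fun d => isDiv_of_split _ _ _ _ (CochainComplex.mappingCone.id_X g d (d + 1) rfl)
        (hK _) (hL _)⟩)
  have hac' : (((FTors.gamma O I).mapHomologicalComplex (ComplexShape.up ℤ)).obj
      (CochainComplex.mappingCone g)).Acyclic :=
    Groth.Agent.KFlat.acyclic_of_quasiIso_right
      ((NatTrans.mapHomologicalComplex (FTors.gammaι I) (ComplexShape.up ℤ)).app (CochainComplex.mappingCone g) ≫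
        (Functor.mapHomologicalComplexIdIso (Mod O) (ComplexShape.up ℤ)).hom.app _) hac
  refine Groth.Agent.KFlat.quasiIso_of_acyclic_mappingCone _ fun d => ?_
  exact (hac' d).of_iso (CochainComplex.mappingCone.mapHomologicalComplexIso g (FTors.gamma O I))

end

theorem comp_chase {D D' : Type*} [Category D] [Category D'] (P : D ⥤ D') {F QK RF RK QG : D} (eF : F ≅ QK)
    (R : RF ≅ RK) (eK : QG ≅ RK) (εF : RF ⟶ F) (εK : RK ⟶ QK) (incK : QG ⟶ QK) (heK : eK.hom ≫ εK = incK)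
    (hnat : R.hom ≫ εK = εF ≫ eF.hom) {PG PK GJ QJ RJ RA : D'} (ηG : P.obj QG ≅ PG) (ηK : P.obj QK ≅ PK)
    (incP : PG ⟶ PK) (hη : ηG.hom ≫ incP = P.map incK ≫ ηK.hom) (b : PG ≅ GJ) (g : PK ≅ QJ) (incJ : GJ ⟶ QJ)
    (hb : b.hom ≫ incJ = incP ≫ g.hom) (eJ : GJ ≅ RJ) (εJ : RJ ⟶ QJ) (heJ : eJ.hom ≫ εJ = incJ) (R' : RJ ≅ RA)
    (εA : RA ⟶ P.obj F) (hnat' : R'.hom ≫ εA = εJ ≫ (P.mapIso eF ≪≫ ηK ≪≫ g).inv) :
    (P.mapIso (R ≪≫ eK.symm) ≪≫ ηG ≪≫ b ≪≫ eJ ≪≫ R').hom ≫ εA = P.map εF := by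
  simp only [Iso.trans_hom, Functor.mapIso_hom, Iso.symm_hom, Category.assoc]
  rw [hnat', reassoc_of% heJ, reassoc_of% hb, reassoc_of% hη, ← heK]
  simp only [Iso.trans_inv, Functor.mapIso_inv, Category.assoc, Iso.hom_inv_id_assoc, ← P.map_comp]
  rw [Iso.inv_hom_id_assoc, reassoc_of% hnat, Iso.hom_inv_id, Category.comp_id]

namespace Compl

open Groth.Agent.PullFlatStalk (complSharp preU)
open Groth.Agent.DRing.PointHom (derAdj)

variable {X : Scheme.{u}} {𝓘 : X.IdealSheafData} (hX : (FSch.completionAlong X 𝓘).IsFormal) [IsLocallyNoetherian X]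
  [PreservesFiniteLimits (kap hX).pull] [FTors.HasRgammaT (FSch.completionAlong X 𝓘) hX] [FTors.HasRgammaZp X 𝓘]

omit [FTors.HasRgammaT (FSch.completionAlong X 𝓘) hX] [FTors.HasRgammaZp X 𝓘] in
/-- Affine traces with generators on which both kinds of terms are divisible. -/
theorem exists_div_cover {K : CochainComplex (ModSite.Mod X.sheaf) ℤ} (hK : ∀ d, Injective (K.X d))
    {J : CochainComplex (FSch.ModF (FSch.completionAlong X 𝓘) hX) ℤ} (hJ : ∀ d, Injective (J.X d))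
    (U : ((FSch.completionAlong X 𝓘).X 0).Opens) :
    ∃ S ∈ Opens.grothendieckTopology _ U, ∀ ⦃V⦄ (g : V ⟶ U), S g →
      ∃ (r : ℕ) (f : Fin r → ((FSch.completionAlong X 𝓘).Osh hX).obj.obj (op V)),
        LocGens (FTors.openIdealFam (FSch.completionAlong X 𝓘) hX) f ∧
        (∀ d, IsDiv ((kap hX).pull.obj (K.X d)) f) ∧ ∀ d, IsDiv (J.X d) f := by
  refine ⟨⟨fun V _ => ∃ W : X.affineOpens, V ≤ preU X 𝓘 W.1, fun {A B} g ⟨W, hW⟩ h => ⟨W, h.le.trans hW⟩⟩,
    fun x hx => ?_, fun V g ⟨W, hW⟩ => ?_⟩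
  · obtain ⟨W, hxW, -, hWU⟩ := exists_affine_nhd hx (U := ⊤) trivial
    exact ⟨preU X 𝓘 W.1, homOfLE hWU, ⟨W, le_rfl⟩, hxW⟩
  · obtain ⟨r, f, hf₀, hf₁⟩ := exists_gens (𝓘 := 𝓘) hX W
    let f' : Fin r → ((FSch.completionAlong X 𝓘).Osh hX).obj.obj (op V) :=
      fun j => ((FSch.completionAlong X 𝓘).Osh hX).obj.map (homOfLE hW).op (cs hX W.1 (f j))
    refine ⟨r, f', hf₁.restrict _, fun d => ?_, fun d => ?_⟩
    · haveI := hK d
      intro i m n U' φ v hv
      have h := isDiv_pull hX hf₀ (K.X d) i m n (φ ≫ homOfLE hW) v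
      have e : ∀ {U'' : ((FSch.completionAlong X 𝓘).X 0).Opens} (ψ : U'' ⟶ V) (j : Fin r),
          rf f' ψ j = rf (cf hX f) (ψ ≫ homOfLE hW) j := fun ψ j => rf_res (cf hX f) (homOfLE hW) ψ j
      simp only [Killed, e, Category.assoc] at h hv ⊢
      exact h hv
    · haveI := hJ d
      exact isDiv_of_injective (hf₁.restrict _) _

/-- The derived torsion functors commute with the inverse image to the completion. -/
theorem existsUnique_iso_pullD_rgamma (F : DerivedCategory (ModSite.Mod X.sheaf)) :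
    ∃! e : (SiteCmp.pullD (kap hX)).obj ((FTors.RgammaZp X 𝓘).obj F) ≅
        (FTors.RgammaT (FSch.completionAlong X 𝓘) hX).obj ((SiteCmp.pullD (kap hX)).obj F),
      e.hom ≫ (FTors.RgammaTε (FSch.completionAlong X 𝓘) hX).app ((SiteCmp.pullD (kap hX)).obj F) =
        (SiteCmp.pullD (kap hX)).map ((FTors.RgammaZpε X 𝓘).app F) := by
  have hI := hasLocGens_open (Adic.ComplAlong.isLocNoethFormal (X := X) 𝓘)
  let L := (kap hX).pull
  let I₁ := FTors.openIdealFam (FSch.completionAlong X 𝓘) hX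
  obtain ⟨K, f, hK, hf, -, hKi⟩ := DHA.KInj.exists_resolution (ModSite.Mod X.sheaf) (Q.objPreimage F)
  haveI : IsIso (Q.map f) := (isIso_Q_map_iff_quasiIso _ _).2 hf
  let eF : F ≅ Q.obj K := (Q.objObjPreimageIso F).symm ≪≫ asIso (Q.map f)
  obtain ⟨eK, heK⟩ := exists_rgamma_iso (FTors.powIdealFam X 𝓘) K
  let A := (L.mapHomologicalComplex (ComplexShape.up ℤ)).obj K
  obtain ⟨J, g, hJ, hg, -, hJi⟩ := DHA.KInj.exists_resolution (FSch.ModF (FSch.completionAlong X 𝓘) hX) A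
  haveI := hg
  haveI : IsIso (Q.map g) := (isIso_Q_map_iff_quasiIso _ _).2 hg
  obtain ⟨eJ, heJ⟩ := exists_rgamma_iso I₁ J
  haveI := quasiIso_gamma_map g hI (exists_div_cover hX hKi hJi)
  let β : (L.mapHomologicalComplex (ComplexShape.up ℤ)).obj (gammaCx (FTors.powIdealFam X 𝓘) K) ≅ gammaCx I₁ A :=
    HomologicalComplex.Hom.isoOfComponents
      (fun n => @asIso _ _ _ _ (gammaCmpApp hX (K.X n)) (isIso_gammaCmp hX (K.X n)))
      fun i j _ => ((gammaCmp hX).naturality (K.d i j)).symm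
  haveI : IsIso (Q.map (((FTors.gamma _ I₁).mapHomologicalComplex (ComplexShape.up ℤ)).map g)) :=
    (isIso_Q_map_iff_quasiIso _ _).2 inferInstance
  let η := L.mapDerivedCategoryFactors
  let eA : (SiteCmp.pullD (kap hX)).obj F ≅ Q.obj J :=
    (SiteCmp.pullD (kap hX)).mapIso eF ≪≫ η.app K ≪≫ asIso (Q.map g)
  let bJ := Q.mapIso β ≪≫ asIso (Q.map (((FTors.gamma _ I₁).mapHomologicalComplex (ComplexShape.up ℤ)).map g))
  let c := (SiteCmp.pullD (kap hX)).mapIso ((FTors.RgammaZp X 𝓘).mapIso eF ≪≫ eK.symm) ≪≫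
    η.app (gammaCx (FTors.powIdealFam X 𝓘) K) ≪≫ bJ ≪≫
    eJ ≪≫ (FTors.RgammaT (FSch.completionAlong X 𝓘) hX).mapIso eA.symm
  have hb : β.hom ≫ ((FTors.gamma _ I₁).mapHomologicalComplex (ComplexShape.up ℤ)).map g ≫ gammaInc I₁ J =
      (L.mapHomologicalComplex (ComplexShape.up ℤ)).map (gammaInc (FTors.powIdealFam X 𝓘) K) ≫ g := by
    refine HomologicalComplex.hom_ext _ _ fun n => ?_
    simp [β, gammaInc, A, L]
    refine (congrArg (gammaCmpApp hX (K.X n) ≫ ·) ((FTors.gammaι I₁).naturality (g.f n))).trans ?_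
    refine ((Category.assoc _ _ _).symm.trans (congrArg (· ≫ g.f n) (gammaCmpApp_ι hX (K.X n)))).trans ?_
    exact congrArg ((kap hX).pull.map _ ≫ ·)
      ((congrArg (· ≫ g.f n) ((kap hX).pull.map_id _)).trans (Category.id_comp _)).symm
  have hc : c.hom ≫ (FTors.RgammaTε (FSch.completionAlong X 𝓘) hX).app ((SiteCmp.pullD (kap hX)).obj F) =
      (SiteCmp.pullD (kap hX)).map ((FTors.RgammaZpε X 𝓘).app F) := by
    refine comp_chase (SiteCmp.pullD (kap hX)) eF _ eK _ _ _ heK ((FTors.RgammaZpε X 𝓘).naturality eF.hom)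
      _ (η.app K) (Q.map ((L.mapHomologicalComplex _).map (gammaInc (FTors.powIdealFam X 𝓘) K)))
      (η.hom.naturality (gammaInc (FTors.powIdealFam X 𝓘) K)).symm bJ (asIso (Q.map g)) _ ?_ eJ _ heJ _ _
      ((FTors.RgammaTε (FSch.completionAlong X 𝓘) hX).naturality eA.inv)
    exact (Category.assoc _ _ _).trans ((congrArg (Q.map β.hom ≫ ·) (Q.map_comp _ _).symm).trans
      ((Q.map_comp _ _).symm.trans ((congrArg Q.map hb).trans (Q.map_comp _ _))))
  refine ⟨c, hc, fun e he => Iso.ext ((bijective_comp_rgamma hI _ _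
    (isDTorsF_pullD hX (isDTors_rgamma hasLocGens_pow F))).1 (he.trans hc.symm))⟩

/-- Maps out of an object with torsion cohomology are unchanged by the inverse image. -/
theorem pullD_map_bijective_left (E F : DerivedCategory (ModSite.Mod X.sheaf)) (hE : FTors.IsDTorsZp X 𝓘 E) :
    Function.Bijective (fun φ : E ⟶ F => (SiteCmp.pullD (kap hX)).map φ) := by
  obtain ⟨e, he, -⟩ := existsUnique_iso_pullD_rgamma hX F
  have h₁ := bijective_comp_rgamma hasLocGens_pow E F hE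
  have h₂ := pullD_map_bijective_right hX E ((FTors.RgammaZp X 𝓘).obj F) (isDTors_rgamma hasLocGens_pow F)
  have h₃ := bijective_comp_rgamma (hasLocGens_open (Adic.ComplAlong.isLocNoethFormal (X := X) 𝓘))
    ((SiteCmp.pullD (kap hX)).obj E) ((SiteCmp.pullD (kap hX)).obj F) (isDTorsF_pullD hX hE)
  refine (Function.Bijective.of_comp_iff _ h₁).1 ?_
  have key : (fun φ : E ⟶ F => (SiteCmp.pullD (kap hX)).map φ) ∘
      (fun φ : E ⟶ (FTors.RgammaZp X 𝓘).obj F => φ ≫ (FTors.RgammaZpε X 𝓘).app F) =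
      (fun ψ => ψ ≫ (FTors.RgammaTε (FSch.completionAlong X 𝓘) hX).app ((SiteCmp.pullD (kap hX)).obj F)) ∘
        (Iso.homToEquiv e ∘ fun φ : E ⟶ (FTors.RgammaZp X 𝓘).obj F => (SiteCmp.pullD (kap hX)).map φ) := by
    funext φ
    simp only [Function.comp_apply, Iso.homToEquiv_apply, Category.assoc]
    rw [he, Functor.map_comp]
  rw [key]
  exact h₃.comp (e.homToEquiv.bijective.comp h₂)

end Compl

end Groth.Agent.FTorsLib
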