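import Groth.Agent.FTorsLib.ComplFF
import Groth.Agent.FTorsLib.FreeCompactSect
import Groth.Agent.LocPres.Conv

/-!
# Direct images of quasi-coherent torsion modules from the completion
-/

set_option autoImplicit false
set_option backward.isDefEq.respectTransparency.types false

universe u

open CategoryTheory CategoryTheory.Limits Opposite TopologicalSpace AlgebraicGeometry ModSite

namespace Groth.Agent.FTorsLib.Compl

open Groth.Agent.PullFlatStalk (complSharp preU)
open Groth.Agent.FFormal (Rg pr)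
open Groth.Agent.ModFlat (rs map_val_smul map_val_comp map_ring_comp)
open Groth.Agent.PullFlat
open Groth.Agent.LocPres

variable {X : Scheme.{u}} {𝓘 : X.IdealSheafData} (hX : (FSch.completionAlong X 𝓘).IsFormal)
  [IsLocallyNoetherian X] {M : FSch.ModF (FSch.completionAlong X 𝓘) hX}

omit [IsLocallyNoetherian X] in
theorem ker_antitone {m n : ℕ} (h : m ≤ n) (U : ((FSch.completionAlong X 𝓘).X 0).Opens) {a : Rg hX U}
    (ha : a ∈ RingHom.ker (pr hX n U)) : a ∈ RingHom.ker (pr hX m U) :=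
  (FTors.openIdealFam (FSch.completionAlong X 𝓘) hX).ideal_le_of_le U h ha

omit [IsLocallyNoetherian X] in
theorem ker_res {n : ℕ} {U U' : ((FSch.completionAlong X 𝓘).X 0).Opens} (g : U' ⟶ U) {a : Rg hX U}
    (ha : a ∈ RingHom.ker (pr hX n U)) : rsC hX g a ∈ RingHom.ker (pr hX n U') :=
  (FTors.openIdealFam (FSch.completionAlong X 𝓘) hX).map_mem n g ha

omit [IsLocallyNoetherian X] in
/-- On a compact open a torsion section is killed by one open ideal. -/
theorem exists_killedBy_of_compact (hM : FTors.IsTorsF (FSch.completionAlong X 𝓘) hX M)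
    {U : ((FSch.completionAlong X 𝓘).X 0).Opens} (hU : IsCompact (U : Set ((FSch.completionAlong X 𝓘).X 0)))
    (s : sect M U) : ∃ n, FTors.KilledBy (FTors.openIdealFam (FSch.completionAlong X 𝓘) hX) M n s := by
  classical
  choose V g hg hx using fun x : (U : Set ((FSch.completionAlong X 𝓘).X 0)) => hM U s x.1 x.2
  choose n hn using hg
  obtain ⟨t, ht⟩ := hU.elim_finite_subcover (fun x : (U : Set ((FSch.completionAlong X 𝓘).X 0)) => (V x : Set ((FSch.completionAlong X 𝓘).X 0))) (fun x => (V x).2)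
    (fun y hy => Set.mem_iUnion.2 ⟨⟨y, hy⟩, hx _⟩)
  refine ⟨t.sup n, fun U' φ a ha => eq_zero_of_locally M (S :=
    ⟨fun P _ => ∃ x ∈ t, P ≤ V x, fun {P Q} g' ⟨x, hxt, hP⟩ h => ⟨x, hxt, h.le.trans hP⟩⟩) ?_ _
      fun P gP ⟨x, hxt, hP⟩ => ?_⟩
  · intro p hp
    obtain ⟨x, hxt, hpx⟩ := Set.mem_iUnion₂.1 (ht (φ.le hp))
    exact ⟨U' ⊓ V x, homOfLE inf_le_left, ⟨x, hxt, inf_le_right⟩, hp, hpx⟩
  · refine ((map_val_smul (F := M) gP a (rs M φ s))).trans ?_
    refine Eq.trans (congrArg (_ • ·) ?_)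
      ((hn x).mono (Finset.le_sup hxt) (homOfLE hP) _ ((FTors.openIdealFam _ hX).map_mem _ gP ha))
    exact (map_val_comp gP φ s).symm.trans ((rs_eq M _ _ s).trans (map_val_comp (homOfLE hP) (g x) s))

omit [IsLocallyNoetherian X] in
theorem isCompact_preU (W : X.affineOpens) :
    IsCompact (preU X 𝓘 W.1 : Set ((FSch.completionAlong X 𝓘).X 0)) :=
  (isAffineOpen_preU W).isCompact

omit [IsLocallyNoetherian X] in
theorem sum_single_apply_eq {ι R : Type*} [DecidableEq ι] [AddCommMonoid R] (s : Finset ι) (b : ι → R) (i : ι) :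
    ((∑ j ∈ s, Finsupp.single j (b j) : ι →₀ R) i) = if i ∈ s then b i else 0 := by
  rw [Finsupp.finsetSum_apply]
  simp only [Finsupp.single_apply]
  split_ifs with hi
  · rw [Finset.sum_eq_single i (fun j _ hne => if_neg hne) (fun h => absurd hi h), if_pos rfl]
  · exact Finset.sum_eq_zero fun j hj => if_neg fun h : j = i => hi (h ▸ hj)

omit [IsLocallyNoetherian X] in
/-- Combinations on the scheme and on the completion. -/
theorem combS_push {W : X.Opens} {I : Type u} (s : I → sect ((kap hX).push.obj M) W) {T : X.Opens} (a : T ⟶ W)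
    (c : I →₀ X.sheaf.obj.obj (op T)) :
    @Eq (sect M (preU X 𝓘 T)) (combS s a c)
      (combS (F := M) (X := preU X 𝓘 W) s (preMap a.le) (c.mapRange (cs hX T) (map_zero _))) := by
  induction c using Finsupp.induction_linear with
  | zero =>
    exact (map_zero (combS s a)).trans
      ((map_zero (combS (F := M) (X := preU X 𝓘 W) s (preMap a.le))).symm.trans (congrArg _ Finsupp.mapRange_zero.symm))
  | add c c' hc hc' =>
    exact (map_add (combS s a) c c').trans ((congrArg₂ (fun p q : sect M (preU X 𝓘 T) => p + q) hc hc').trans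
      ((map_add (combS (F := M) (X := preU X 𝓘 W) s (preMap a.le)) _ _).symm.trans
        (congrArg _ (Finsupp.mapRange_add (fun x y => map_add (cs hX T) x y) c c').symm)))
  | single i r =>
    refine (combS_single s a i r).trans ((push_smul hX M r _).trans ?_)
    refine Eq.trans ?_ ((combS_single (F := M) (X := preU X 𝓘 W) s (preMap a.le) i (cs hX T r)).symm.trans
      (congrArg _ Finsupp.mapRange_single.symm))
    refine congrArg (fun t : sect M (preU X 𝓘 T) => cs hX T r • t) ?_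
    rw [Subsingleton.elim a (homOfLE a.le)]
    exact push_rs hX M a.le (s i)

/-- Approximation of combinations. -/
theorem exists_push_gen {W : X.affineOpens} {I : Type u} {s : I → sect M (preU X 𝓘 W.1)} (hs : IsGen s)
    (hM : FTors.IsTorsF (FSch.completionAlong X 𝓘) hX M) :
    IsGen (F := (kap hX).push.obj M) (fun i => (show sect ((kap hX).push.obj M) W.1 from s i)) := by
  classical
  intro T a z
  refine ⟨⟨fun P g => ∃ c : I →₀ X.sheaf.obj.obj (op P),
      combS (F := (kap hX).push.obj M) (fun i => (show sect ((kap hX).push.obj M) W.1 from s i)) (g ≫ a) c = rs _ g z,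
    fun {P Q} g ⟨c, hc⟩ h => ⟨c.mapRange (X.sheaf.obj.map h.op).hom (map_zero _), by
      rw [Category.assoc, ← combS_res, hc, ← map_val_comp]⟩⟩, fun y hy => ?_, fun P g hg => hg⟩
  by_cases hyZ : y ∈ Set.range (FSch.completionToX X 𝓘 0)
  · obtain ⟨x, rfl⟩ := hyZ
    obtain ⟨S, hS, hS'⟩ := hs (preMap a.le) (show sect M (preU X 𝓘 T) from z)
    obtain ⟨V, g, hg, hxV⟩ := hS x hy
    obtain ⟨c, hc⟩ := hS' g hg
    choose n hn using fun i => exists_killedBy_of_compact hX hM (isCompact_preU W) (s i)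
    obtain ⟨W', hxW', hW'T, hW'V⟩ := exists_affine_nhd hxV (U := T) hy
    choose b hb using fun i => exists_approx hX (n i) W' (rsC hX (homOfLE hW'V) (c i))
    let c' : I →₀ X.sheaf.obj.obj (op W'.1) := ∑ i ∈ c.support, Finsupp.single i (b i)
    refine ⟨W'.1, homOfLE hW'T, ⟨c', ?_⟩, hxW'⟩
    refine (combS_push hX _ (homOfLE hW'T ≫ a) c').trans (Eq.trans ?_ (push_rs hX M hW'T z).symm)
    have h2 := congrArg (rs M (homOfLE hW'V)) hc
    rw [combS_res, ← map_val_comp, rs_eq M (homOfLE hW'V ≫ g) (preMap hW'T)] at h2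
    rw [← h2, Subsingleton.elim (homOfLE hW'V ≫ g ≫ preMap a.le) (preMap (homOfLE hW'T ≫ a).le)]
    rw [← sub_eq_zero, ← map_sub, combS, Finsupp.linearCombination_apply]
    refine Finset.sum_eq_zero fun i _ => ?_
    have hkey : cs hX W'.1 (c' i) - rsC hX (homOfLE hW'V) (c i) ∈ RingHom.ker (pr hX (n i) (preU X 𝓘 W'.1)) := by
      rw [show c' i = _ from sum_single_apply_eq _ b i]
      split_ifs with hi
      · rw [← neg_sub]; exact neg_mem (hb i)
      · have e0 : cs hX W'.1 (0 : Γ(X, W'.1)) = 0 := map_zero _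
        have e1 : rsC hX (homOfLE hW'V) (c i) = 0 := by rw [Finsupp.notMem_support_iff.1 hi]; exact map_zero _
        exact (congrArg₂ (· - ·) e0 e1).trans (sub_zero _) ▸ zero_mem _
    rw [Finsupp.sub_apply, Finsupp.mapRange_apply, Finsupp.mapRange_apply]
    exact hn i _ _ hkey
  · obtain ⟨W', hyW', hW'T, hbot, -⟩ := exists_affine_away hyZ hy
    exact ⟨W'.1, homOfLE hW'T, ⟨0, subsingleton_bot hX M hbot _ _⟩, hyW'⟩

/-- A coefficient congruent to combinations of relations lies in the power of the ideal. -/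
theorem mem_ideal_of_relation {W W' : X.affineOpens} (h : W'.1 ≤ W.1) (n : ℕ) (b : Γ(X, W'.1)) {κ : Type*}
    (D : Finset κ) (d : κ → Rg hX (preU X 𝓘 W'.1)) (e : κ → Γ(X, W'.1)) (c : κ → Rg hX (preU X 𝓘 W.1))
    (l : κ → Γ(X, W.1)) (hb : cs hX W'.1 b = ∑ k ∈ D, d k * rsC hX (preMap h) (c k))
    (he : ∀ k ∈ D, d k - cs hX W'.1 (e k) ∈ RingHom.ker (pr hX n (preU X 𝓘 W'.1)))
    (hl : ∀ k ∈ D, c k - cs hX W.1 (l k) ∈ RingHom.ker (pr hX n (preU X 𝓘 W.1))) :
    b - ∑ k ∈ D, e k * (X.presheaf.map (homOfLE h).op).hom (l k) ∈ 𝓘.ideal W' ^ (n + 1) := by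
  rw [← (lev_surjective_ker hX n W').2, RingHom.mem_ker, ← pr_cs, ← RingHom.mem_ker, map_sub, map_sum, hb,
    ← Finset.sum_sub_distrib]
  refine sum_mem fun k hk => ?_
  rw [map_mul, cs_res hX h]
  have e1 : d k * rsC hX (preMap h) (c k) - cs hX W'.1 (e k) * rsC hX (preMap h) (cs hX W.1 (l k)) =
      (d k - cs hX W'.1 (e k)) * rsC hX (preMap h) (c k) +
        cs hX W'.1 (e k) * rsC hX (preMap h) (c k - cs hX W.1 (l k)) := by
    rw [map_sub]; ring
  rw [show (((FSch.completionAlong X 𝓘).Osh hX).obj.map (preMap h).op).hom = rsC hX (preMap h) from rfl, e1]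
  exact add_mem (Ideal.mul_mem_right _ _ (he k hk)) (Ideal.mul_mem_left _ _ (ker_res hX _ (hl k hk)))

omit [IsLocallyNoetherian X] in
/-- Near a point of the closed subset the coefficients of a relation are combinations of those of the relations. -/
theorem exists_relation_coeffs {W : X.Opens} (P : GPres M (preU X 𝓘 W)) (c : P.K → P.I →₀ Rg hX (preU X 𝓘 W))
    (hc : ∀ k, combS P.t (𝟙 _) (c k) = P.z k) {T : X.Opens} (hTW : T ≤ W) (b : P.I →₀ Rg hX (preU X 𝓘 T))
    (hb : combS P.s (preMap hTW) b = 0) {x : (FSch.completionAlong X 𝓘).X 0}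
    (hx : FSch.completionToX X 𝓘 0 x ∈ T) :
    ∃ (W' : X.affineOpens) (hW'T : W'.1 ≤ T), FSch.completionToX X 𝓘 0 x ∈ W'.1 ∧
      ∃ (D : Finset P.K) (d : P.K → Rg hX (preU X 𝓘 W'.1)),
        ∀ i, rsC hX (preMap hW'T) (b i) = ∑ k ∈ D, d k * rsC hX (preMap (hW'T.trans hTW)) (c k i) := by
  classical
  obtain ⟨S, hS, hS'⟩ := P.gen (preMap hTW) b hb
  obtain ⟨V, g, hg, hxV⟩ := hS x hx
  obtain ⟨d, hd⟩ := hS' g hg
  let q : V ⟶ preU X 𝓘 W := g ≫ preMap hTW
  let C : P.I →₀ Rg hX V := ∑ k ∈ d.support, d k • (c k).mapRange (rsC hX q) (map_zero _)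
  have hC : combS P.t q C = combS P.t q (b.mapRange (rsC hX g) (map_zero _)) := by
    refine Eq.trans ?_ (hd.trans (combS_res P.t g (preMap hTW) b))
    refine (map_sum (combS P.t q) _ _).trans (Eq.trans ?_ (Finsupp.linearCombination_apply _ d).symm)
    refine Finset.sum_congr rfl fun k _ => ?_
    refine (map_smul (combS P.t q) (d k) _).trans (congrArg (d k • ·) ?_)
    have h := (combS_res P.t q (𝟙 _) (c k)).symm
    rw [Category.comp_id] at h
    exact h.trans (congrArg _ (hc k))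
  obtain ⟨R, hR, hR'⟩ := P.tindep q _ (show combS P.t q (C - b.mapRange (rsC hX g) (map_zero _)) = 0 by
    rw [map_sub, hC, sub_self])
  obtain ⟨V₂, g₂, hg₂, hxV₂⟩ := hR x hxV
  obtain ⟨W', hxW', hW'T, hW'V⟩ := exists_affine_nhd hxV₂ (U := T) hx
  let p : preU X 𝓘 W'.1 ⟶ V := homOfLE hW'V ≫ g₂
  refine ⟨W', hW'T, hxW', d.support, fun k => rsC hX p (d k), fun i => ?_⟩
  have hz := congrArg (rsC hX (homOfLE hW'V)) (hR' g₂ hg₂ i)
  have hcomp : ∀ {A B D : ((FSch.completionAlong X 𝓘).X 0).Opens} (a : A ⟶ B) (b : B ⟶ D) (c' : A ⟶ D)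
      (t : Rg hX D), rsC hX a (rsC hX b t) = rsC hX c' t := fun a b c' t => by
    rw [Subsingleton.elim c' (a ≫ b)]
    exact (map_ring_comp (O := (FSch.completionAlong X 𝓘).Osh hX) a b t).symm
  change rsC hX (homOfLE hW'V) (rsC hX g₂ _) = rsC hX (homOfLE hW'V) 0 at hz
  rw [hcomp (homOfLE hW'V) g₂ p, map_zero, Finsupp.sub_apply, map_sub, sub_eq_zero, Finsupp.mapRange_apply,
    hcomp p g (preMap hW'T)] at hz
  rw [← hz]
  simp only [C, Finsupp.finsetSum_apply, Finsupp.smul_apply, Finsupp.mapRange_apply, smul_eq_mul, map_sum, map_mul]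
  exact Finset.sum_congr rfl fun k _ => congrArg (rsC hX p (d k) * ·) (hcomp p q (preMap (hW'T.trans hTW)) (c k i))

omit [IsLocallyNoetherian X] in
/-- Vectors with coefficients in powers of the ideal lie in the span of the relations. -/
theorem combS_mem_of_ideal {W W' : X.affineOpens} {I : Type u} (n : I → ℕ) {G : ModSite.Mod X.sheaf}
    (t : I → sect G W.1) (p : W'.1 ⟶ W.1) (N : Submodule (X.sheaf.obj.obj (op W'.1)) (sect G W'.1))
    (hN : ∀ i, ∀ r ∈ 𝓘.ideal W ^ (n i + 1),
      (show X.sheaf.obj.obj (op W'.1) from (X.presheaf.map (homOfLE p.le).op).hom r) • rs G p (t i) ∈ N)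
    (B : I →₀ X.sheaf.obj.obj (op W'.1))
    (hB : ∀ i, (show Γ(X, W'.1) from B i) ∈ 𝓘.ideal W' ^ (n i + 1)) : combS t p B ∈ N := by
  rw [combS, Finsupp.linearCombination_apply]
  refine sum_mem fun i _ => ?_
  have hle : (𝓘.ideal W ^ (n i + 1)).map (X.presheaf.map (homOfLE p.le).op).hom ≤
      Submodule.comap (LinearMap.toSpanSingleton (X.sheaf.obj.obj (op W'.1)) _ (rs G p (t i))) N :=
    Ideal.map_le_iff_le_comap.2 fun r hr => hN i r hr
  refine hle ?_
  have he := hB i
  rw [← 𝓘.map_ideal (U := W') (V := W) p.le, ← Ideal.map_pow] at he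
  exact he

/-- The direct image of a presented torsion module is presented. -/
theorem nonempty_gPres_push (hM : FTors.IsTorsF (FSch.completionAlong X 𝓘) hX M) (W : X.affineOpens)
    (P : GPres M (preU X 𝓘 W.1)) : Nonempty (GPres ((kap hX).push.obj M) W.1) := by
  classical
  choose n hn using fun i => exists_killedBy_of_compact hX hM (isCompact_preU W) (P.s i)
  choose c hc using fun k => exists_finsupp_of_compact P.tgen P.tindep (isCompact_preU W) (P.z k)
  choose l hl using fun k i => exists_approx hX ((c k).support.sup n) W (c k i)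
  let t := freeT X.sheaf W.1 P.I
  let s : P.I → sect ((kap hX).push.obj M) W.1 := fun i => (show sect ((kap hX).push.obj M) W.1 from P.s i)
  let bl : P.K → (P.I →₀ X.sheaf.obj.obj (op W.1)) := fun k => ∑ i ∈ (c k).support, Finsupp.single i (l k i)
  let K' : Type u := P.K ⊕ (Σ i : P.I, {b : Γ(X, W.1) // b ∈ 𝓘.ideal W ^ (n i + 1)})
  let bv : K' → (P.I →₀ X.sheaf.obj.obj (op W.1)) :=
    Sum.elim bl fun p => Finsupp.single p.1 (show X.sheaf.obj.obj (op W.1) from p.2.1)
  let z : K' → sect (SheafOfModules.free (R := ringSh X.sheaf) P.I : ModSite.Mod X.sheaf) W.1 :=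
    fun k => combS t (𝟙 _) (bv k)
  have hbl : ∀ k i, i ∈ (c k).support → bl k i = l k i := fun k i hi =>
    (sum_single_apply_eq _ (l k) i).trans (if_pos hi)
  have hbl0 : ∀ k i, i ∉ (c k).support → bl k i = 0 := fun k i hi =>
    (sum_single_apply_eq _ (l k) i).trans (if_neg hi)
  have hdiff : ∀ k i, c k i - cs hX W.1 (bl k i) ∈ RingHom.ker (pr hX (n i) (preU X 𝓘 W.1)) := fun k i => by
    by_cases hi : i ∈ (c k).support
    · rw [hbl k i hi]
      exact ker_antitone hX (Finset.le_sup hi) _ (hl k i)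
    · have e0 : cs hX W.1 (bl k i) = 0 := by rw [hbl0 k i hi]; exact map_zero _
      rw [e0, Finsupp.notMem_support_iff.1 hi, sub_zero]
      exact zero_mem _
  have hsz : ∀ k, combS s (𝟙 _) (bv k) = 0 := by
    rintro (k | ⟨i, b, hb⟩)
    · refine (combS_push hX s (𝟙 _) (bl k)).trans ?_
      rw [show preMap (𝟙 W.1 : W.1 ⟶ W.1).le = 𝟙 (preU X 𝓘 W.1) from Subsingleton.elim _ _]
      refine Eq.trans ?_ (P.vanish (𝟙 _) (c k) k ((hc k).trans (rs_id _ _ _).symm))
      refine sub_eq_zero.1 ((map_sub (combS P.s (𝟙 (preU X 𝓘 W.1))) _ _).symm.trans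
        ((Finsupp.linearCombination_apply _ _).trans ?_))
      refine Finset.sum_eq_zero fun i _ => hn i _ _ ?_
      rw [Finsupp.sub_apply, Finsupp.mapRange_apply, ← neg_sub]
      exact neg_mem (hdiff k i)
    · refine (combS_single s (𝟙 _) i _).trans ((push_smul hX M _ _).trans ?_)
      refine Eq.trans (congrArg (_ • ·) ((rs_id _ _ _).trans (rs_id M _ (P.s i)).symm)) (hn i (𝟙 _) _ ?_)
      exact (ker_pr_preU hX (n i) W).ge (Ideal.mem_map_of_mem _ hb)
  have hresz : ∀ {V : X.Opens} (p : V ⟶ W.1) (k : K'),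
      rs _ p (z k) = combS t p ((bv k).mapRange (X.sheaf.obj.map p.op).hom (map_zero _)) := fun p k => by
    have h := combS_res t p (𝟙 _) (bv k)
    rw [Category.comp_id] at h
    exact h
  refine ⟨⟨_, P.I, K', t, s, z, isGen_freeT, isIndep_freeT, exists_push_gen hX P.sgen hM, ?_, ?_⟩⟩
  · intro T a b k hk
    rw [hresz a k] at hk
    rw [combS_eq_of_indep isIndep_freeT s a hk]
    have h := (combS_res s a (𝟙 _) (bv k)).symm
    rw [Category.comp_id, hsz, map_zero] at h
    exact h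
  · intro T a b hb
    refine ⟨⟨fun Q g => ∃ d : K' →₀ X.sheaf.obj.obj (op Q), combS z (g ≫ a) d = rs _ g (combS t a b),
      fun {Q R} g ⟨d, hd⟩ h => ⟨d.mapRange (X.sheaf.obj.map h.op).hom (map_zero _), by
        rw [Category.assoc, ← combS_res, hd, ← map_val_comp]⟩⟩, fun y hy => ?_, fun Q g hg => hg⟩
    suffices h : ∃ (W' : X.affineOpens) (hW'T : W'.1 ≤ T), y ∈ W'.1 ∧
        ∃ (B : P.I →₀ X.sheaf.obj.obj (op W'.1)) (D : Finset P.K) (e : P.K → X.sheaf.obj.obj (op W'.1)),
          (∀ i, (show Γ(X, W'.1) from B i) ∈ 𝓘.ideal W' ^ (n i + 1)) ∧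
            B + ∑ k ∈ D, e k • (bl k).mapRange (X.sheaf.obj.map (homOfLE hW'T ≫ a).op).hom (map_zero _) =
              b.mapRange (X.sheaf.obj.map (homOfLE hW'T).op).hom (map_zero _) by
      obtain ⟨W', hW'T, hyW', B, D, e, hB, hBe⟩ := h
      let p : W'.1 ⟶ W.1 := homOfLE hW'T ≫ a
      let N := Submodule.span (X.sheaf.obj.obj (op W'.1)) (Set.range fun k => rs _ p (z k))
      suffices hmem : rs _ (homOfLE hW'T) (combS t a b) ∈ N by
        obtain ⟨d', hd'⟩ := Finsupp.mem_span_range_iff_exists_finsupp.1 hmem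
        exact ⟨W'.1, homOfLE hW'T, ⟨d', (Finsupp.linearCombination_apply _ _).trans hd'⟩, hyW'⟩
      rw [combS_res, ← hBe, map_add, map_sum]
      refine add_mem (combS_mem_of_ideal n t p N (fun i r hr => ?_) B hB) (sum_mem fun k _ => ?_)
      · refine Submodule.subset_span ⟨Sum.inr ⟨i, r, hr⟩, ?_⟩
        refine (hresz p _).trans ?_
        rw [show bv (Sum.inr ⟨i, r, hr⟩) = Finsupp.single i (show X.sheaf.obj.obj (op W.1) from r) from rfl,
          Finsupp.mapRange_single]
        exact combS_single t p i _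
      · rw [map_smul]
        exact Submodule.smul_mem _ _ (Submodule.subset_span ⟨Sum.inl k, hresz p _⟩)
    by_cases hyZ : y ∈ Set.range (FSch.completionToX X 𝓘 0)
    · obtain ⟨x, rfl⟩ := hyZ
      obtain ⟨W', hW'T, hxW', D, d, hd⟩ :=
        exists_relation_coeffs hX P c hc a.le _ ((combS_push hX s a b).symm.trans hb) hy
      let A : Finset P.I := b.support ∪ D.biUnion (fun k => (c k).support)
      choose e he using fun k => exists_approx hX (A.sup n) W' (d k)
      let p : W'.1 ⟶ W.1 := homOfLE hW'T ≫ a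
      let B : P.I →₀ X.sheaf.obj.obj (op W'.1) := b.mapRange (X.sheaf.obj.map (homOfLE hW'T).op).hom (map_zero _) -
        ∑ k ∈ D, (show X.sheaf.obj.obj (op W'.1) from e k) •
          (bl k).mapRange (X.sheaf.obj.map p.op).hom (map_zero _)
      refine ⟨W', hW'T, hxW', B, D, e, fun i => ?_, sub_add_cancel _ _⟩
      have hBi : (show Γ(X, W'.1) from B i) =
          (X.presheaf.map (homOfLE hW'T).op).hom (b i) - ∑ k ∈ D, e k * (X.presheaf.map (homOfLE p.le).op).hom (bl k i) := by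
        simp only [B, Finsupp.sub_apply, Finsupp.finsetSum_apply, Finsupp.smul_apply, Finsupp.mapRange_apply]
        rfl
      rw [hBi]
      by_cases hi : i ∈ A
      · refine mem_ideal_of_relation hX p.le (n i) _ D d e (fun k => c k i) (fun k => bl k i) ?_
          (fun k _ => ker_antitone hX (Finset.le_sup hi) _ (he k)) (fun k _ => hdiff k i)
        have h := hd i
        rw [Finsupp.mapRange_apply] at h
        exact (cs_res hX hW'T (b i)).trans h
      · rw [Finset.mem_union, not_or, Finsupp.notMem_support_iff, Finset.mem_biUnion] at hi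
        have h1 : (X.presheaf.map (homOfLE hW'T).op).hom (b i) = 0 := by rw [hi.1]; exact map_zero _
        rw [h1, Finset.sum_eq_zero fun k hk => ?_, sub_zero]
        · exact zero_mem _
        · rw [hbl0 k i (fun h => hi.2 ⟨k, hk, h⟩)]
          exact (congrArg (e k * ·) (map_zero _)).trans (mul_zero _)
    · obtain ⟨W', hyW', hW'T, -, h1⟩ := exists_affine_away (𝓘 := 𝓘) hyZ hy
      refine ⟨W', hW'T, hyW', b.mapRange (X.sheaf.obj.map (homOfLE hW'T).op).hom (map_zero _), ∅, 0,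
        fun i => ?_, by rw [Finset.sum_empty, add_zero]⟩
      rw [(Ideal.eq_top_iff_one _).2 (h1 (n i + 1))]
      trivial

/-- The direct image of a quasi-coherent torsion module is quasi-coherent. -/
theorem isQuasicoherent_push (hM : FTors.IsTorsF (FSch.completionAlong X 𝓘) hX M)
    [SheafOfModules.IsQuasicoherent (R := ringSh ((FSch.completionAlong X 𝓘).Osh hX)) M] :
    SheafOfModules.IsQuasicoherent (R := ringSh X.sheaf) ((kap hX).push.obj M) := by
  refine isQuasicoherent_of_cover fun U => ⟨⟨fun V _ => Nonempty (GPres ((kap hX).push.obj M) V),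
    fun {V V'} g ⟨P⟩ h => ⟨P.restrict h⟩⟩, fun y hy => ?_, fun V g hg => hg⟩
  by_cases hyZ : y ∈ Set.range (FSch.completionToX X 𝓘 0)
  · obtain ⟨x, rfl⟩ := hyZ
    obtain ⟨S, hS, hS'⟩ := exists_cover_gPres M (preU X 𝓘 U)
    obtain ⟨V, g, hg, hxV⟩ := hS x hy
    obtain ⟨P⟩ := hS' g hg
    obtain ⟨W, hxW, hWU, hWV⟩ := exists_affine_nhd hxV (U := U) hy
    exact ⟨W.1, homOfLE hWU, nonempty_gPres_push hX hM W (P.restrict (homOfLE hWV)), hxW⟩
  · obtain ⟨W, hyW, hWU, hbot, -⟩ := exists_affine_away (𝓘 := 𝓘) hyZ hy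
    refine ⟨W.1, homOfLE hWU, ?_, hyW⟩
    refine ⟨⟨_, PEmpty.{u+1}, PEmpty.{u+1}, freeT X.sheaf W.1 _, fun i => i.elim, fun k => k.elim, isGen_freeT,
      isIndep_freeT, ?_, fun T a c k => k.elim, ?_⟩⟩
    · intro T a z
      refine ⟨⊤, GrothendieckTopology.top_mem _ _, fun V g _ => ⟨0, subsingleton_bot hX M ?_ _ _⟩⟩
      exact le_bot_iff.1 (hbot ▸ (fun p hp => (g ≫ a).le hp : preU X 𝓘 V ≤ preU X 𝓘 W.1))
    · intro T a c hc
      refine ⟨⊤, GrothendieckTopology.top_mem _ _, fun V g _ => ⟨0, ?_⟩⟩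
      rw [show c = 0 from Finsupp.ext fun i => i.elim, map_zero, map_zero, map_zero]

/-- The direct image of a torsion module of finite type is of finite type. -/
theorem isFiniteType_push (hM : FTors.IsTorsF (FSch.completionAlong X 𝓘) hX M)
    [SheafOfModules.IsFiniteType (R := ringSh ((FSch.completionAlong X 𝓘).Osh hX)) M] :
    SheafOfModules.IsFiniteType (R := ringSh X.sheaf) ((kap hX).push.obj M) := by
  refine isFiniteType_of_cover fun U => ⟨⟨fun V _ => Nonempty (LocGen ((kap hX).push.obj M) V),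
    fun {V V'} g ⟨P⟩ h => ⟨P.restrict h⟩⟩, fun y hy => ?_, fun V g hg => hg⟩
  by_cases hyZ : y ∈ Set.range (FSch.completionToX X 𝓘 0)
  · obtain ⟨x, rfl⟩ := hyZ
    obtain ⟨S, hS, hS'⟩ := exists_cover_locGen M (preU X 𝓘 U)
    obtain ⟨V, g, hg, hxV⟩ := hS x hy
    obtain ⟨G⟩ := hS' g hg
    obtain ⟨W, hxW, hWU, hWV⟩ := exists_affine_nhd hxV (U := U) hy
    let G' := G.restrict (homOfLE hWV)
    have h := exists_push_gen hX G'.isGen hM
    refine ⟨W.1, homOfLE hWU, ⟨⟨G'.n, fun i => (show sect ((kap hX).push.obj M) W.1 from G'.s i),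
      fun {T} a z => ?_⟩⟩, hxW⟩
    obtain ⟨R, hR, hR'⟩ := h a z
    refine ⟨R, hR, fun Q q hq => ?_⟩
    obtain ⟨c, hc⟩ := hR' q hq
    refine ⟨fun i => c ⟨i⟩, Eq.trans ?_ hc⟩
    rw [combS_eq_sum]
    exact (Fintype.sum_equiv Equiv.ulift _ _ fun i => rfl).symm
  · obtain ⟨W, hyW, hWU, hbot, -⟩ := exists_affine_away (𝓘 := 𝓘) hyZ hy
    refine ⟨W.1, homOfLE hWU, ⟨⟨0, Fin.elim0, fun {T} a z => ?_⟩⟩, hyW⟩
    refine ⟨⊤, GrothendieckTopology.top_mem _ _, fun V g _ => ⟨Fin.elim0, subsingleton_bot hX M ?_ _ _⟩⟩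
    exact le_bot_iff.1 (hbot ▸ (fun p hp => (g ≫ a).le hp : preU X 𝓘 V ≤ preU X 𝓘 W.1))

end Groth.Agent.FTorsLib.Compl
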