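import Groth.Agent.FTorsLib.QCTInd
import Groth.Agent.LocPres.SpaceColim

/-!
# The quasi-coherent torsion coreflection preserves filtered colimits on Noetherian formal schemes
-/

set_option autoImplicit false
set_option linter.style.haveILetI false
set_option backward.isDefEq.respectTransparency.types false

universe u

open CategoryTheory CategoryTheory.Limits AlgebraicGeometry Opposite TopologicalSpace ModSite

namespace Groth.Agent.FTorsLib.QCT

open Groth.Agent.FFormal (IndP)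

variable {𝔛 : FSch.Sys.{u}} {h : 𝔛.IsFormal} (hN : 𝔛.IsLocNoethFormal)

include hN in
theorem isCompact_open [CompactSpace (𝔛.X 0)] (W : (𝔛.X 0).Opens) : IsCompact (W : Set (𝔛.X 0)) := by
  haveI := hN.2.2 0
  haveI : IsNoetherian (𝔛.X 0) := {}
  exact NoetherianSpace.isCompact _

include hN in
/-- Coherent modules are finitely presentable on a Noetherian formal scheme. -/
theorem preservesColimit_coyoneda_coh [CompactSpace (𝔛.X 0)] {C : FSch.ModF 𝔛 h} (hC : FSch.IsCohF 𝔛 h C)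
    {Λ : Type u} [SmallCategory Λ] [IsFiltered Λ] (D : Λ ⥤ FSch.ModF 𝔛 h) :
    PreservesColimit D (coyoneda.obj (op C)) := by
  haveI : SheafOfModules.IsFinitePresentation (R := ringSh (𝔛.Osh h)) C := hC
  refine Groth.Agent.LocPres.preservesColimit_coyoneda_space (𝔛.Osh h) (fun ι V hV => ?_) C D
  obtain ⟨s, hs⟩ := isCompact_univ.elim_finite_subcover (fun i => (V i : Set (𝔛.X 0))) (fun i => (V i).isOpen)
    (fun x _ => Set.mem_iUnion.2 (Opens.mem_iSup.1 (hV.ge (Opens.mem_top x))))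
  refine ⟨↥s, inferInstance, fun i => V i.1, eq_top_iff.2 fun x _ => ?_, fun j => ⟨j.1, le_rfl⟩,
    fun j j' => isCompact_open hN _⟩
  obtain ⟨i, hi, hx⟩ := Set.mem_iUnion₂.1 (hs (Set.mem_univ x))
  exact Opens.mem_iSup.2 ⟨⟨i, hi⟩, hx⟩

include hN in
theorem preservesColimit_rightAdjoint [CompactSpace (𝔛.X 0)]
    (Q : FSch.ModF 𝔛 h ⥤ (FTors.IsQCT 𝔛 h).FullSubcategory) (adj : (FTors.IsQCT 𝔛 h).ι ⊣ Q)
    (J : Type u) [SmallCategory J] [IsFiltered J] (K : J ⥤ FSch.ModF 𝔛 h) : PreservesColimit K Q := by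
  haveI : IsGrothendieckAbelian.{u} (FSch.ModF 𝔛 h) := ModShf.isGrothendieckAbelian _
  haveI : (FTors.IsQCT 𝔛 h).IsClosedUnderColimitsOfShape J := isClosedUnderColimitsOfShape_isQCT hN J
  haveI : HasColimitsOfShape J (FTors.IsQCT 𝔛 h).FullSubcategory := inferInstance
  let hcK := colimit.isColimit K
  let c := colimit.cocone K
  let Cc := colimit (K ⋙ Q)
  let θ : Cc ⟶ Q.obj c.pt := (colimit.isColimit (K ⋙ Q)).desc (Q.mapCocone c)
  have hθ : ∀ j, colimit.ι (K ⋙ Q) j ≫ θ = Q.map (c.ι.app j) := fun j => colimit.ι_desc (Q.mapCocone c) j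
  haveI : PreservesColimitsOfSize.{u, u} (FTors.IsQCT 𝔛 h).ι := adj.leftAdjoint_preservesColimits
  let hd := isColimitOfPreserves (FTors.IsQCT 𝔛 h).ι (colimit.isColimit (K ⋙ Q))
  suffices hiso : IsIso θ by
    refine preservesColimit_of_preserves_colimit_cocone hcK ?_
    haveI : IsIso ((colimit.isColimit (K ⋙ Q)).desc (Q.mapCocone c)) := hiso
    exact IsColimit.ofPointIso (colimit.isColimit (K ⋙ Q))
  have hbij : ∀ (C : (FTors.IsQCT 𝔛 h).FullSubcategory), FSch.IsCohF 𝔛 h C.obj →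
      Function.Bijective (fun φ : C ⟶ Cc => φ ≫ θ) := fun C hC => by
    haveI := preservesColimit_coyoneda_coh hN hC K
    haveI := preservesColimit_coyoneda_coh hN hC ((K ⋙ Q) ⋙ (FTors.IsQCT 𝔛 h).ι)
    let h1 := isColimitOfPreserves (coyoneda.obj (op C.obj)) hcK
    let h2 := isColimitOfPreserves (coyoneda.obj (op C.obj)) hd
    constructor
    · intro φ φ' hφ
      obtain ⟨j₁, b₁, hb₁⟩ := Types.jointly_surjective _ h2 φ.hom
      obtain ⟨j₂, b₂, hb₂⟩ := Types.jointly_surjective _ h2 φ'.hom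
      let j := IsFiltered.max j₁ j₂
      let a₁ : C ⟶ Q.obj (K.obj j) := ObjectProperty.homMk (P := FTors.IsQCT 𝔛 h) (show C.obj ⟶ (Q.obj (K.obj j₁)).obj from b₁) ≫
        Q.map (K.map (IsFiltered.leftToMax j₁ j₂))
      let a₂ : C ⟶ Q.obj (K.obj j) := ObjectProperty.homMk (P := FTors.IsQCT 𝔛 h) (show C.obj ⟶ (Q.obj (K.obj j₂)).obj from b₂) ≫
        Q.map (K.map (IsFiltered.rightToMax j₁ j₂))
      have e₁ : φ = a₁ ≫ colimit.ι (K ⋙ Q) j := by
        refine Eq.trans ?_ (Category.assoc _ _ _).symm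
        rw [show Q.map (K.map (IsFiltered.leftToMax j₁ j₂)) ≫ colimit.ι (K ⋙ Q) j = colimit.ι (K ⋙ Q) j₁ from
          colimit.w (K ⋙ Q) _]
        exact ObjectProperty.hom_ext _ hb₁.symm
      have e₂ : φ' = a₂ ≫ colimit.ι (K ⋙ Q) j := by
        refine Eq.trans ?_ (Category.assoc _ _ _).symm
        rw [show Q.map (K.map (IsFiltered.rightToMax j₁ j₂)) ≫ colimit.ι (K ⋙ Q) j = colimit.ι (K ⋙ Q) j₂ from
          colimit.w (K ⋙ Q) _]
        exact ObjectProperty.hom_ext _ hb₂.symm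
      have h3 : a₁ ≫ Q.map (c.ι.app j) = a₂ ≫ Q.map (c.ι.app j) := by
        simp only [e₁, e₂, Category.assoc, hθ] at hφ
        exact hφ
      have h4 := (adj.homEquiv_naturality_right_symm a₁ (c.ι.app j)).symm.trans
        ((congrArg (adj.homEquiv C c.pt).symm h3).trans (adj.homEquiv_naturality_right_symm a₂ (c.ι.app j)))
      obtain ⟨k, f, g, hfg⟩ := (Types.FilteredColimit.isColimit_eq_iff _ h1).1 h4
      let k' := IsFiltered.coeq f g
      have h5 : (adj.homEquiv C (K.obj j)).symm a₁ ≫ K.map (f ≫ IsFiltered.coeqHom f g) =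
          (adj.homEquiv C (K.obj j)).symm a₂ ≫ K.map (f ≫ IsFiltered.coeqHom f g) := by
        conv_rhs => rw [IsFiltered.coeq_condition f g]
        simp only [Functor.map_comp]
        rw [← Category.assoc, ← Category.assoc]
        exact congrArg (· ≫ K.map (IsFiltered.coeqHom f g)) hfg
      rw [← adj.homEquiv_naturality_right_symm a₁, ← adj.homEquiv_naturality_right_symm a₂] at h5
      have h6 := (adj.homEquiv C _).symm.injective h5
      have hw : Q.map (K.map (f ≫ IsFiltered.coeqHom f g)) ≫ colimit.ι (K ⋙ Q) k' = colimit.ι (K ⋙ Q) j :=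
        colimit.w (K ⋙ Q) _
      rw [e₁, e₂, ← hw, ← Category.assoc, ← Category.assoc, h6]
    · intro ψ
      obtain ⟨j, a, ha⟩ := Types.jointly_surjective _ h1 ((adj.homEquiv C c.pt).symm ψ)
      refine ⟨adj.homEquiv C (K.obj j) a ≫ colimit.ι (K ⋙ Q) j, ?_⟩
      show (adj.homEquiv C (K.obj j) a ≫ colimit.ι (K ⋙ Q) j) ≫ θ = ψ
      rw [Category.assoc, hθ, ← adj.homEquiv_naturality_right]
      exact (congrArg _ ha).trans ((adj.homEquiv C c.pt).apply_symm_apply ψ)
  have hpres : ∀ X : (FTors.IsQCT 𝔛 h).FullSubcategory, ∃ (L : Type u) (_ : SmallCategory L) (_ : IsFiltered L)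
      (p : ColimitPresentation L X.obj), ∀ l, FTors.IsQCT 𝔛 h (p.diag.obj l) ∧ FSch.IsCohF 𝔛 h (p.diag.obj l) := fun X => by
    obtain ⟨L, _, _, p, hp, hm⟩ :=
      Groth.Agent.FFormal.exists_mono_presentation_of_ind hN (indP_of_isQCT hN X.obj X.property)
    refine ⟨L, inferInstance, inferInstance, p, fun l => ⟨⟨?_, Groth.Agent.FFormal.isQuasicoherent_of_indP hN
      (ObjectProperty.le_ind _ _ (hp l))⟩, hp l⟩⟩
    haveI := hm l
    exact FTorsLib.isTors_of_mono _ (p.ι.app l) X.property.1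
  have hext : ∀ {Z : (FTors.IsQCT 𝔛 h).FullSubcategory} (u v : Z ⟶ Cc), u ≫ θ = v ≫ θ → u = v := fun {Z} u v huv => by
    obtain ⟨L, _, _, p, hp⟩ := hpres Z
    refine ObjectProperty.hom_ext _ (p.isColimit.hom_ext fun l => ?_)
    let i : (⟨p.diag.obj l, (hp l).1⟩ : (FTors.IsQCT 𝔛 h).FullSubcategory) ⟶ Z := ObjectProperty.homMk (p.ι.app l)
    exact congrArg (fun t => t.hom) ((hbij _ (hp l).2).1
      (show (i ≫ u) ≫ θ = (i ≫ v) ≫ θ by rw [Category.assoc, Category.assoc, huv]))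
  obtain ⟨L, _, _, p, hp⟩ := hpres (Q.obj c.pt)
  let o : L → (FTors.IsQCT 𝔛 h).FullSubcategory := fun l => ⟨p.diag.obj l, (hp l).1⟩
  let i : ∀ l, o l ⟶ Q.obj c.pt := fun l => ObjectProperty.homMk (p.ι.app l)
  choose s hs using fun l => (hbij (o l) (hp l).2).2 (i l)
  let cs : Cocone p.diag := Cocone.mk Cc.obj
    { app := fun l => (s l).hom
      naturality := fun l m f => by
        let fm : o l ⟶ o m := ObjectProperty.homMk (p.diag.map f)
        have h0 : fm ≫ s m = s l := hext _ _ (by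
          have hs' : ∀ l, s l ≫ θ = i l := hs
          rw [Category.assoc, hs', hs']
          exact ObjectProperty.hom_ext _ (p.w f))
        exact (congrArg (fun t => t.hom) h0).trans (Category.comp_id _).symm }
  let σ : Q.obj c.pt ⟶ Cc := ObjectProperty.homMk (p.isColimit.desc cs)
  have hσ : σ ≫ θ = 𝟙 _ := ObjectProperty.hom_ext _ (p.isColimit.hom_ext fun l => by
    refine (Category.assoc _ _ _).symm.trans ((congrArg (· ≫ θ.hom) (p.isColimit.fac cs l)).trans ?_)
    exact (congrArg (fun t => t.hom) (hs l)).trans (Category.comp_id _).symm)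
  exact ⟨σ, hext _ _ (by rw [Category.assoc, hσ, Category.comp_id, Category.id_comp]), hσ⟩

end Groth.Agent.FTorsLib.QCT
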