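import Groth.Agent.FTorsLib.QCTSub
import Groth.Agent.FFormal.AffVanish

/-!
# Extensions of ind-coherent modules are quasi-coherent
-/

set_option autoImplicit false
set_option linter.style.haveILetI false
set_option backward.isDefEq.respectTransparency.types false

universe u

open CategoryTheory CategoryTheory.Limits AlgebraicGeometry Opposite TopologicalSpace ModSite

namespace Groth.Agent.FTorsLib.QCT

open Groth.Agent.ModFlat (rs map_val_smul map_val_comp map_ring_comp)
open Groth.Agent.PullFlat (appS appS_res appS_comp appS_injective rs_id exists_cover_bind eq_zero_of_locally)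
open Groth.Agent.LocPres
open Groth.Agent.FFormal (Rg rsR rsR_rsR exists_cover_affine IndP coeff_eq_of_combS_eq)

variable {𝔛 : FSch.Sys.{u}} {h : 𝔛.IsFormal} (hN : 𝔛.IsLocNoethFormal)

include hN in
/-- Relations between sections of an ind-coherent module on an affine open are finitely generated. -/
theorem exists_rel_gens_indP {X : FSch.ModF 𝔛 h} (hX : IndP 𝔛 h X) {W : (𝔛.X 0).Opens} (hW : IsAffineOpen W)
    {n : ℕ} (x : Fin n → sect X W) :
    ∃ (q : ℕ) (e : Fin q → Fin n → Rg h W), (∀ l, ∑ i, e l i • x i = 0) ∧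
      ∀ {T : (𝔛.X 0).Opens} (a : T ⟶ W) (c : Fin n → Rg h T), ∑ i, c i • rs X a (x i) = 0 →
        ∃ S ∈ Opens.grothendieckTopology (𝔛.X 0) T, ∀ ⦃V : (𝔛.X 0).Opens⦄ (g : V ⟶ T), S g →
          ∃ b : Fin q → Rg h V, ∀ i, rsR h g.le (c i) = ∑ j, b j * rsR h (g ≫ a).le (e j i) := by
  classical
  obtain ⟨J, _, _, P, hP, hm⟩ := Groth.Agent.FFormal.exists_mono_presentation_of_ind hN hX
  haveI : ∀ j, Mono (P.cocone.ι.app j) := hm
  choose l y hy using fun i => Groth.Agent.FFormal.exists_stage_compact P.isColimit hW.isCompact (x i)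
  obtain ⟨l₀, hl₀⟩ := IsFiltered.sup_objs_exists (Finset.univ.image l)
  let f : ∀ i, l i ⟶ l₀ := fun i => (hl₀ (Finset.mem_image_of_mem l (Finset.mem_univ i))).some
  have hy' : ∀ i, appS (P.cocone.ι.app l₀) W (appS (P.diag.map (f i)) W (y i)) = x i := fun i =>
    ((appS_comp _ _ _).symm.trans (congrArg (fun t => appS t W (y i)) (P.cocone.w (f i)))).trans (hy i)
  obtain rfl : x = fun i => appS (P.cocone.ι.app l₀) W (appS (P.diag.map (f i)) W (y i)) := funext fun i => (hy' i).symm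
  exact Groth.Agent.FFormal.exists_rel_gens_colim hN P.isColimit hP hW fun i => appS (P.diag.map (f i)) W (y i)

include hN in
/-- An ind-coherent module is generated by its sections over an affine open. -/
theorem isGen_sections_indP {X : FSch.ModF 𝔛 h} (hX : IndP 𝔛 h X) {W : (𝔛.X 0).Opens} (hW : IsAffineOpen W) :
    IsGen (O := 𝔛.Osh h) (fun s : sect X W => s) := by
  obtain ⟨J, _, _, P, hP⟩ := hX
  obtain ⟨G⟩ := Groth.Agent.FFormal.nonempty_gPres_colim hN P.isColimit hP hW
  intro T a z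
  obtain ⟨S, hS, hS'⟩ := G.sgen a z
  refine ⟨S, hS, fun V g hg => ?_⟩
  obtain ⟨c, hc⟩ := hS' g hg
  exact ⟨c.mapDomain G.s, Eq.trans (Finsupp.linearCombination_mapDomain _ _ _) hc⟩

theorem exists_section_preimage {S : ShortComplex (FSch.ModF 𝔛 h)} (hS : S.ShortExact) {W : (𝔛.X 0).Opens}
    (x : sect S.X₂ W) (hx : appS S.g W x = 0) : ∃ a : sect S.X₁ W, appS S.f W a = x := by
  haveI := hS.mono_f
  obtain ⟨z, hz⟩ := exists_kernel_el S.g x hx
  let e := (kernelIsKernel S.g).conePointUniqueUpToIso hS.fIsKernel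
  refine ⟨appS e.hom W z, (appS_comp _ _ _).symm.trans (Eq.trans ?_ hz)⟩
  exact congrArg (fun t => appS t W z)
    (IsLimit.conePointUniqueUpToIso_hom_comp (kernelIsKernel S.g) hS.fIsKernel WalkingParallelPair.zero)

include hN in
theorem surjective_sections {S : ShortComplex (FSch.ModF 𝔛 h)} (hS : S.ShortExact) (h₁ : IndP 𝔛 h S.X₁)
    {W : (𝔛.X 0).Opens} (hW : IsAffineOpen W) : Function.Surjective (appS S.g W) :=
  Groth.Agent.CohAff.CovSys.Good.sec_surjective (S := S.map (SheafOfModules.toSheaf _))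
    (hS.map_of_exact (SheafOfModules.toSheaf _)) (Groth.Agent.FFormal.good_indP hN h₁) hW

include hN in
/-- An extension of ind-coherent modules is quasi-coherent. -/
theorem isQuasicoherent_ext {S : ShortComplex (FSch.ModF 𝔛 h)} (hS : S.ShortExact) (h₁ : IndP 𝔛 h S.X₁)
    (h₃ : IndP 𝔛 h S.X₃) : SheafOfModules.IsQuasicoherent (R := ringSh (𝔛.Osh h)) S.X₂ := by
  classical
  haveI := hS.mono_f
  refine isQuasicoherent_of_cover fun U => ?_
  obtain ⟨R₀, hR₀, hR₀'⟩ := exists_cover_affine (𝔛 := 𝔛) U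
  refine ⟨R₀, hR₀, fun V₀ g₀ hg₀ => ?_⟩
  obtain ⟨W, hVW, -, hW⟩ := hR₀' g₀ hg₀
  choose lift hlift using surjective_sections hN hS h₁ hW
  let s : sect S.X₂ W → sect S.X₂ W := fun x => x
  let κ₀ := {k : sect S.X₂ W →₀ Rg h W // combS s (𝟙 W) k = 0}
  let t := freeT (𝔛.Osh h) W (sect S.X₂ W)
  let z : κ₀ → sect (SheafOfModules.free (R := ringSh (𝔛.Osh h)) (sect S.X₂ W) : Mod (𝔛.Osh h)) W :=
    fun k => combS t (𝟙 W) k.1
  have hz : ∀ ⦃T : (𝔛.X 0).Opens⦄ (a : T ⟶ W) (k : κ₀), rs _ a (z k) = combS t a (mR a k.1) := fun T a k =>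
    (combS_mR t a k.1).symm
  refine (Nonempty.intro (GPres.mk (O := 𝔛.Osh h) (F := S.X₂) (X := W) _ _ κ₀ t s z isGen_freeT isIndep_freeT
    (fun T a x => ?_) (fun T a d k hd => ?_) fun T a d hd => ?_)).map fun G => G.restrict (homOfLE hVW)
  · obtain ⟨R, hR, hR'⟩ := isGen_sections_indP hN h₃ hW a (appS S.g T x)
    refine exists_cover_bind (fun V g => ∃ c : sect S.X₂ W →₀ Rg h V, combS s (g ≫ a) c = rs S.X₂ g x) hR
      fun V g hg => ?_
    obtain ⟨c, hc⟩ := hR' g hg
    have hg0 : appS S.g V (rs S.X₂ g x - combS s (g ≫ a) (c.mapDomain lift)) = 0 := by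
      refine (map_sub _ _ _).trans (sub_eq_zero.2 ((appS_res S.g g x).trans (hc.symm.trans ?_)))
      refine Eq.trans ?_ (Finsupp.apply_linearCombination (Rg h V) (appS S.g V) _ _).symm
      rw [Finsupp.linearCombination_mapDomain]
      refine congrArg (fun v : sect S.X₃ W → sect S.X₃ V => Finsupp.linearCombination (Rg h V) v c) (funext fun i => ?_)
      exact ((appS_res S.g _ _).trans (congrArg (rs S.X₃ _) (hlift i))).symm
    obtain ⟨a₁, ha₁⟩ := exists_section_preimage hS _ hg0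
    obtain ⟨R₂, hR₂, hR₂'⟩ := isGen_sections_indP hN h₁ hW (g ≫ a) a₁
    refine ⟨R₂, hR₂, fun V₂ g₂ hg₂ => ?_⟩
    obtain ⟨c₁, hc₁⟩ := hR₂' g₂ hg₂
    refine ⟨mR g₂ (c.mapDomain lift) + c₁.mapDomain (appS S.f W), ?_⟩
    have h2 : combS s ((g₂ ≫ g) ≫ a) (c₁.mapDomain (appS S.f W)) =
        rs S.X₂ g₂ (rs S.X₂ g x - combS s (g ≫ a) (c.mapDomain lift)) := by
      rw [← ha₁, ← appS_res, ← hc₁, Category.assoc]
      refine Eq.trans ?_ (Finsupp.apply_linearCombination (Rg h V₂) (appS S.f V₂) _ _).symm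
      refine (Finsupp.linearCombination_mapDomain _ _ _).trans ?_
      exact congrArg (fun v : sect S.X₁ W → sect S.X₂ V₂ => Finsupp.linearCombination (Rg h V₂) v c₁)
        (funext fun i => (appS_res S.f _ _).symm)
    rw [map_add, h2, map_sub, combS_res, Category.assoc, ← map_val_comp]
    exact add_sub_cancel _ _
  · rw [hz] at hd
    rw [coeff_eq_of_combS_eq isIndep_freeT a hd, combS_mR, k.2, map_zero]
  · obtain ⟨n, emb, hdd⟩ := exists_fin_support d
    let x : Fin n → sect S.X₂ W := emb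
    obtain ⟨q, e, he, hsol⟩ := exists_rel_gens_indP hN h₃ hW fun i => appS S.g W (x i)
    choose a₁ ha₁ using fun l => exists_section_preimage hS (∑ i, e l i • x i) ((appS_sum_smul _ _ _).trans (he l))
    obtain ⟨q', e', he', hsol'⟩ := exists_rel_gens_indP hN h₁ hW a₁
    have hk : ∀ m, combS s (𝟙 W) (∑ i, Finsupp.single (emb i) (∑ l, e' m l * e l i)) = 0 := fun m => by
      rw [combS_embDomain]
      refine Eq.trans ?_ ((congrArg (appS S.f W) (he' m)).trans (map_zero _))
      rw [appS_sum_smul]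
      simp only [ha₁, Finset.smul_sum, smul_smul, Finset.sum_smul, rs_id]
      exact Finset.sum_comm
    have h0 : ∑ i, d (emb i) • rs S.X₂ a (x i) = 0 := by
      refine Eq.trans ?_ hd
      conv_rhs => rw [hdd]
      exact (combS_embDomain s a emb _).symm
    obtain ⟨R, hR, hR'⟩ := hsol a (fun i => d (emb i)) (by
      refine Eq.trans ?_ ((congrArg (appS S.g T) h0).trans (map_zero _))
      rw [appS_sum_smul]
      simp only [appS_res])
    refine exists_cover_bind (fun V g => ∃ c : κ₀ →₀ Rg h V, combS z (g ≫ a) c = rs _ g (combS t a d)) hR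
      fun V g hg => ?_
    obtain ⟨b, hb⟩ := hR' g hg
    obtain ⟨R₂, hR₂, hR₂'⟩ := hsol' (g ≫ a) b (by
      refine appS_injective S.f V (Eq.trans ?_ (map_zero _).symm)
      refine Eq.trans ?_ ((congrArg (rs S.X₂ g) h0).trans (map_zero _))
      rw [appS_sum_smul, rs_sum_smul]
      simp only [appS_res, ha₁, rs_sum_smul, Finset.smul_sum, smul_smul]
      rw [Finset.sum_comm]
      refine Finset.sum_congr rfl fun i _ => ?_
      rw [← Finset.sum_smul, ← map_val_comp]
      exact congrArg (· • rs S.X₂ (g ≫ a) (x i)) (hb i).symm)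
    refine ⟨R₂, hR₂, fun V₂ g₂ hg₂ => ?_⟩
    obtain ⟨c, hc⟩ := hR₂' g₂ hg₂
    refine ⟨∑ m, Finsupp.single (⟨_, hk m⟩ : κ₀) (c m), ?_⟩
    rw [combS_embDomain, combS_res]
    refine Eq.trans (Finset.sum_congr rfl fun m _ =>
      (congrArg (c m • ·) (hz _ _)).trans (map_smul _ _ _).symm) ?_
    rw [← map_sum]
    refine congrArg (combS t ((g₂ ≫ g) ≫ a)) (Finsupp.ext fun p => ?_)
    conv_rhs => rw [hdd]
    simp only [mR, Finsupp.finsetSum_apply, Finsupp.smul_apply, Finsupp.mapRange_apply, Finsupp.single_apply, map_sum,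
      apply_ite ((𝔛.Osh h).obj.map ((g₂ ≫ g) ≫ a).op).hom, apply_ite ((𝔛.Osh h).obj.map (g₂ ≫ g).op).hom, map_zero,
      smul_eq_mul, Finset.mul_sum, mul_ite, mul_zero, map_mul]
    rw [Finset.sum_comm]
    refine Finset.sum_congr rfl fun i _ => ?_
    split_ifs with hp
    · change _ = rsR h (g₂ ≫ g).le (d (emb i))
      rw [← rsR_rsR g₂.le g.le, hb i]
      simp only [map_sum, map_mul, hc, Finset.sum_mul]
      refine Eq.trans ?_ Finset.sum_comm
      refine Finset.sum_congr rfl fun m _ => Finset.sum_congr rfl fun l _ => ?_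
      rw [mul_assoc, rsR_rsR]
      rfl
    · exact Finset.sum_const_zero

end Groth.Agent.FTorsLib.QCT
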