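import Groth.Agent.FTorsLib.QCTKilled
import Groth.Agent.LimTop.SubExtGen

/-!
# Quasi-coherent torsion modules are ind-coherent
-/

set_option autoImplicit false
set_option linter.style.haveILetI false
set_option backward.isDefEq.respectTransparency.types false

universe u

open CategoryTheory CategoryTheory.Limits AlgebraicGeometry Opposite TopologicalSpace ModSite

namespace Groth.Agent.FTorsLib.QCT

open Groth.Agent.ModFlat (rs map_val_smul map_val_comp map_ring_comp)
open Groth.Agent.PullFlat (appS appS_res appS_comp appS_injective rs_id exists_cover_bind eq_zero_of_locally etaS genVal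
  mono_of_appS_injective)
open Groth.Agent.LocPres
open Groth.Agent.FFormal (Rg pr rsR rsR_rsR exists_cover_affine IndP)

variable {𝔛 : FSch.Sys.{u}} {h : 𝔛.IsFormal}

variable (hN : 𝔛.IsLocNoethFormal)

open Groth.Agent.Props.SubMod Groth.Agent.Props.SubSheaf in
/-- Through a section over an affine open of a locally Noetherian scheme passes a finite type submodule. -/
theorem exists_sub_section {X : Scheme.{u}} [IsLocallyNoetherian X] (F : X.Modules) [F.IsQuasicoherent]
    {W : X.Opens} (hW : IsAffineOpen W) (s : Γ(F, W)) :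
    ∃ (G : X.Modules) (i : G ⟶ F), Mono i ∧ SheafOfModules.IsFiniteType.{u} G ∧ s ∈ Set.range (i.app W) := by
  classical
  let S₀ : StalkSub F := fun y => if hy : y ∈ W then spanGerm ({s} : Set Γ(F, W)) y hy else ⊥
  have h0 : GenBy S₀ W ({s} : Set Γ(F, W)) := fun y hy => dif_pos hy
  have hS₀ : FTOn S₀ W := fun x hx => ⟨W, hW, hx, le_rfl, {s}, by rwa [Finset.coe_singleton]⟩
  have hX : ∀ x : X, ∃ U : X.Opens, x ∈ U ∧ NoetherianSpace (U : Set X) := fun x => by
    obtain ⟨_, ⟨U, hU, rfl⟩, hxU, -⟩ := X.isBasis_affineOpens.exists_subset_of_mem_open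
      (show x ∈ ((⊤ : X.Opens) : Set X) from trivial) isOpen_univ
    haveI : IsNoetherianRing Γ(X, U) := IsLocallyNoetherian.component_noetherian ⟨U, hU⟩
    exact ⟨U, hxU, noetherianSpace_of_isAffineOpen U hU⟩
  obtain ⟨S', hS', h1⟩ := Groth.Agent.LimTop.SubExtGen.exists_global_locallyNoetherian hX W S₀ hS₀
  refine ⟨sub S', incl S', inferInstance, isFiniteType_sub hS', (mem_range_incl S' s).mpr fun y hy => ?_⟩
  rw [h1 y hy, h0 y hy]
  exact Submodule.subset_span ⟨s, rfl, rfl⟩

/-- Factorisation through the torsion part. -/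
theorem toGamma_map_ι {A X : FSch.ModF 𝔛 h} (hA : FTors.IsTorsF 𝔛 h A) (φ : A ⟶ X) :
    (FTorsLib.toGamma _ A hA ≫ (FTors.gammaT 𝔛 h).map φ) ≫ (FTors.gammaTι 𝔛 h).app X = φ :=
  (Category.assoc _ _ _).trans ((congrArg (FTorsLib.toGamma _ A hA ≫ ·) ((FTors.gammaTι 𝔛 h).naturality φ)).trans
    ((Category.assoc _ _ _).symm.trans ((congrArg (· ≫ φ) (FTorsLib.toGamma_ι _ A hA)).trans (Category.id_comp φ))))

include hN in
/-- The torsion part of a quasi-coherent module is ind-coherent. -/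
theorem indP_gammaT (M : FSch.ModF 𝔛 h) [SheafOfModules.IsQuasicoherent (R := ringSh (𝔛.Osh h)) M] :
    IndP 𝔛 h ((FTors.gammaT 𝔛 h).obj M) := by
  classical
  let Γ' := (FTors.gammaT 𝔛 h).obj M
  let ιM : Γ' ⟶ M := (FTors.gammaTι 𝔛 h).app M
  haveI : Mono ιM := FTorsLib.mono_gammaι _ M
  let f := fun n => FSch.levelMor 𝔛 h n
  haveI := fun n => isQuasicoherent_killed hN n M
  haveI hu := fun n => isIso_unit_killed hN n (killed n M) fun U x => killedBy_killed x
  haveI hqN : ∀ n, SheafOfModules.IsQuasicoherent.{u} ((f n).pull.obj (killed n M)) := fun n =>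
    LocPres.isQuasicoherent_pull (f n) (killed n M)
  let α := Σ (W : {W : (𝔛.X 0).Opens // IsAffineOpen W}) (n : ℕ), sect (killed n M) W.1
  have hext : ∀ a : α, ∃ (G : FSch.ModF 𝔛 h) (g : G ⟶ Γ') (z : sect G a.1.1), Mono (g ≫ ιM) ∧
      SheafOfModules.IsFiniteType (R := ringSh (𝔛.Osh h)) G ∧
        appS (g ≫ ιM) a.1.1 z = appS (killedι a.2.1 M) a.1.1 a.2.2 := by
    rintro ⟨⟨W, hW⟩, n, x⟩
    haveI := hN.2.2 n
    let η := (f n).adj.unit.app (killed n M)
    obtain ⟨G, i, hi, hft, w, hw⟩ := exists_sub_section ((f n).pull.obj (killed n M))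
      (Groth.Agent.FFormal.isAffineOpen_lvU h n hW) (appS η W x)
    haveI := hft
    let φ : (f n).push.obj G ⟶ killed n M := (f n).push.map i ≫ inv η
    have hT : FTors.IsTorsF 𝔛 h (killed n M) := fun U s => FTors.IsTorsSect.of_killedBy (killedBy_killed s)
    let j : killed n M ⟶ Γ' := FTorsLib.toGamma _ _ hT ≫ (FTors.gammaT 𝔛 h).map (killedι n M)
    have hj : j ≫ ιM = killedι n M := toGamma_map_ι hT (killedι n M)
    haveI : Mono ((f n).push.map i) := by
      haveI : (f n).push.PreservesMonomorphisms := Functor.preservesMonomorphisms_of_adjunction (f n).adj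
      exact @Functor.map_mono _ _ _ _ (f n).push _ _ _ i hi
    refine ⟨_, φ ≫ j, w, ?_, isFiniteType_levelPush hN n G, ?_⟩
    · rw [Category.assoc, hj]; infer_instance
    · rw [Category.assoc, hj, appS_comp]
      refine congrArg (appS (killedι n M) W) (appS_injective η W ?_)
      refine (appS_comp φ η w).symm.trans (Eq.trans ?_ hw)
      exact congrArg (fun t => appS t W w) (show φ ≫ η = (f n).push.map i by simp [φ])
  choose G g z hmono hft hgz using hext
  have hG : ∀ a, FSch.IsCohF 𝔛 h (G a) := fun a => by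
    haveI := hmono a
    haveI := hft a
    exact isCohF_of_mono_qc hN (g a ≫ ιM)
  let D : Finset α ⥤ FSch.ModF 𝔛 h :=
    { obj := fun s => ∐ fun a : s => G a.1
      map := fun {s t} m => Sigma.desc fun a => Sigma.ι (fun a : t => G a.1) ⟨a.1, leOfHom m a.2⟩
      map_id := fun s => by apply Sigma.hom_ext; intro a; simp
      map_comp := fun {s t r} m m' => by apply Sigma.hom_ext; intro a; simp }
  let p : D ⟶ (Functor.const (Finset α)).obj Γ' :=
    { app := fun s => Sigma.desc fun a => g a.1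
      naturality := fun s t m => by apply Sigma.hom_ext; intro a; simp [D] }
  have hD : ∀ s, FSch.IsCohF 𝔛 h (D.obj s) := fun s =>
    IndCoh.isFinitePresentation_sigma (O := 𝔛.Osh h) (↥s) (fun a : s => G a.1) fun a => hG a.1
  refine ⟨Finset α, inferInstance, inferInstance, ?_⟩
  refine (Groth.Agent.FFormal.exists_mono_presentation hN D p hD (fun s => ?_) fun T x => ?_).imp fun _ hp => hp.1
  · exact IndCoh.isFinitePresentation_of_iso (kernelCompMono (p.app s) ιM)
      (isCohF_kernel_to_qc hN (p.app s ≫ ιM) (hD s))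
  · refine exists_cover_bind (fun V j => ∃ (s : Finset α) (y : sect (D.obj s) V), appS (p.app s) V y = rs Γ' j x)
      (show FTors.killSieve (FTors.openIdealFam 𝔛 h) M x.1 ∈ _ from x.2) fun V j ⟨n, hn⟩ => ?_
    obtain ⟨S, hS, hS'⟩ := exists_cover_affine (𝔛 := 𝔛) V
    refine ⟨S, hS, fun V' j' hj' => ?_⟩
    obtain ⟨W, hV'W, hWV, hW⟩ := hS' j' hj'
    obtain ⟨x', hx'⟩ := exists_killed (hn.res (homOfLE hWV))
    let a : α := ⟨⟨W, hW⟩, n, x'⟩
    refine ⟨{a}, rs _ (homOfLE hV'W) (appS (Sigma.ι (fun b : ({a} : Finset α) => G b.1)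
      ⟨a, Finset.mem_singleton_self a⟩) W (z a)), ?_⟩
    refine appS_injective ιM V' ?_
    rw [appS_res, ← appS_comp, Sigma.ι_desc]
    refine (appS_res ιM _ _).trans ((congrArg (rs M (homOfLE hV'W))
      ((appS_comp (g a) ιM (z a)).symm.trans ((hgz a).trans hx'))).trans ?_)
    refine Eq.trans ?_ (appS_res ιM _ x).symm
    exact (map_val_comp _ _ _).symm.trans ((map_val_comp _ _ _).symm.trans
      (congrArg (fun q => rs M q x.1) (Subsingleton.elim _ _)))

include hN in
/-- Quasi-coherent torsion modules are ind-coherent. -/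
theorem indP_of_isQCT (M : FSch.ModF 𝔛 h) (hM : FTors.IsQCT 𝔛 h M) : IndP 𝔛 h M := by
  haveI := hM.2
  let e : M ≅ (FTors.gammaT 𝔛 h).obj M :=
    { hom := FTorsLib.toGamma _ M hM.1
      inv := (FTors.gammaTι 𝔛 h).app M
      hom_inv_id := FTorsLib.toGamma_ι _ M hM.1
      inv_hom_id := by
        haveI : Mono ((FTors.gammaTι 𝔛 h).app M) := FTorsLib.mono_gammaι _ M
        rw [← cancel_mono ((FTors.gammaTι 𝔛 h).app M), Category.assoc, FTorsLib.toGamma_ι]
        exact (Category.comp_id _).trans (Category.id_comp _).symm }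
  exact (IndP 𝔛 h).prop_of_iso e.symm (indP_gammaT hN M)

include hN in
/-- The torsion part of a quasi-coherent module is a quasi-coherent torsion module. -/
theorem isQCT_gammaT (M : FSch.ModF 𝔛 h) [SheafOfModules.IsQuasicoherent (R := ringSh (𝔛.Osh h)) M] :
    FTors.IsQCT 𝔛 h ((FTors.gammaT 𝔛 h).obj M) :=
  ⟨FTorsLib.isTors_gamma _ M, Groth.Agent.FFormal.isQuasicoherent_of_indP hN (indP_gammaT hN M)⟩

include hN in
theorem isClosedUnderColimitsOfShape_isQCT (J : Type u) [SmallCategory J] :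
    (FTors.IsQCT 𝔛 h).IsClosedUnderColimitsOfShape J := by
  refine ⟨fun X ⟨P, hP⟩ => ⟨?_, Groth.Agent.FFormal.isQuasicoherent_of_indP hN
    ((Groth.Agent.FFormal.isClosedUnderColimitsOfShape_indP hN J).colimitsOfShape_le _
      ⟨P, fun j => indP_of_isQCT hN _ (hP j)⟩)⟩⟩
  let c : Cocone P.diag := Cocone.mk ((FTors.gammaT 𝔛 h).obj X)
    { app := fun j => FTorsLib.toGamma _ _ (hP j).1 ≫ (FTors.gammaT 𝔛 h).map (P.ι.app j)
      naturality := fun i j m => by
        haveI : Mono ((FTors.gammaTι 𝔛 h).app X) := FTorsLib.mono_gammaι _ X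
        refine (cancel_mono ((FTors.gammaTι 𝔛 h).app X)).1 ?_
        refine (Category.assoc _ _ _).trans ((congrArg (P.diag.map m ≫ ·) (toGamma_map_ι (hP j).1 (P.ι.app j))).trans
          ((P.w m).trans ((toGamma_map_ι (hP i).1 (P.ι.app i)).symm.trans ?_)))
        exact congrArg (· ≫ (FTors.gammaTι 𝔛 h).app X) (Category.comp_id _).symm }
  have hsplit : P.isColimit.desc c ≫ (FTors.gammaTι 𝔛 h).app X = 𝟙 X := P.isColimit.hom_ext fun j =>
    (Category.assoc _ _ _).symm.trans ((congrArg (· ≫ (FTors.gammaTι 𝔛 h).app X) (P.isColimit.fac c j)).trans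
      ((toGamma_map_ι (hP j).1 (P.ι.app j)).trans (Category.comp_id _).symm))
  haveI : Epi ((FTors.gammaTι 𝔛 h).app X) := epi_of_epi_fac hsplit
  exact FTorsLib.isTors_of_epi _ ((FTors.gammaTι 𝔛 h).app X) (FTorsLib.isTors_gamma _ X)

include hN in
theorem isLeftAdjoint_isQCT_ι : (FTors.IsQCT 𝔛 h).ι.IsLeftAdjoint := by
  haveI := Groth.Agent.FFormal.isLeftAdjoint_indP_ι (h := h) hN
  let G : (IndP 𝔛 h).FullSubcategory ⥤ (FTors.IsQCT 𝔛 h).FullSubcategory :=
    (FTors.IsQCT 𝔛 h).lift ((IndP 𝔛 h).ι ⋙ FTors.gammaT 𝔛 h) fun Y =>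
      @isQCT_gammaT _ _ hN Y.obj (Groth.Agent.FFormal.isQuasicoherent_of_indP hN Y.property)
  let F : (FTors.IsQCT 𝔛 h).FullSubcategory ⥤ (IndP 𝔛 h).FullSubcategory :=
    ObjectProperty.ιOfLE fun M hM => indP_of_isQCT hN M hM
  have adj : F ⊣ G := Adjunction.mkOfHomEquiv
    { homEquiv := fun T Y =>
        { toFun := fun φ => ObjectProperty.homMk
            (FTorsLib.toGamma _ T.obj T.property.1 ≫ (FTors.gammaT 𝔛 h).map φ.hom)
          invFun := fun ψ => ObjectProperty.homMk (ψ.hom ≫ (FTors.gammaTι 𝔛 h).app Y.obj)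
          left_inv := fun φ => ObjectProperty.hom_ext _ (toGamma_map_ι T.property.1 φ.hom)
          right_inv := fun ψ => ObjectProperty.hom_ext _ (by
            haveI : Mono ((FTors.gammaTι 𝔛 h).app Y.obj) := FTorsLib.mono_gammaι _ _
            exact (cancel_mono ((FTors.gammaTι 𝔛 h).app Y.obj)).1
              (toGamma_map_ι T.property.1 (ψ.hom ≫ (FTors.gammaTι 𝔛 h).app Y.obj))) }
      homEquiv_naturality_left_symm := fun u v => ObjectProperty.hom_ext _ (Category.assoc _ _ _)
      homEquiv_naturality_right := fun u v => ObjectProperty.hom_ext _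
        ((congrArg (_ ≫ ·) ((FTors.gammaT 𝔛 h).map_comp u.hom v.hom)).trans (Category.assoc _ _ _).symm) }
  exact ⟨_, ⟨(adj.comp (Adjunction.ofIsLeftAdjoint (IndP 𝔛 h).ι)).ofNatIsoLeft
    (ObjectProperty.ιOfLECompιIso _)⟩⟩

end Groth.Agent.FTorsLib.QCT
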