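import Groth.Agent.FTorsLib.QCTSub

/-!
# Quasi-coherent torsion modules are ind-coherent
-/

set_option autoImplicit false
set_option linter.style.haveILetI false
set_option backward.isDefEq.respectTransparency.types false

universe u

open CategoryTheory CategoryTheory.Limits AlgebraicGeometry Opposite TopologicalSpace ModSite

namespace Groth.Agent.FTorsLib.QCT

open Groth.Agent.ModFlat (rs map_val_smul map_val_comp map_ring_comp)
open Groth.Agent.PullFlat (appS appS_res appS_comp appS_injective rs_id exists_cover_bind eq_zero_of_locally etaS genVal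
  mono_of_appS_injective)
open Groth.Agent.LocPres
open Groth.Agent.FFormal (Rg pr rsR rsR_rsR exists_cover_affine IndP)

variable {𝔛 : FSch.Sys.{u}} {h : 𝔛.IsFormal}

/-- The constant family of the `n`-th open ideal. -/
noncomputable def killFam (n : ℕ) : FTors.IdealFam (𝔛.Osh h) where
  ideal _ U := (FTors.openIdealFam 𝔛 h).ideal n U
  antitone' _ _ := le_rfl
  map_mem' _ _ _ g _ ha := (FTors.openIdealFam 𝔛 h).map_mem n g ha

/-- The submodule killed by the `n`-th open ideal. -/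
noncomputable abbrev killed (n : ℕ) (M : FSch.ModF 𝔛 h) : FSch.ModF 𝔛 h := (FTors.gamma _ (killFam n)).obj M

/-- Its inclusion. -/
noncomputable abbrev killedι (n : ℕ) (M : FSch.ModF 𝔛 h) : killed n M ⟶ M := (FTors.gammaι (killFam n)).app M

theorem killedBy_of_cover {M : FSch.ModF 𝔛 h} {n : ℕ} {U : (𝔛.X 0).Opens} {s : sect M U} {S : Sieve U}
    (hS : S ∈ Opens.grothendieckTopology (𝔛.X 0) U)
    (hs : ∀ ⦃V : (𝔛.X 0).Opens⦄ (g : V ⟶ U), S g → FTors.KilledBy (FTors.openIdealFam 𝔛 h) M n (rs M g s)) :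
    FTors.KilledBy (FTors.openIdealFam 𝔛 h) M n s := fun W g a ha => by
  refine eq_zero_of_locally M ((Opens.grothendieckTopology (𝔛.X 0)).pullback_stable g hS) _ fun V g' hg' => ?_
  refine (map_val_smul (F := M) g' a _).trans ?_
  have h2 := hs (g' ≫ g) hg' (𝟙 V) _ ((FTors.openIdealFam 𝔛 h).map_mem n g' ha)
  rw [FTors.res_id] at h2
  exact (congrArg (_ • ·) (map_val_comp g' g s).symm).trans h2

theorem killedBy_of_isTorsSect {M : FSch.ModF 𝔛 h} {n : ℕ} {U : (𝔛.X 0).Opens} {s : sect M U}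
    (hs : FTors.IsTorsSect (killFam n) M s) : FTors.KilledBy (FTors.openIdealFam 𝔛 h) M n s :=
  killedBy_of_cover hs fun V g ⟨_, hm⟩ => hm

theorem killedBy_killed {M : FSch.ModF 𝔛 h} {n : ℕ} {U : (𝔛.X 0).Opens} (x : sect (killed n M) U) :
    FTors.KilledBy (FTors.openIdealFam 𝔛 h) (killed n M) n x := fun W g a ha =>
  Subtype.ext (killedBy_of_isTorsSect x.2 g a ha)

theorem exists_killed {M : FSch.ModF 𝔛 h} {n : ℕ} {U : (𝔛.X 0).Opens} {s : sect M U}
    (hs : FTors.KilledBy (FTors.openIdealFam 𝔛 h) M n s) :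
    ∃ x : sect (killed n M) U, appS (killedι n M) U x = s :=
  ⟨⟨s, FTors.IsTorsSect.of_killedBy (I := killFam n) (n := n) hs⟩, rfl⟩

/-- Lifting of opens of a level. -/
theorem exists_nhd_level (n : ℕ) (T : (𝔛.X n).Opens) {U : (𝔛.X 0).Opens} {x : 𝔛.X 0} (hx : x ∈ U)
    (hxT : (𝔛.toX n).base x ∈ T) :
    ∃ W : (𝔛.X 0).Opens, IsAffineOpen W ∧ x ∈ W ∧ W ≤ U ∧ 𝔛.lvU h n W ≤ T := by
  obtain ⟨_, ⟨W, hW, rfl⟩, hxW, hWs⟩ := (𝔛.X 0).isBasis_affineOpens.exists_subset_of_mem_open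
    (show x ∈ ((U ⊓ (Opens.map (𝔛.toX n).base).obj T : (𝔛.X 0).Opens) : Set (𝔛.X 0)) from ⟨hx, hxT⟩) (Opens.isOpen _)
  refine ⟨W, hW, hxW, fun y hy => (hWs hy).1, fun z hz => ?_⟩
  have h1 := (hWs hz).2
  have h2 : (𝔛.toX n).base (𝔛.gInv h n z) = z := ConcreteCategory.congr_hom (𝔛.gInv_toX_base h n) z
  change (𝔛.toX n).base (𝔛.gInv h n z) ∈ T at h1
  rwa [h2] at h1

theorem toX_mem_lvU (n : ℕ) {U : (𝔛.X 0).Opens} {x : 𝔛.X 0} (hx : x ∈ U) :
    (𝔛.toX n).base x ∈ 𝔛.lvU h n U := by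
  change 𝔛.gInv h n ((𝔛.toX n).base x) ∈ U
  rw [show 𝔛.gInv h n ((𝔛.toX n).base x) = x from ConcreteCategory.congr_hom (𝔛.toX_base_gInv h n) x]
  exact hx

theorem le_of_lvU_le (n : ℕ) {W V : (𝔛.X 0).Opens} (hWV : 𝔛.lvU h n W ≤ 𝔛.lvU h n V) : W ≤ V := fun x hx => by
  have h1 := hWV (toX_mem_lvU n hx)
  change 𝔛.gInv h n ((𝔛.toX n).base x) ∈ V at h1
  rwa [show 𝔛.gInv h n ((𝔛.toX n).base x) = x from ConcreteCategory.congr_hom (𝔛.toX_base_gInv h n) x] at h1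

variable (hN : 𝔛.IsLocNoethFormal)

include hN in
/-- A section killed by generators of the ideal of an affine open is killed by the ideal. -/
theorem killedBy_of_gens {M : FSch.ModF 𝔛 h} {n r : ℕ} {W : (𝔛.X 0).Opens} (hW : IsAffineOpen W)
    (f : Fin r → Rg h W) (hf : Submodule.span (Rg h W) (Set.range f) = RingHom.ker (pr h n W)) (s : sect M W)
    (hs : ∀ j, f j • s = 0) : FTors.KilledBy (FTors.openIdealFam 𝔛 h) M n s := fun W' g a ha => by
  obtain ⟨S, hS, hS'⟩ := exists_cover_affine (𝔛 := 𝔛) W'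
  refine eq_zero_of_locally M hS _ fun V g' hg' => ?_
  obtain ⟨T, hVT, hTW', hT⟩ := hS' g' hg'
  let p : T ⟶ W' := homOfLE hTW'
  have hle : RingHom.ker (pr h n T) ≤ Ideal.torsionOf (Rg h T) (sect M T) (rs M (p ≫ g) s) := by
    rw [Groth.Agent.FFormal.ker_pr_eq_map h hN hT hW (p ≫ g).le, ← Groth.Agent.FFormal.ker_pr h hN hW n, ← hf,
      Ideal.map_le_iff_le_comap, Submodule.span_le]
    rintro _ ⟨j, rfl⟩
    exact (Ideal.mem_torsionOf_iff _ _).2 ((map_val_smul (F := M) (p ≫ g) (f j) s).symm.trans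
      ((congrArg (rs M (p ≫ g)) (hs j)).trans (map_zero _)))
  have h3 := (Ideal.mem_torsionOf_iff _ _).1 (hle ((FTors.openIdealFam 𝔛 h).map_mem n p ha))
  rw [Subsingleton.elim g' (homOfLE hVT ≫ p), map_val_comp]
  refine (congrArg (rs M (homOfLE hVT)) ?_).trans (map_zero _)
  refine (map_val_smul (F := M) p a _).trans ?_
  exact (congrArg (_ • ·) (map_val_comp p g s).symm).trans h3

include hN in
/-- The submodule killed by an open ideal of a quasi-coherent module is quasi-coherent. -/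
theorem isQuasicoherent_killed (n : ℕ) (M : FSch.ModF 𝔛 h)
    [SheafOfModules.IsQuasicoherent (R := ringSh (𝔛.Osh h)) M] :
    SheafOfModules.IsQuasicoherent (R := ringSh (𝔛.Osh h)) (killed n M) := by
  classical
  refine isQuasicoherent_of_cover fun U => ?_
  obtain ⟨S₁, hS₁, hS₁'⟩ := exists_cover_gPres M U
  refine exists_cover_bind (fun V _ => Nonempty (GPres (O := 𝔛.Osh h) (killed n M) V)) hS₁ fun V g hg => ?_
  obtain ⟨P₀⟩ := hS₁' g hg
  obtain ⟨S, hS, hS'⟩ := exists_cover_affine (𝔛 := 𝔛) V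
  refine ⟨S, hS, fun V' g' hg' => ?_⟩
  obtain ⟨W, hVW, hWV, hW⟩ := hS' g' hg'
  haveI := Groth.Agent.FFormal.isNoetherianRing h hN hW
  let P := P₀.restrict (homOfLE hWV)
  obtain ⟨r, f, hf⟩ := Submodule.fg_iff_exists_fin_generating_family.1
    (IsNoetherian.noetherian (RingHom.ker (pr h n W)))
  let I' := {b : P.I →₀ Rg h W // ∀ j, f j • combS P.s (𝟙 W) b = 0}
  choose y hy using fun b : I' => exists_killed (killedBy_of_gens hN hW f hf _ b.2)
  refine (nonempty_gPres_sub hN (killedι n M) hW P y ?_ (fun b => b.1) fun b => (hy b).symm).map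
    fun R => R.restrict (homOfLE hVW)
  intro T a x
  obtain ⟨S₂, hS₂, hS₂'⟩ := P.sgen a (appS (killedι n M) T x)
  refine exists_cover_bind (fun V g => ∃ c : I' →₀ Rg h V, combS y (g ≫ a) c = rs (killed n M) g x) hS₂
    fun T₁ g₁ hg₁ => ?_
  obtain ⟨c, hc⟩ := hS₂' g₁ hg₁
  obtain ⟨m, emb, hcc⟩ := exists_fin_support c
  obtain ⟨q, e, he, hsol⟩ := exists_rel_gens_gPres hN hW P (fun (j : Fin r) (i : Fin m) => Finsupp.single (emb i) (f j))
  have hb : ∀ l j, f j • combS P.s (𝟙 W) (∑ i, Finsupp.single (emb i) (e l i)) = 0 := fun l j => by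
    refine Eq.trans ?_ (he l j)
    rw [← map_smul, Finset.smul_sum]
    refine congrArg (combS P.s (𝟙 W)) (Finset.sum_congr rfl fun i _ => ?_)
    rw [Finsupp.smul_single, Finsupp.smul_single, smul_eq_mul, smul_eq_mul, mul_comm]
  obtain ⟨S₃, hS₃, hS₃'⟩ := hsol (g₁ ≫ a) (fun i => c (emb i)) fun j => by
    have hk : rsR h (g₁ ≫ a).le (f j) • combS P.s (g₁ ≫ a) c = 0 := by
      rw [hc, ← appS_res]
      refine Eq.trans ?_ ((congrArg (appS (killedι n M) T₁)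
        ((killedBy_killed x) g₁ _ ((FTors.openIdealFam 𝔛 h).map_mem n (g₁ ≫ a)
          (show f j ∈ RingHom.ker (pr h n W) from hf.le (Submodule.subset_span ⟨j, rfl⟩))))).trans (map_zero _))
      exact (map_smul _ _ _).symm
    refine Eq.trans ?_ hk
    conv_rhs => rw [hcc]
    rw [← map_smul, Finset.smul_sum]
    refine congrArg (combS P.s (g₁ ≫ a)) (Finset.sum_congr rfl fun i _ => ?_)
    rw [mR, Finsupp.mapRange_single, Finsupp.smul_single, Finsupp.smul_single, smul_eq_mul, smul_eq_mul, mul_comm]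
    rfl
  refine ⟨S₃, hS₃, fun T₂ g₂ hg₂ => ?_⟩
  obtain ⟨d, hd⟩ := hS₃' g₂ hg₂
  refine ⟨∑ l, Finsupp.single (⟨_, hb l⟩ : I') (d l), appS_injective (killedι n M) T₂ ?_⟩
  rw [combS_embDomain, appS_sum_smul, appS_res, map_val_comp g₂ g₁, ← hc, combS_res]
  conv_rhs => rw [hcc]
  simp only [appS_res, hy]
  simp only [Finsupp.mapRange_finsetSum, Finsupp.mapRange_single, map_sum, combS_single, combS_res,
    Category.comp_id, Finset.smul_sum, smul_smul, Category.assoc]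
  rw [Finset.sum_comm]
  refine Finset.sum_congr rfl fun i _ => ?_
  refine Eq.trans (Finset.sum_congr rfl fun l _ => ?_)
    ((Finset.sum_smul).symm.trans (congrArg (· • rs M (g₂ ≫ g₁ ≫ a) (P.s (emb i))) (hd i).symm))
  refine (congrArg (d l • ·) ((map_val_smul (F := M) _ (e l i) _).trans (congrArg (_ • ·) ?_))).trans (mul_smul _ _ _).symm
  exact congrArg (rs M (g₂ ≫ g₁ ≫ a)) (rs_id _ _ _)

include hN in
/-- A quasi-coherent module killed by an open ideal comes from its level. -/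
theorem isIso_unit_killed (n : ℕ) (K : FSch.ModF 𝔛 h) [SheafOfModules.IsQuasicoherent (R := ringSh (𝔛.Osh h)) K]
    (hK : ∀ (U : (𝔛.X 0).Opens) (x : sect K U), FTors.KilledBy (FTors.openIdealFam 𝔛 h) K n x) :
    IsIso ((FSch.levelMor 𝔛 h n).adj.unit.app K) := by
  let f := FSch.levelMor 𝔛 h n
  have : Mono (f.adj.unit.app K) := mono_of_appS_injective _ fun U x hx => by
    obtain ⟨S₁, hS₁, hS₁'⟩ := exists_cover_gPres K U
    refine eq_zero_of_locally K hS₁ x fun V g hg => ?_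
    obtain ⟨P⟩ := hS₁' g hg
    obtain ⟨S₂, hS₂, hS₂'⟩ := P.sgen (𝟙 V) (rs K g x)
    refine eq_zero_of_locally K hS₂ _ fun V₂ g₂ hg₂ => ?_
    obtain ⟨c, hc⟩ := hS₂' g₂ hg₂
    have h0 : combS (fun i => etaS f K V (P.s i)) (𝟙 (f.fn.obj V₂) ≫ f.fn.map (g₂ ≫ 𝟙 V))
        (plV f (𝟙 (f.fn.obj V₂)) c) = 0 := by
      rw [← genVal_combS, hc]
      refine (congrArg (rs (f.pull.obj K) (𝟙 _)) ?_).trans (map_zero _)
      show appS (f.adj.unit.app K) V₂ (rs K g₂ (rs K g x)) = 0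
      exact (appS_res _ g₂ _).trans ((congrArg _ ((appS_res _ g x).trans ((congrArg _ hx).trans (map_zero _)))).trans
        (map_zero _))
    obtain ⟨R, hR, hR'⟩ := exists_relation f P.sgen _ _ h0
    let S₃ : Sieve V₂ :=
      { arrows := fun W _ => ∃ W₀ : (𝔛.X 0).Opens, W ≤ W₀ ∧ IsAffineOpen W₀ ∧ W₀ ≤ V₂ ∧
          ∃ (T : (𝔛.X n).Opens) (t : T ⟶ f.fn.obj V₂), R t ∧ 𝔛.lvU h n W₀ ≤ T
        downward_closed := fun {W W'} _ ⟨W₀, h1, h2, h3, h4⟩ g' => ⟨W₀, g'.le.trans h1, h2, h3, h4⟩ }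
    have hS₃ : S₃ ∈ Opens.grothendieckTopology (𝔛.X 0) V₂ := fun p hp => by
      obtain ⟨T, t, ht, hpT⟩ := hR _ (toX_mem_lvU n hp)
      obtain ⟨W₀, hW₀, hpW, hWV, hWT⟩ := exists_nhd_level n T hp hpT
      exact ⟨W₀, homOfLE hWV, ⟨W₀, le_rfl, hW₀, hWV, T, t, ht, hWT⟩, hpW⟩
    refine eq_zero_of_locally K hS₃ _ fun W g₃ hg₃ => ?_
    obtain ⟨W₀, hWW₀, hW₀, hW₀V, T, t, ht, hWT⟩ := hg₃
    obtain ⟨V', q, b, N, β, e, -, hβ, hce⟩ := hR' t ht
    have hW₀V' : W₀ ≤ V' := le_of_lvU_le n (hWT.trans b.le)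
    let l : 𝔛.lvU h n W₀ ⟶ T := homOfLE hWT
    choose e₀ he₀ using fun j => Groth.Agent.FFormal.pr_surjective h hN hW₀ n ((((𝔛.X n).sheaf).obj.map l.op).hom (e j))
    let c₀ : P.I →₀ Rg h W₀ := mR (homOfLE hW₀V) c - ∑ j, e₀ j • mR (homOfLE hW₀V') (β j)
    have hc₀ : ∀ i, pr h n W₀ (c₀ i) = 0 := fun i => by
      have h1 := congrArg (fun v => (((𝔛.X n).sheaf).obj.map l.op).hom (v i)) hce
      simp only [plV, Finsupp.mapRange_apply, Finsupp.finsetSum_apply, Finsupp.smul_apply, smul_eq_mul, map_sum,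
        map_mul] at h1
      simp only [c₀, Finsupp.sub_apply, Finsupp.finsetSum_apply, Finsupp.smul_apply, Finsupp.mapRange_apply,
        smul_eq_mul, map_sub, map_sum, map_mul, he₀, sub_eq_zero]
      refine Eq.trans ?_ (h1.trans (Finset.sum_congr rfl fun j _ => congrArg (_ * ·) ?_))
      · refine (Groth.Agent.FFormal.pr_rsR h n hW₀V (c i)).trans ?_
        refine Eq.trans ?_ ((congrArg (((𝔛.X n).sheaf).obj.map l.op).hom (PullFlat.pl_res (f := f) _ t _)).trans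
          (PullFlat.pl_res (f := f) _ l _)).symm
        rfl
      · refine (PullFlat.pl_res (f := f) _ l _).trans ?_
        exact (Groth.Agent.FFormal.pr_rsR h n hW₀V' (β j i)).symm
    rw [Subsingleton.elim g₃ (homOfLE hWW₀ ≫ homOfLE hW₀V), map_val_comp]
    refine (congrArg (rs K (homOfLE hWW₀)) ?_).trans (map_zero _)
    rw [← hc, combS_res]
    have h2 : combS P.s (homOfLE hW₀V ≫ g₂ ≫ 𝟙 V) c₀ = 0 := by
      rw [combS, Finsupp.linearCombination_apply]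
      refine Finset.sum_eq_zero fun i _ => ?_
      exact hK V (P.s i) _ _ (RingHom.mem_ker.2 (hc₀ i))
    refine Eq.trans ?_ h2
    rw [map_sub, map_sum, eq_comm, sub_eq_self]
    refine Finset.sum_eq_zero fun j _ => ?_
    rw [map_smul, Subsingleton.elim (homOfLE hW₀V ≫ g₂ ≫ 𝟙 V) (homOfLE hW₀V' ≫ q), ← combS_res, hβ, map_zero,
      smul_zero]
  have : Epi (f.adj.unit.app K) := SitePull.epi_of_locally_surjective _ fun U y => by
    obtain ⟨S₁, hS₁, hS₁'⟩ := exists_cover_gPres K U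
    refine exists_cover_bind (fun V g => ∃ x, appS (f.adj.unit.app K) V x = rs _ g y) hS₁ fun V g hg => ?_
    obtain ⟨P⟩ := hS₁' g hg
    let yV : sect (f.pull.obj K) (f.fn.obj V) := rs (f.pull.obj K) (f.fn.map g) y
    obtain ⟨R, hR, hR'⟩ := isGen_pull f P.sgen (𝟙 (f.fn.obj V)) yV
    refine ⟨{ arrows := fun W _ => ∃ W₀ : (𝔛.X 0).Opens, W ≤ W₀ ∧ IsAffineOpen W₀ ∧ W₀ ≤ V ∧
                ∃ (T : (𝔛.X n).Opens) (t : T ⟶ f.fn.obj V), R t ∧ 𝔛.lvU h n W₀ ≤ T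
              downward_closed := fun {W W'} _ ⟨W₀, h1, h2, h3, h4⟩ g' => ⟨W₀, g'.le.trans h1, h2, h3, h4⟩ },
      fun p hp => ?_, fun W g₃ hg₃ => ?_⟩
    · obtain ⟨T, t, ht, hpT⟩ := hR _ (toX_mem_lvU n hp)
      obtain ⟨W₀, hW₀, hpW, hWV, hWT⟩ := exists_nhd_level n T hp hpT
      exact ⟨W₀, homOfLE hWV, ⟨W₀, le_rfl, hW₀, hWV, T, t, ht, hWT⟩, hpW⟩
    obtain ⟨W₀, hWW₀, hW₀, hW₀V, T, t, ht, hWT⟩ := hg₃
    obtain ⟨c, hc⟩ := hR' t ht
    let l : 𝔛.lvU h n W₀ ⟶ T := homOfLE hWT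
    choose c₀ hc₀ using fun i => Groth.Agent.FFormal.pr_surjective h hN hW₀ n ((((𝔛.X n).sheaf).obj.map l.op).hom (c i))
    let x₀ : sect K W₀ := ∑ i ∈ c.support, c₀ i • rs K (homOfLE hW₀V) (P.s i)
    have hx₀ : appS (f.adj.unit.app K) W₀ x₀ = rs ((f.push.obj (f.pull.obj K))) (homOfLE hW₀V ≫ g) y := by
      have h1 := congrArg (rs (f.pull.obj K) l) hc
      rw [combS_res] at h1
      have h2 : rs (f.pull.obj K) l (rs (f.pull.obj K) t yV) = rs (f.pull.obj K) (l ≫ t ≫ f.fn.map g) y :=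
        ((map_val_comp _ _ _).trans (congrArg (rs (f.pull.obj K) l) (map_val_comp _ _ _))).symm
      refine Eq.trans ?_ (h1.trans (h2.trans ?_))
      · have h3 : combS (fun i => etaS f K V (P.s i)) (l ≫ t ≫ 𝟙 (f.fn.obj V))
            (c.mapRange (((𝔛.X n).sheaf).obj.map l.op).hom (map_zero _)) =
            ∑ i ∈ c.support, (c.mapRange (((𝔛.X n).sheaf).obj.map l.op).hom (map_zero _)) i •
              rs (f.pull.obj K) (l ≫ t ≫ 𝟙 (f.fn.obj V)) (etaS f K V (P.s i)) :=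
          (Finsupp.linearCombination_apply _ _).trans (Finsupp.sum_of_support_subset _ Finsupp.support_mapRange
            (fun i r => r • rs (f.pull.obj K) (l ≫ t ≫ 𝟙 (f.fn.obj V)) (etaS f K V (P.s i))) fun i _ => zero_smul _ _)
        refine Eq.trans ?_ h3.symm
        refine (map_sum (appS (f.adj.unit.app K) W₀) _ _).trans (Finset.sum_congr rfl fun i _ => ?_)
        refine (map_smul (appS (f.adj.unit.app K) W₀) (c₀ i) _).trans ?_
        refine congrArg₂ (fun (r : (𝔛.X n).sheaf.obj.obj (op (𝔛.lvU h n W₀))) (m : sect (f.pull.obj K) (𝔛.lvU h n W₀)) => r • m)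
          ((hc₀ i).trans Finsupp.mapRange_apply.symm) ?_
        exact (appS_res (f.adj.unit.app K) _ _).trans
          (congrArg (fun z => rs (f.pull.obj K) z (etaS f K V (P.s i))) (Subsingleton.elim _ _))
      · exact congrArg (fun z => rs (f.pull.obj K) z y) (Subsingleton.elim _ _)
    refine ⟨rs K (homOfLE hWW₀) x₀, ?_⟩
    exact (appS_res _ _ _).trans ((congrArg (rs _ (homOfLE hWW₀)) hx₀).trans ((map_val_comp _ _ y).symm.trans
      (congrArg (fun z => rs (f.push.obj (f.pull.obj K)) z y) (Subsingleton.elim _ _))))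
  exact isIso_of_mono_of_epi _

include hN in
/-- The direct image of a module of finite type on a level is of finite type. -/
theorem isFiniteType_levelPush (n : ℕ) (G : (𝔛.X n).Modules) [SheafOfModules.IsFiniteType.{u} G] :
    SheafOfModules.IsFiniteType (R := ringSh (𝔛.Osh h)) ((FSch.levelMor 𝔛 h n).push.obj G) := by
  let f := FSch.levelMor 𝔛 h n
  refine isFiniteType_of_cover fun U => ?_
  obtain ⟨R, hR, hR'⟩ := exists_cover_locGen (O := (𝔛.X n).sheaf) G (f.fn.obj U)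
  refine ⟨⟨fun W _ => Nonempty (LocGen (f.push.obj G) W), fun {W W'} _ ⟨Q⟩ g' => ⟨Q.restrict g'⟩⟩, fun p hp => ?_,
    fun W g hg => hg⟩
  obtain ⟨T, t, ht, hpT⟩ := hR _ (toX_mem_lvU n hp)
  obtain ⟨W, hW, hpW, hWU, hWT⟩ := exists_nhd_level n T hp hpT
  obtain ⟨Q₀⟩ := hR' t ht
  let Q := Q₀.restrict (homOfLE hWT)
  refine ⟨W, homOfLE hWU, ⟨{ n := Q.n, s := Q.s, gen := fun {T'} a z => ?_ }⟩, hpW⟩
  obtain ⟨R₂, hR₂, hR₂'⟩ := Q.gen (f.fn.map a) z
  refine ⟨⟨fun W' g' => ∃ c : Fin Q.n → Rg h W', ∑ i, c i • rs (f.push.obj G) (g' ≫ a) (Q.s i) = rs (f.push.obj G) g' z,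
    fun {W₁ W₂} g₁ ⟨c, hc⟩ g₂ => ⟨fun i => rsR h g₂.le (c i), ?_⟩⟩, fun p' hp' => ?_, fun W' g' hg' => hg'⟩
  · have h1 := congrArg (rs (f.push.obj G) g₂) hc
    rw [rs_sum_smul] at h1
    simp only [← map_val_comp, Category.assoc] at h1 ⊢
    exact h1
  obtain ⟨T₂, t₂, ht₂, hpT₂⟩ := hR₂ _ (toX_mem_lvU n hp')
  obtain ⟨W', hW', hpW', hW'T, hW'T₂⟩ := exists_nhd_level n T₂ hp' hpT₂
  obtain ⟨c, hc⟩ := hR₂' t₂ ht₂
  let l : 𝔛.lvU h n W' ⟶ T₂ := homOfLE hW'T₂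
  choose c₀ hc₀ using fun i => Groth.Agent.FFormal.pr_surjective h hN hW' n ((((𝔛.X n).sheaf).obj.map l.op).hom (c i))
  refine ⟨W', homOfLE hW'T, ⟨c₀, ?_⟩, hpW'⟩
  have h1 := congrArg (rs (O := (𝔛.X n).sheaf) G l) hc
  rw [rs_sum_smul, ← map_val_comp] at h1
  refine Eq.trans ?_ (h1.trans (congrArg (fun z' => rs (O := (𝔛.X n).sheaf) G z' z) (Subsingleton.elim _ _)))
  refine Finset.sum_congr rfl fun i _ => ?_
  refine congrArg₂ (fun (r : (𝔛.X n).sheaf.obj.obj (op (𝔛.lvU h n W'))) (m : sect (O := (𝔛.X n).sheaf) (G : ModSite.Mod (𝔛.X n).sheaf) (𝔛.lvU h n W')) => r • m)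
    (hc₀ i) ?_
  exact Eq.trans (congrArg (fun z' => rs (O := (𝔛.X n).sheaf) G z' (Q.s i)) (Subsingleton.elim _ _)) (map_val_comp _ _ _)

end Groth.Agent.FTorsLib.QCT
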