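import Groth.Agent.FTorsLib.QCTPushLoc

/-!
# Quasi-coherence of direct images of quasi-coherent torsion modules
-/

set_option autoImplicit false
set_option linter.style.haveILetI false
set_option backward.isDefEq.respectTransparency.types false

universe u

open CategoryTheory CategoryTheory.Limits AlgebraicGeometry Opposite TopologicalSpace ModSite

namespace Groth.Agent.FTorsLib.QCTPush

open Groth.Agent.ModFlat (rs map_val_smul map_val_comp map_ring_comp)
open Groth.Agent.PullFlat (appS appS_res appS_comp appS_injective rs_id exists_cover_bind eq_zero_of_locally)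
open Groth.Agent.LocPres
open Groth.Agent.FFormal (Rg pr rsR rsR_rsR pr_rsR pr_surjective exists_cover_affine coeff_eq_of_combS_eq)
open Groth.Agent.FTorsLib.QCT

variable {𝔛 𝔜 : FSch.Sys.{u}} {h : 𝔛.IsFormal} {h' : 𝔜.IsFormal} (hN : 𝔛.IsLocNoethFormal)
  (hN' : 𝔜.IsLocNoethFormal) (f : 𝔛 ⟶ 𝔜)

section Generic

variable {N : FSch.ModF 𝔜 h'} (K : ℕ → ∀ U : (𝔜.X 0).Opens, sect N U → Prop)

include hN' in
theorem exists_inv (n : ℕ) {W V : (𝔜.X 0).Opens} (a : Rg h' W) (hVW : V ≤ W) (hV : IsAffineOpen V)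
    (e : 𝔜.lvU h' n V = (𝔜.X n).basicOpen (pr h' n W a)) :
    ∃ b : Rg h' V, pr h' n V (b * rsR h' hVW a) = 1 := by
  have hu : IsUnit (pr h' n V (rsR h' hVW a)) := by
    rw [pr_rsR]
    have h1 := ((𝔜.X n).toLocallyRingedSpace.toRingedSpace.isUnit_res_basicOpen (pr h' n W a)).map
      ((𝔜.X n).presheaf.map (homOfLE e.le).op).hom
    convert h1 using 1
    exact (Groth.Agent.QCoh.rres_rres ((𝔜.X n).basicOpen_le _) e.le _).symm
  obtain ⟨c, hc⟩ := hu.exists_left_inv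
  obtain ⟨b, rfl⟩ := pr_surjective h' hN' hV n c
  exact ⟨b, by rw [map_mul, hc]⟩

include hN' in
theorem exists_fraction (n : ℕ) {W V : (𝔜.X 0).Opens} (a : Rg h' W) (hVW : V ≤ W) (hW : IsAffineOpen W)
    (e : 𝔜.lvU h' n V = (𝔜.X n).basicOpen (pr h' n W a)) (d : Rg h' V) :
    ∃ (k : ℕ) (c : Rg h' W), pr h' n V (rsR h' hVW a ^ k * d) = pr h' n V (rsR h' hVW c) := by
  haveI := (Groth.Agent.FFormal.isAffineOpen_lvU h' n hW).isLocalization_basicOpen (pr h' n W a)
  obtain ⟨⟨c, ⟨_, k, rfl⟩⟩, hck⟩ := IsLocalization.surj (Submonoid.powers (pr h' n W a))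
    (((𝔜.X n).presheaf.map (homOfLE e.ge).op).hom (pr h' n V d))
  obtain ⟨c, rfl⟩ := pr_surjective h' hN' hW n c
  refine ⟨k, c, ?_⟩
  have h1 := congrArg ((𝔜.X n).presheaf.map (homOfLE e.le).op).hom hck
  rw [map_mul] at h1
  rw [map_mul, map_pow, pr_rsR, mul_comm]
  rw [pr_rsR h' n hVW c]
  refine Eq.trans ?_ (h1.trans (Groth.Agent.QCoh.rres_rres ((𝔜.X n).basicOpen_le _) e.le _))
  refine congrArg₂ (· * ·) ?_ ?_
  · exact ((Groth.Agent.QCoh.rres_rres e.ge e.le _).trans (Groth.Agent.QCoh.rres_self _ _)).symm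
  · refine Eq.trans ?_ (congrArg _ (map_pow _ _ _)).symm
    refine Eq.trans ?_ (map_pow _ _ _).symm
    exact congrArg (· ^ k) (Groth.Agent.QCoh.rres_rres ((𝔜.X n).basicOpen_le _) e.le _).symm

variable (hK : ∀ {n : ℕ} {U : (𝔜.X 0).Opens} {x : sect N U}, K n U x →
    FTors.KilledBy (FTors.openIdealFam 𝔜 h') N n x)
  (hKsum : ∀ {n m : ℕ} {U : (𝔜.X 0).Opens} (c : Fin m → Rg h' U) (x : Fin m → sect N U),
    (∀ i, K n U (x i)) → K n U (∑ i, c i • x i))
  (hloc : ∀ (n : ℕ) {W V : (𝔜.X 0).Opens} (hVW : V ≤ W) (a : Rg h' W),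
    𝔜.lvU h' n V = (𝔜.X n).basicOpen (pr h' n W a) →
    ∀ s : sect N W, K n W s → rs N (homOfLE hVW) s = 0 → ∃ k : ℕ, a ^ k • s = 0)

include hN' hK hKsum hloc in
theorem exists_rel {n m : ℕ} {W T : (𝔜.X 0).Opens} (hW : IsAffineOpen W) (hTW : T ≤ W) (x : Fin m → sect N W)
    (hx : ∀ i, K n W (x i)) (d : Fin m → Rg h' T) (hd : ∑ i, d i • rs N (homOfLE hTW) (x i) = 0)
    {y : 𝔜.X 0} (hy : y ∈ T) :
    ∃ (V : (𝔜.X 0).Opens) (hVT : V ≤ T) (q : ℕ) (e : Option (Fin m × Fin q) → Fin m → Rg h' W)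
      (c : Option (Fin m × Fin q) → Rg h' V), y ∈ V ∧ (∀ l, ∑ i, e l i • x i = 0) ∧
      ∀ i, rsR h' hVT (d i) = ∑ l, c l * rsR h' (hVT.trans hTW) (e l i) := by
  classical
  haveI := Groth.Agent.FFormal.isNoetherianRing h' hN' hW
  obtain ⟨r, V, hV, hyV, hVT, he⟩ := exists_basic (h' := h') hN' n hW hTW hy
  have hVW : V ≤ W := hVT.trans hTW
  obtain ⟨b, hb⟩ := exists_inv (h' := h') hN' n r hVW hV he
  choose k c hc using fun i => exists_fraction (h' := h') hN' n r hVW hW he (rsR h' hVT (d i))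
  let L := Finset.univ.sup k
  let c' : Fin m → Rg h' W := fun i => r ^ (L - k i) * c i
  have hc' : ∀ i, pr h' n V (rsR h' hVW r ^ L * rsR h' hVT (d i)) = pr h' n V (rsR h' hVW (c' i)) := fun i => by
    have hle : k i ≤ L := Finset.le_sup (Finset.mem_univ i)
    rw [← Nat.sub_add_cancel hle, pow_add, mul_assoc, map_mul, hc i, ← map_mul, map_mul (rsR h' hVW), map_pow]
  have hzero : rs N (homOfLE hVW) (∑ i, c' i • x i) = 0 := by
    have h0 := congrArg (rs N (homOfLE hVT)) hd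
    rw [map_zero, rs_sum_smul] at h0
    rw [rs_sum_smul]
    refine Eq.trans (Finset.sum_congr rfl fun i _ => ?_)
      ((Finset.smul_sum).symm.trans ((congrArg (rsR h' hVW r ^ L • ·) h0).trans (smul_zero _)))
    rw [← map_val_comp, Subsingleton.elim (homOfLE hVT ≫ homOfLE hTW) (homOfLE hVW)]
    refine Eq.trans ?_ (smul_smul _ _ _).symm
    rw [← sub_eq_zero]
    refine (sub_smul _ _ _).symm.trans (hK (hx i) (homOfLE hVW) _ ?_)
    show _ ∈ RingHom.ker (pr h' n V)
    rw [RingHom.mem_ker, map_sub]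
    exact sub_eq_zero.2 (hc' i).symm
  obtain ⟨l, hl⟩ := hloc n hVW r he _ (hKsum c' x hx) hzero
  obtain ⟨q, g, hg⟩ := Submodule.fg_iff_exists_fin_generating_family.1
    (IsNoetherian.noetherian (RingHom.ker (pr h' n W)))
  have hrem : ∀ i, ∃ w : Fin q → Rg h' V,
      rsR h' hVT (d i) - b ^ (l + L) * rsR h' hVW (r ^ l * c' i) = ∑ j, w j * rsR h' hVW (g j) := fun i => by
    have h1 : rsR h' hVT (d i) - b ^ (l + L) * rsR h' hVW (r ^ l * c' i) ∈ RingHom.ker (pr h' n V) := by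
      rw [map_mul] at hb
      rw [RingHom.mem_ker, map_sub, sub_eq_zero, map_mul, map_mul (rsR h' hVW), map_mul, ← hc']
      simp only [map_mul, map_pow]
      calc _ = (pr h' n V b * pr h' n V (rsR h' hVW r)) ^ (l + L) * pr h' n V (rsR h' hVT (d i)) := by
            rw [hb, one_pow, one_mul]
        _ = _ := by ring
    rw [Groth.Agent.FFormal.ker_pr_eq_map h' hN' hV hW hVW, ← Groth.Agent.FFormal.ker_pr h' hN' hW n, ← hg,
      Ideal.submodule_span_eq, Ideal.map_span, ← Set.range_comp, Ideal.mem_span_range_iff_exists_fun] at h1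
    obtain ⟨w, hw⟩ := h1
    exact ⟨w, hw.symm⟩
  choose w hw using hrem
  refine ⟨V, hVT, q, fun o i => o.elim (r ^ l * c' i) (fun ij => if ij.1 = i then g ij.2 else 0),
    fun o => o.elim (b ^ (l + L)) (fun ij => w ij.1 ij.2), hyV, fun o => ?_, fun i => ?_⟩
  · rcases o with _ | ⟨i₀, j⟩
    · simp only [Option.elim_none]
      refine Eq.trans ?_ hl
      rw [Finset.smul_sum]
      exact Finset.sum_congr rfl fun i _ => (smul_smul _ _ _).symm
    · simp only [Option.elim_some, ite_smul, zero_smul, Finset.sum_ite_eq, Finset.mem_univ, if_true]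
      have h2 := hK (hx i₀) (𝟙 W) (g j)
        (show g j ∈ RingHom.ker (pr h' n W) from hg.le (Submodule.subset_span ⟨j, rfl⟩))
      rwa [FTors.res_id] at h2
  · rw [Fintype.sum_option, Fintype.sum_prod_type, sub_eq_iff_eq_add'.1 (hw i)]
    simp only [Option.elim_none, Option.elim_some]
    refine congrArg (fun u => b ^ (l + L) * rsR h' hVW (r ^ l * c' i) + u) ?_
    rw [Finset.sum_eq_single i (fun i' _ hne => Finset.sum_eq_zero fun j _ => by rw [if_neg hne, map_zero, mul_zero])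
      fun hni => absurd (Finset.mem_univ i) hni]
    simp

include hN' hK hKsum hloc in
theorem exists_gen (hkill : ∀ {m : ℕ} {U : (𝔜.X 0).Opens} (x : Fin m → sect N U), ∃ n, ∀ i, K n U (x i))
    {W T : (𝔜.X 0).Opens} (hW : IsAffineOpen W) (a : T ⟶ W) (d : sect N W →₀ Rg h' T)
    (hd : combS (fun x : sect N W => x) a d = 0) (y : 𝔜.X 0) (hy : y ∈ T) :
    ∃ (V : (𝔜.X 0).Opens) (g : V ⟶ T), (∃ c : {k : sect N W →₀ Rg h' W // combS (fun x : sect N W => x) (𝟙 W) k = 0} →₀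
        Rg h' V, combS (fun k : {k : sect N W →₀ Rg h' W // combS (fun x : sect N W => x) (𝟙 W) k = 0} =>
          combS (freeT (𝔜.Osh h') W (sect N W)) (𝟙 W) k.1) (g ≫ a) c =
          rs _ g (combS (freeT (𝔜.Osh h') W (sect N W)) a d)) ∧ y ∈ V := by
  classical
  let s : sect N W → sect N W := fun x => x
  let κ₀ := {k : sect N W →₀ Rg h' W // combS s (𝟙 W) k = 0}
  let t := freeT (𝔜.Osh h') W (sect N W)
  let z : κ₀ → sect (SheafOfModules.free (R := ringSh (𝔜.Osh h')) (sect N W) : Mod (𝔜.Osh h')) W :=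
    fun k => combS t (𝟙 W) k.1
  have hz : ∀ ⦃T : (𝔜.X 0).Opens⦄ (a : T ⟶ W) (k : κ₀), rs _ a (z k) = combS t a (mR a k.1) := fun T a k =>
    (combS_mR t a k.1).symm
  obtain ⟨m, emb, hdd⟩ := exists_fin_support (h := h') d
  let x : Fin m → sect N W := emb
  obtain ⟨n, hn⟩ := hkill (m := m) (U := W) x
  obtain ⟨V, hVT, q, e, c, hyV, he, hc⟩ := exists_rel (h' := h') hN' K hK hKsum hloc hW a.le x hn (fun i => d (emb i)) (by
    refine Eq.trans ?_ hd
    conv_rhs => rw [hdd]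
    exact (combS_embDomain s a emb _).symm) hy
  have hk : ∀ l, combS s (𝟙 W) (∑ i, Finsupp.single (emb i) (e l i)) = 0 := fun l => by
    rw [combS_embDomain]
    refine Eq.trans ?_ (he l)
    simp only [rs_id]
    rfl
  refine ⟨V, homOfLE hVT, ⟨∑ l, Finsupp.single (⟨_, hk l⟩ : κ₀) (c l), ?_⟩, hyV⟩
  show combS z (homOfLE hVT ≫ a) (∑ l, Finsupp.single (⟨_, hk l⟩ : κ₀) (c l)) = rs _ (homOfLE hVT) (combS t a d)
  rw [map_sum (combS z (homOfLE hVT ≫ a)), combS_res]
  refine Eq.trans (Finset.sum_congr rfl fun l _ =>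
    (combS_single z _ _ _).trans ((congrArg (c l • ·) (hz _ _)).trans (map_smul _ _ _).symm)) ?_
  rw [← map_sum]
  refine congrArg (combS t (homOfLE hVT ≫ a)) ?_
  conv_rhs => rw [hdd]
  ext p
  simp only [mR, Finsupp.finsetSum_apply, Finsupp.smul_apply, Finsupp.mapRange_apply, Finsupp.single_apply, map_sum,
    apply_ite ((𝔜.Osh h').obj.map (homOfLE hVT ≫ a).op).hom, apply_ite ((𝔜.Osh h').obj.map (homOfLE hVT).op).hom,
    map_zero, smul_eq_mul, Finset.mul_sum, mul_ite, mul_zero]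
  rw [Finset.sum_comm]
  refine Finset.sum_congr rfl fun i _ => ?_
  split_ifs with hp
  · exact (hc i).symm
  · exact Finset.sum_const_zero

set_option maxHeartbeats 800000 in
include hN' hK hKsum hloc in
/-- A torsion module whose sections localize on affine opens is quasi-coherent. -/
theorem isQuasicoherent_of_localizing
    (hKres : ∀ {n : ℕ} {U V : (𝔜.X 0).Opens} (g : V ⟶ U) {x : sect N U}, K n U x → K n V (rs N g x))
    (hkill : ∀ {m : ℕ} {U : (𝔜.X 0).Opens} (x : Fin m → sect N U), ∃ n, ∀ i, K n U (x i))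
    (hloc' : ∀ (n : ℕ) {W V : (𝔜.X 0).Opens} (hVW : V ≤ W) (a : Rg h' W),
      𝔜.lvU h' n V = (𝔜.X n).basicOpen (pr h' n W a) →
      ∀ x : sect N V, K n V x → ∃ (k : ℕ) (s : sect N W), rs N (homOfLE hVW) s = rsR h' hVW a ^ k • x) :
    SheafOfModules.IsQuasicoherent (R := ringSh (𝔜.Osh h')) N := by
  classical
  refine isQuasicoherent_of_cover fun U => ?_
  obtain ⟨R₀, hR₀, hR₀'⟩ := exists_cover_affine (𝔛 := 𝔜) U
  refine ⟨R₀, hR₀, fun V₀ g₀ hg₀ => ?_⟩
  obtain ⟨W, hVW, -, hW⟩ := hR₀' g₀ hg₀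
  let s : sect N W → sect N W := fun x => x
  let κ₀ := {k : sect N W →₀ Rg h' W // combS s (𝟙 W) k = 0}
  let t := freeT (𝔜.Osh h') W (sect N W)
  let z : κ₀ → sect (SheafOfModules.free (R := ringSh (𝔜.Osh h')) (sect N W) : Mod (𝔜.Osh h')) W :=
    fun k => combS t (𝟙 W) k.1
  have hz : ∀ ⦃T : (𝔜.X 0).Opens⦄ (a : T ⟶ W) (k : κ₀), rs _ a (z k) = combS t a (mR a k.1) := fun T a k =>
    (combS_mR t a k.1).symm
  refine (Nonempty.intro (GPres.mk (O := 𝔜.Osh h') (F := N) (X := W) _ _ κ₀ t s z isGen_freeT isIndep_freeT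
    (fun T a x => ?_) (fun T a d k hd => ?_) fun T a d hd => ?_)).map fun G => G.restrict (homOfLE hVW)
  · refine ⟨⟨fun V g => ∃ c : sect N W →₀ Rg h' V, combS s (g ≫ a) c = rs N g x,
      fun {V V'} g ⟨c, hc⟩ g' => ⟨mR g' c, by rw [Category.assoc, mR, ← combS_res, hc, ← map_val_comp]⟩⟩,
      fun y hy => ?_, fun V g hg => hg⟩
    obtain ⟨n, hn⟩ := hkill fun _ : Fin 1 => x
    replace hn := hn 0
    obtain ⟨r, V, hV, hyV, hVT, e⟩ := exists_basic (h' := h') hN' n hW a.le hy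
    obtain ⟨k, s₀, h1⟩ := hloc' n (hVT.trans a.le) r e _ (hKres (homOfLE hVT) hn)
    obtain ⟨b, hb⟩ := exists_inv (h' := h') hN' n r (hVT.trans a.le) hV e
    refine ⟨V, homOfLE hVT, ⟨Finsupp.single s₀ (b ^ k), ?_⟩, hyV⟩
    rw [combS_single, Subsingleton.elim (homOfLE hVT ≫ a) (homOfLE (hVT.trans a.le))]
    refine (congrArg (b ^ k • ·) h1).trans ?_
    rw [smul_smul, ← mul_pow]
    have h2 := hK hn (homOfLE hVT) ((b * rsR h' (hVT.trans a.le) r) ^ k - 1)
      (show _ ∈ RingHom.ker (pr h' n V) by rw [RingHom.mem_ker, map_sub, map_pow, hb, one_pow, map_one, sub_self])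
    rw [sub_smul, one_smul, sub_eq_zero] at h2
    exact h2
  · rw [hz] at hd
    rw [coeff_eq_of_combS_eq isIndep_freeT a hd, combS_mR, k.2, map_zero]
  · refine ⟨⟨fun V g => ∃ c : κ₀ →₀ Rg h' V, combS z (g ≫ a) c = rs _ g (combS t a d),
      fun {V V'} g ⟨c, hc⟩ g' => ⟨mR g' c, by rw [Category.assoc, mR, ← combS_res, hc, ← map_val_comp]⟩⟩,
      fun y hy => ?_, fun V g hg => hg⟩
    exact exists_gen (h' := h') hN' K hK hKsum hloc hkill hW a d hd y hy

end Generic

include hN hN' in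
/-- Direct images of quasi-coherent torsion modules are quasi-coherent. -/
theorem isQuasicoherent_pushF [CompactSpace (𝔛.X 0)] {M : FSch.ModF 𝔛 h} (hM : FTors.IsQCT 𝔛 h M) :
    SheafOfModules.IsQuasicoherent (R := ringSh (𝔜.Osh h')) ((FSch.pushF f h h').obj M) := by
  haveI := hM.2
  refine isQuasicoherent_of_localizing (h' := h') hN'
    (fun n U x => FTors.KilledBy (FTors.openIdealFam 𝔛 h) M n (show sect M (pre f U) from x))
    (fun hx => killedBy_push f _ hx) (fun {n m U} c x hx => ?_) (fun n W V hVW a e s hs h0 => ?_)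
    (fun g x hx => hx.res ((Opens.map ((f : FSch.Hom 𝔛 𝔜).app 0).base).map g))
    (fun {m U} x => exists_killedBy_fin hN hM.1 (U := pre f U) x) fun n W V hVW a e x hx => ?_
  · exact killedBy_sum (fun i => fsh h h' f U (c i)) (fun i => (show sect M (pre f U) from x i)) hx
  · obtain ⟨k, hk⟩ := (localizing hN n (fun z hz => hVW hz : pre f V ≤ pre f W) (fsh h h' f W a)
      (lvU_pre_basic f n a e) (M := M)).2 s hs h0
    refine ⟨k, Eq.trans ?_ hk⟩
    exact congrArg (fun q : Rg h (pre f W) => q • (show sect M (pre f W) from s)) (map_pow (fsh h h' f W) a k)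
  · have hVW' : pre f V ≤ pre f W := fun z hz => hVW hz
    have hnat : rsR h hVW' (fsh h h' f W a) = fsh h h' f V (rsR h' hVW a) :=
      (ConcreteCategory.congr_hom ((FSch.Hom.sharp f h h').hom.naturality (homOfLE hVW).op) a).symm
    obtain ⟨k, s, hs⟩ := (localizing hN n hVW' (fsh h h' f W a) (lvU_pre_basic f n a e) (M := M)).1 x hx
    refine ⟨k, s, hs.trans ?_⟩
    exact congrArg (fun q : Rg h (pre f V) => q • (show sect M (pre f V) from x))
      ((congrArg (· ^ k) hnat).trans (map_pow (fsh h h' f V) _ k).symm)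

end Groth.Agent.FTorsLib.QCTPush
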