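import Groth.Agent.FTorsLib.QCTPush
import Groth.Agent.FlatMor.Thickening
import Groth.Agent.Thick.Topo
import Groth.Agent.S0036
import Groth.Agent.ModShf.GrothAb
import Groth.Agent.QCoh.FiniteType

/-!
# Coherence of direct images along pseudo-proper morphisms
-/

set_option autoImplicit false
set_option linter.style.haveILetI false
set_option backward.isDefEq.respectTransparency.types false

universe u

open CategoryTheory CategoryTheory.Limits AlgebraicGeometry Opposite TopologicalSpace ModSite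

namespace Groth.Agent.FTorsLib.QCTPush

open Groth.Agent.ModFlat (rs map_val_smul map_val_comp map_ring_comp)
open Groth.Agent.PullFlat (appS appS_res appS_comp appS_injective rs_id exists_cover_bind eq_zero_of_locally)
open Groth.Agent.LocPres
open Groth.Agent.FFormal (Rg pr rsR pr_rsR pr_surjective exists_cover_affine)
open Groth.Agent.FTorsLib.QCT

variable {𝔛 𝔜 : FSch.Sys.{u}} {h : 𝔛.IsFormal} {h' : 𝔜.IsFormal} (hN : 𝔛.IsLocNoethFormal)
  (hN' : 𝔜.IsLocNoethFormal) (f : 𝔛 ⟶ 𝔜)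

include hN hN' in
theorem isProper_app (hp : IsProper ((f : FSch.Hom 𝔛 𝔜).app 0)) (n : ℕ) : IsProper ((f : FSch.Hom 𝔛 𝔜).app n) := by
  haveI := hN.2.2 n
  haveI : IsClosedImmersion (𝔛.toX n) := 𝔛.toX_isClosedImmersion hN.1 n
  haveI : IsClosedImmersion (𝔜.toX n) := 𝔜.toX_isClosedImmersion hN'.1 n
  haveI : Surjective (𝔛.toX n) := ⟨𝔛.toX_surjective hN.1 n⟩
  haveI := hp
  haveI : IsProper (𝔛.toX n ≫ (f : FSch.Hom 𝔛 𝔜).app n) := by
    rw [FSch.Hom.toX_comm f n]; infer_instance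
  haveI : IsSeparated ((f : FSch.Hom 𝔛 𝔜).app n) :=
    FlatMor.Thickening.isSeparated_of_comp_surjective (𝔛.toX n) _
  haveI : LocallyOfFiniteType ((f : FSch.Hom 𝔛 𝔜).app n) :=
    FlatMor.Thickening.locallyOfFiniteType_of_comp (𝔛.toX n) _ (fun U => by
      haveI : IsNoetherianRing Γ(𝔛.X n, U.1) := IsLocallyNoetherian.component_noetherian U
      obtain ⟨k, hk⟩ := IsNoetherianRing.isNilpotent_nilradical Γ(𝔛.X n, U.1)
      refine ⟨k, le_bot_iff.1 ((Ideal.pow_right_mono ?_ k).trans hk.le)⟩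
      intro x hx
      rw [← FlatMor.Thickening.ker_app_eq] at hx
      rw [mem_nilradical, Scheme.isNilpotent_iff_basicOpen_eq_bot_of_isCompact U.2.isCompact, eq_bot_iff]
      intro y hy
      obtain ⟨y₀, rfl⟩ := (𝔛.toX n).surjective y
      have h1 : y₀ ∈ 𝔛.toX n ⁻¹ᵁ (𝔛.X n).basicOpen x := hy
      rw [Scheme.preimage_basicOpen, show (𝔛.toX n).app U.1 x = 0 from hx, Scheme.basicOpen_zero] at h1
      exact h1.elim) fun U => by
      haveI : IsNoetherianRing Γ(𝔛.X n, U.1) := IsLocallyNoetherian.component_noetherian U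
      exact IsNoetherian.noetherian _
  haveI : UniversallyClosed ((f : FSch.Hom 𝔛 𝔜).app n) :=
    UniversallyClosed.of_comp_surjective (𝔛.toX n) _
  exact {}

include hN in
/-- A coherent torsion module on a Noetherian formal scheme is killed by one open ideal. -/
theorem exists_killedBy_all [CompactSpace (𝔛.X 0)] {M : FSch.ModF 𝔛 h} (hM : FTors.IsTorsF 𝔛 h M)
    [SheafOfModules.IsFiniteType (R := ringSh (𝔛.Osh h)) M] :
    ∃ n, ∀ (U : (𝔛.X 0).Opens) (x : sect M U), FTors.KilledBy (FTors.openIdealFam 𝔛 h) M n x := by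
  classical
  obtain ⟨S, hS, hS'⟩ := exists_cover_locGen (O := 𝔛.Osh h) M ⊤
  choose V g hg hx using fun x : 𝔛.X 0 => hS x (Opens.mem_top x)
  let G := fun x => Classical.choice (hS' (g x) (hg x))
  choose n hn using fun x => exists_killedBy_fin hN hM (G x).s
  obtain ⟨t, ht⟩ := isCompact_univ.elim_finite_subcover (fun x : 𝔛.X 0 => (V x : Set (𝔛.X 0))) (fun x => (V x).2)
    (fun y _ => Set.mem_iUnion.2 ⟨y, hx y⟩)
  refine ⟨t.sup n, fun U x => ?_⟩
  refine killedBy_of_cover (S := ⟨fun P _ => ∃ y ∈ t, P ≤ V y,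
    fun {P Q} g' ⟨y, hy, hP⟩ k => ⟨y, hy, k.le.trans hP⟩⟩) ?_ fun P gP ⟨y, hy, hP⟩ => ?_
  · intro p hp
    obtain ⟨y, hy, hpy⟩ := Set.mem_iUnion₂.1 (ht (Set.mem_univ p))
    exact ⟨U ⊓ V y, homOfLE inf_le_left, ⟨y, hy, inf_le_right⟩, hp, hpy⟩
  · obtain ⟨R, hR, hR'⟩ := (G y).gen (homOfLE hP) (rs M gP x)
    refine killedBy_of_cover hR fun Q gQ hQ => ?_
    obtain ⟨c, hc⟩ := hR' gQ hQ
    rw [← hc]
    exact killedBy_sum _ _ fun i => ((hn y i).mono (Finset.le_sup hy)).res _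

include hN hN' in
/-- Direct images of coherent torsion modules along pseudo-proper morphisms are coherent. -/
theorem isCohF_pushF [CompactSpace (𝔛.X 0)] {M : FSch.ModF 𝔛 h} (hM : FTors.IsQCT 𝔛 h M)
    (hc : FSch.IsCohF 𝔛 h M) (hp : IsProper ((f : FSch.Hom 𝔛 𝔜).app 0)) :
    FSch.IsCohF 𝔜 h' ((FSch.pushF f h h').obj M) := by
  classical
  haveI := hM.2
  haveI : SheafOfModules.IsFinitePresentation (R := ringSh (𝔛.Osh h)) M := hc
  haveI : SheafOfModules.IsFiniteType (R := ringSh (𝔛.Osh h)) M := inferInstance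
  haveI := isQuasicoherent_pushF hN hN' f hM (h' := h')
  obtain ⟨n, hn⟩ := exists_killedBy_all hN hM.1
  let F := FSch.levelMor 𝔛 h n
  haveI := isIso_unit_killed hN n M hn
  let η := F.adj.unit.app M
  let G : (𝔛.X n).Modules := F.pull.obj M
  haveI : SheafOfModules.IsQuasicoherent.{u} G := LocPres.isQuasicoherent_pull F M
  haveI : SheafOfModules.IsFiniteType.{u} G := LocPres.isFiniteType_pull F M
  haveI := isProper_app hN hN' f hp n
  haveI := hN'.2.2 n
  haveI : IsGrothendieckAbelian.{u} (𝔛.X n).Modules := ModShf.isGrothendieckAbelian _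
  let φ := (f : FSch.Hom 𝔛 𝔜).app n
  have hP : Coh.IsCoh ((Scheme.Modules.pushforward φ).obj G) :=
    CohDev.isCoh_of_iso ((Scheme.Modules.pushforward φ).rightDerivedZeroIsoSelf.app G)
      (Groth.Agent.S0036.result φ G ⟨inferInstance, inferInstance⟩ 0)
  haveI := hP.1
  haveI := hP.2
  let N := (FSch.pushF f h h').obj M
  haveI : SheafOfModules.IsFiniteType (R := ringSh (𝔜.Osh h')) N := by
    refine isFiniteType_of_cover fun U => ?_
    obtain ⟨R₀, hR₀, hR₀'⟩ := exists_cover_affine (𝔛 := 𝔜) U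
    refine ⟨R₀, hR₀, fun V₀ g₀ hg₀ => ?_⟩
    obtain ⟨W, hVW, -, hW⟩ := hR₀' g₀ hg₀
    have hfin := Groth.Agent.QCoh.finite_sections_of_isFiniteType ((Scheme.Modules.pushforward φ).obj G)
      (Groth.Agent.FFormal.isAffineOpen_lvU h' n hW)
    obtain ⟨m, w, hw⟩ := Module.Finite.exists_fin (R := Γ(𝔜.X n, 𝔜.lvU h' n W))
      (M := Γ((Scheme.Modules.pushforward φ).obj G, 𝔜.lvU h' n W))
    have e : φ ⁻¹ᵁ 𝔜.lvU h' n W = 𝔛.lvU h n (pre f W) := FSch.Hom.lvU_preimage f h h' n W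
    let s : Fin m → sect N W := fun i =>
      appS (inv η) (pre f W) (Groth.Agent.QCoh.res G e.ge (Groth.Agent.QCoh.unPush φ G (w i)))
    have hspan : ∀ x : sect N W, ∃ c : Fin m → Rg h' W, ∑ i, c i • s i = x := fun x => by
      obtain ⟨c, hc⟩ := (Submodule.mem_span_range_iff_exists_fun _).1 (hw.symm ▸ Submodule.mem_top :
        (show Γ((Scheme.Modules.pushforward φ).obj G, 𝔜.lvU h' n W) from
          Groth.Agent.QCoh.res G e.le (appS η (pre f W) (show sect M (pre f W) from x))) ∈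
            Submodule.span Γ(𝔜.X n, 𝔜.lvU h' n W) (Set.range w))
      choose c' hc' using fun i => pr_surjective h' hN' hW n (c i)
      refine ⟨c', appS_injective η (pre f W) ?_⟩
      have h1 := congrArg (fun z => Groth.Agent.QCoh.res G e.ge (Groth.Agent.QCoh.unPush φ G z)) hc
      refine Eq.trans ?_ (h1.trans ((Groth.Agent.QCoh.res_res G _ _ _).trans (Groth.Agent.QCoh.res_self G _ _)))
      change appS η (pre f W) (∑ i, fsh h h' f W (c' i) • (show sect M (pre f W) from s i)) = _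
      rw [map_sum]
      refine Eq.trans ?_ (map_sum (ConcreteCategory.hom (Groth.Agent.QCoh.res G e.ge)) (fun i => Groth.Agent.QCoh.unPush φ G (c i • w i))
        Finset.univ).symm
      refine Finset.sum_congr rfl fun i _ => ?_
      rw [map_smul, ← appS_comp, IsIso.inv_hom_id, Groth.Agent.QCoh.push_smul, Groth.Agent.QCoh.res_smul]
      refine congrArg₂ (fun (r : Γ(𝔛.X n, 𝔛.lvU h n (pre f W))) (z : Γ(G, 𝔛.lvU h n (pre f W))) => r • z) ?_ rfl
      change pr h n (pre f W) (fsh h h' f W (c' i)) = _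
      rw [pr_fsh, hc']
      rfl
    refine ⟨LocGen.restrict ({ n := m, s := s, gen := fun {T} a x => ?_ } : LocGen (O := 𝔜.Osh h') N W) (homOfLE hVW)⟩
    refine ⟨⟨fun V g => ∃ c : Fin m → Rg h' V, ∑ i, c i • rs N (g ≫ a) (s i) = rs N g x,
      fun {V V'} g ⟨c, hc⟩ g' => ⟨fun i => rsR h' g'.le (c i), ?_⟩⟩, fun y hy => ?_, fun V g hg => hg⟩
    · have h1 := congrArg (rs N g') hc
      rw [rs_sum_smul] at h1
      simp only [← map_val_comp, Category.assoc] at h1 ⊢
      exact h1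
    obtain ⟨r, V, hV, hyV, hVT, ee⟩ := exists_basic (h' := h') hN' n hW a.le hy
    have hVW' : pre f V ≤ pre f W := fun z hz => (hVT.trans a.le) hz
    obtain ⟨k, s₀, hs₀⟩ := (localizing hN n hVW' (fsh h h' f W r) (lvU_pre_basic f n r ee) (M := M)).1
      (rs M (homOfLE (fun z hz => hVT hz : pre f V ≤ pre f T)) (show sect M (pre f T) from x)) (hn _ _)
    have h1 : rs N (homOfLE hVT ≫ a) s₀ = rsR h' (hVT.trans a.le) r ^ k • rs N (homOfLE hVT) x := by
      refine hs₀.trans ?_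
      exact congrArg (fun q : Rg h (pre f V) => q • _)
        ((congrArg (· ^ k) (ConcreteCategory.congr_hom ((FSch.Hom.sharp f h h').hom.naturality
          (homOfLE (hVT.trans a.le)).op) r).symm).trans (map_pow (fsh h h' f V) _ k).symm)
    obtain ⟨b, hb⟩ := exists_inv (h' := h') hN' n r (hVT.trans a.le) hV ee
    obtain ⟨c, hc⟩ := hspan s₀
    refine ⟨V, homOfLE hVT, ⟨fun i => b ^ k * rsR h' (hVT.trans a.le) (c i), ?_⟩, hyV⟩
    simp only [mul_smul]
    rw [← Finset.smul_sum]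
    refine (congrArg (b ^ k • ·) (((rs_sum_smul (O := 𝔜.Osh h') _ _ _).symm.trans
      (congrArg (rs N (homOfLE hVT ≫ a)) hc)).trans h1)).trans ?_
    rw [smul_smul, ← mul_pow]
    have h2 := killedBy_push (h' := h') f (rs N (homOfLE hVT) x) (hn _ _) (𝟙 V)
      ((b * rsR h' (hVT.trans a.le) r) ^ k - 1)
      (show _ ∈ RingHom.ker (pr h' n V) by rw [RingHom.mem_ker, map_sub, map_pow, hb, one_pow, map_one, sub_self])
    rw [sub_smul, one_smul, sub_eq_zero, FTors.res_id] at h2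
    exact h2
  exact Groth.Agent.FFormal.isCohF_of_qcoh_of_ft hN' N

end Groth.Agent.FTorsLib.QCTPush
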