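import Groth.Agent.FTorsLib.QCTKilled
import Groth.Agent.FTorsLib.QCTColim
import Groth.Agent.QCoh.Qcqs

/-!
# Direct images of quasi-coherent torsion modules on Noetherian formal schemes
-/

set_option autoImplicit false
set_option linter.style.haveILetI false
set_option backward.isDefEq.respectTransparency.types false

universe u

open CategoryTheory CategoryTheory.Limits AlgebraicGeometry Opposite TopologicalSpace ModSite

namespace Groth.Agent.FTorsLib.QCTPush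

open Groth.Agent.ModFlat (rs map_val_smul map_val_comp map_ring_comp)
open Groth.Agent.PullFlat (appS appS_res appS_comp appS_injective rs_id exists_cover_bind eq_zero_of_locally)
open Groth.Agent.LocPres
open Groth.Agent.FFormal (Rg pr rsR rsR_rsR pr_rsR pr_surjective exists_cover_affine coeff_eq_of_combS_eq)
open Groth.Agent.FTorsLib.QCT

variable {𝔛 𝔜 : FSch.Sys.{u}} {h : 𝔛.IsFormal} {h' : 𝔜.IsFormal} (hN : 𝔛.IsLocNoethFormal)
  (hN' : 𝔜.IsLocNoethFormal) (f : 𝔛 ⟶ 𝔜)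

/-- The preimage of an open. -/
abbrev pre (U : (𝔜.X 0).Opens) : (𝔛.X 0).Opens := (f : FSch.Hom 𝔛 𝔜).app 0 ⁻¹ᵁ U

variable (h h') in
/-- The map of rings of sections. -/
noncomputable def fsh (U : (𝔜.X 0).Opens) : Rg h' U →+* Rg h (pre f U) :=
  ((FSch.Hom.sharp f h h').hom.app (op U)).hom

theorem pr_fsh (n : ℕ) (U : (𝔜.X 0).Opens) (a : Rg h' U) :
    pr h n (pre f U) (fsh h h' f U a) = (((f : FSch.Hom 𝔛 𝔜).app n).appLE (𝔜.lvU h' n U) (𝔛.lvU h n (pre f U))
      (FSch.Hom.lvU_preimage f h h' n U).ge).hom (pr h' n U a) :=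
  congrArg (fun t => t.hom.app (op U) a) (FSch.Hom.sharp_proj f h h' n)

include hN in
/-- The levels of a Noetherian formal scheme are Noetherian. -/
theorem isNoetherian_level [CompactSpace (𝔛.X 0)] (n : ℕ) : IsNoetherian (𝔛.X n) := by
  haveI := hN.2.2 n
  haveI : CompactSpace (𝔛.X n) := (𝔛.levelHomeo hN.1 n).compactSpace
  exact {}

include hN in
/-- A torsion section is killed by one open ideal. -/
theorem exists_killedBy [CompactSpace (𝔛.X 0)] {M : FSch.ModF 𝔛 h} (hM : FTors.IsTorsF 𝔛 h M) {U : (𝔛.X 0).Opens}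
    (s : sect M U) : ∃ n, FTors.KilledBy (FTors.openIdealFam 𝔛 h) M n s := by
  classical
  choose V g hg hx using fun x : (U : Set (𝔛.X 0)) => hM U s x.1 x.2
  choose n hn using hg
  obtain ⟨t, ht⟩ := (isCompact_open hN U).elim_finite_subcover
    (fun x : (U : Set (𝔛.X 0)) => (V x : Set (𝔛.X 0))) (fun x => (V x).2)
    (fun y hy => Set.mem_iUnion.2 ⟨⟨y, hy⟩, hx _⟩)
  refine ⟨t.sup n, killedBy_of_cover (S := ⟨fun P _ => ∃ x ∈ t, P ≤ V x,
    fun {P Q} g' ⟨x, hxt, hP⟩ h => ⟨x, hxt, h.le.trans hP⟩⟩) ?_ fun P gP ⟨x, hxt, hP⟩ => ?_⟩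
  · intro p hp
    obtain ⟨x, hxt, hpx⟩ := Set.mem_iUnion₂.1 (ht hp)
    exact ⟨U ⊓ V x, homOfLE inf_le_left, ⟨x, hxt, inf_le_right⟩, hp, hpx⟩
  · rw [Subsingleton.elim gP (homOfLE hP ≫ g x), map_val_comp]
    exact ((hn x).mono (Finset.le_sup hxt)).res (homOfLE hP)

theorem killedBy_sum {M : FSch.ModF 𝔛 h} {n m : ℕ} {U : (𝔛.X 0).Opens} (c : Fin m → Rg h U) (x : Fin m → sect M U)
    (hx : ∀ i, FTors.KilledBy (FTors.openIdealFam 𝔛 h) M n (x i)) :
    FTors.KilledBy (FTors.openIdealFam 𝔛 h) M n (∑ i, c i • x i) := fun V g q hq => by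
  change q • rs M g (∑ i, c i • x i) = 0
  rw [map_sum, Finset.smul_sum]
  refine Finset.sum_eq_zero fun i _ => ?_
  rw [map_val_smul, smul_smul, mul_comm, mul_smul]
  exact (congrArg (_ • ·) (hx i g q hq)).trans (smul_zero _)

include hN in
theorem exists_killedBy_fin [CompactSpace (𝔛.X 0)] {M : FSch.ModF 𝔛 h} (hM : FTors.IsTorsF 𝔛 h M) {m : ℕ}
    {U : (𝔛.X 0).Opens} (s : Fin m → sect M U) :
    ∃ n, ∀ i, FTors.KilledBy (FTors.openIdealFam 𝔛 h) M n (s i) := by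
  choose n hn using fun i => exists_killedBy hN hM (s i)
  exact ⟨Finset.univ.sup n, fun i => (hn i).mono (Finset.le_sup (Finset.mem_univ i))⟩

include hN in
/-- Localization of the sections killed by an open ideal. -/
theorem localizing [CompactSpace (𝔛.X 0)] {M : FSch.ModF 𝔛 h}
    [SheafOfModules.IsQuasicoherent (R := ringSh (𝔛.Osh h)) M] (n : ℕ) {Ω V : (𝔛.X 0).Opens} (hV : V ≤ Ω)
    (g : Rg h Ω) (e : 𝔛.lvU h n V = (𝔛.X n).basicOpen (pr h n Ω g)) :
    (∀ x : sect M V, FTors.KilledBy (FTors.openIdealFam 𝔛 h) M n x →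
      ∃ (k : ℕ) (s : sect M Ω), rs M (homOfLE hV) s = rsR h hV g ^ k • x) ∧
    ∀ s : sect M Ω, FTors.KilledBy (FTors.openIdealFam 𝔛 h) M n s → rs M (homOfLE hV) s = 0 →
      ∃ k : ℕ, g ^ k • s = 0 := by
  haveI := isQuasicoherent_killed hN n M
  haveI := isIso_unit_killed hN n (killed n M) fun U x => killedBy_killed x
  let F := FSch.levelMor 𝔛 h n
  let η := F.adj.unit.app (killed n M)
  let G : (𝔛.X n).Modules := F.pull.obj (killed n M)
  haveI : SheafOfModules.IsQuasicoherent.{u} G := LocPres.isQuasicoherent_pull F (killed n M)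
  haveI := isNoetherian_level hN (𝔛 := 𝔛) n
  have hc : IsCompact (𝔛.lvU h n Ω : Set (𝔛.X n)) := NoetherianSpace.isCompact _
  have H := Groth.Agent.QCoh.isLocalizingAt_of_isCompact G hc (pr h n Ω g)
  have hres : ∀ s : sect (killed n M) Ω, appS η V (rs (killed n M) (homOfLE hV) s) =
      rs (O := (𝔛.X n).sheaf) G (F.fn.map (homOfLE hV)) (appS η Ω s) := fun s => appS_res η _ s
  constructor
  · intro x hx
    obtain ⟨x', rfl⟩ := exists_killed hx
    obtain ⟨k, t, ht⟩ := H.surj (Groth.Agent.QCoh.res G e.ge (appS η V x'))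
    refine ⟨k, appS (killedι n M) Ω (appS (inv η) Ω t), ?_⟩
    rw [← appS_res]
    refine (congrArg (appS (killedι n M) V) ?_).trans (map_smul _ _ _)
    refine appS_injective η V ?_
    rw [hres, map_smul, ← appS_comp, IsIso.inv_hom_id]
    have h2 := congrArg (Groth.Agent.QCoh.res G e.le) ht
    rw [Groth.Agent.QCoh.res_res, Groth.Agent.QCoh.res_smul, map_pow, Groth.Agent.QCoh.rres_rres,
      Groth.Agent.QCoh.res_res, Groth.Agent.QCoh.res_self] at h2
    refine h2.trans ?_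
    show @Eq Γ(G, 𝔛.lvU h n V) _ (pr h n V (rsR h hV g ^ k) • (show Γ(G, 𝔛.lvU h n V) from appS η V x'))
    rw [map_pow, pr_rsR]
    rfl
  · intro s hs h0
    obtain ⟨s', rfl⟩ := exists_killed hs
    have h1 : rs (killed n M) (homOfLE hV) s' = 0 :=
      appS_injective (killedι n M) V ((appS_res _ _ _).trans (h0.trans (map_zero _).symm))
    have h2 : rs (O := (𝔛.X n).sheaf) G (F.fn.map (homOfLE hV)) (appS η Ω s') = 0 := by
      rw [← hres, h1, map_zero]
      rfl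
    obtain ⟨k, hk⟩ := H.eq_zero (appS η Ω s') (by
      have h3 := congrArg (Groth.Agent.QCoh.res G e.ge) h2
      exact (Groth.Agent.QCoh.res_res G _ _ _).symm.trans (h3.trans (map_zero _)))
    refine ⟨k, ?_⟩
    rw [← map_smul]
    refine (congrArg _ (appS_injective η Ω ?_)).trans (map_zero _)
    rw [map_smul, map_zero]
    refine Eq.trans ?_ hk
    show @Eq Γ(G, 𝔛.lvU h n Ω) (pr h n Ω (g ^ k) • (show Γ(G, 𝔛.lvU h n Ω) from appS η Ω s')) _
    rw [map_pow]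

include hN' in
/-- Basic opens of an affine open, through a level. -/
theorem exists_basic (n : ℕ) {W T : (𝔜.X 0).Opens} (hW : IsAffineOpen W) (hTW : T ≤ W) {y : 𝔜.X 0} (hy : y ∈ T) :
    ∃ (a : Rg h' W) (V : (𝔜.X 0).Opens), IsAffineOpen V ∧ y ∈ V ∧ V ≤ T ∧
      𝔜.lvU h' n V = (𝔜.X n).basicOpen (pr h' n W a) := by
  have hWn := Groth.Agent.FFormal.isAffineOpen_lvU h' n hW
  obtain ⟨t, ht, hyt⟩ := hWn.exists_basicOpen_le (V := 𝔜.lvU h' n T) ⟨_, toX_mem_lvU n hy⟩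
    (toX_mem_lvU n (hTW hy))
  obtain ⟨a, rfl⟩ := pr_surjective h' hN' hW n t
  let V : (𝔜.X 0).Opens := 𝔜.toX n ⁻¹ᵁ (𝔜.X n).basicOpen (pr h' n W a)
  have hl : 𝔜.lvU h' n V = (𝔜.X n).basicOpen (pr h' n W a) := by
    ext z
    have h2 : (𝔜.toX n).base (𝔜.gInv h' n z) = z := ConcreteCategory.congr_hom (𝔜.gInv_toX_base h' n) z
    show (𝔜.toX n).base (𝔜.gInv h' n z) ∈ (𝔜.X n).basicOpen (pr h' n W a) ↔ _
    rw [h2]
    rfl
  have hpre : 𝔜.toX n ⁻¹ᵁ 𝔜.lvU h' n W = W := by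
    ext z
    show 𝔜.gInv h' n ((𝔜.toX n).base z) ∈ W ↔ _
    rw [show 𝔜.gInv h' n ((𝔜.toX n).base z) = z from ConcreteCategory.congr_hom (𝔜.toX_base_gInv h' n) z]
    rfl
  refine ⟨a, V, ?_, hyt, le_of_lvU_le n (hl.le.trans ht), hl⟩
  show IsAffineOpen (𝔜.toX n ⁻¹ᵁ (𝔜.X n).basicOpen (pr h' n W a))
  rw [Scheme.preimage_basicOpen]
  exact (hpre.symm ▸ hW).basicOpen _

theorem lvU_pre_basic (n : ℕ) {W V : (𝔜.X 0).Opens} (a : Rg h' W)
    (e : 𝔜.lvU h' n V = (𝔜.X n).basicOpen (pr h' n W a)) :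
    𝔛.lvU h n (pre f V) = (𝔛.X n).basicOpen (pr h n (pre f W) (fsh h h' f W a)) := by
  rw [← FSch.Hom.lvU_preimage f h h' n V, e, Scheme.preimage_basicOpen, pr_fsh]
  show _ = (𝔛.X n).basicOpen
    (((𝔛.X n).presheaf.map (homOfLE (FSch.Hom.lvU_preimage f h h' n W).ge).op).hom
      ((((f : FSch.Hom 𝔛 𝔜).app n).app (𝔜.lvU h' n W)).hom (pr h' n W a)))
  rw [Scheme.basicOpen_res]
  exact (inf_eq_right.2 (((𝔛.X n).basicOpen_le _).trans (FSch.Hom.lvU_preimage f h h' n W).le)).symm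

theorem killedBy_push {M : FSch.ModF 𝔛 h} {n : ℕ} {U : (𝔜.X 0).Opens} (x : sect ((FSch.pushF f h h').obj M) U)
    (hx : FTors.KilledBy (FTors.openIdealFam 𝔛 h) M n (show sect M (pre f U) from x)) :
    FTors.KilledBy (FTors.openIdealFam 𝔜 h') ((FSch.pushF f h h').obj M) n x := fun W g a ha =>
  hx ((Opens.map ((f : FSch.Hom 𝔛 𝔜).app 0).base).map g) (fsh h h' f W a)
    (show fsh h h' f W a ∈ RingHom.ker (pr h n (pre f W)) by
      rw [RingHom.mem_ker, pr_fsh, show pr h' n W a = 0 from RingHom.mem_ker.1 ha, map_zero])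

include hN in
/-- Direct images of torsion modules are torsion. -/
theorem isTors_pushF [CompactSpace (𝔛.X 0)] {M : FSch.ModF 𝔛 h} (hM : FTors.IsTorsF 𝔛 h M) :
    FTors.IsTorsF 𝔜 h' ((FSch.pushF f h h').obj M) := fun U x =>
  (exists_killedBy hN hM (U := pre f U) x).elim fun _ hn => FTors.IsTorsSect.of_killedBy (killedBy_push f x hn)

end Groth.Agent.FTorsLib.QCTPush
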