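import Groth.Agent.FFormal.IndQCoh
import Groth.Agent.FFormal.FT
import Groth.Agent.FTorsLib.Torsion

/-!
# Submodules of quasi-coherent modules on a locally Noetherian formal scheme
-/

set_option autoImplicit false
set_option linter.style.haveILetI false
set_option backward.isDefEq.respectTransparency.types false

universe u

open CategoryTheory CategoryTheory.Limits AlgebraicGeometry Opposite TopologicalSpace ModSite

namespace Groth.Agent.FTorsLib.QCT

open Groth.Agent.ModFlat (rs map_val_smul map_val_comp map_ring_comp)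
open Groth.Agent.PullFlat (appS appS_res appS_comp appS_injective rs_id exists_cover_bind eq_zero_of_locally)
open Groth.Agent.LocPres
open Groth.Agent.FFormal (Rg pr rsR rsR_rsR exists_cover_affine exists_combS_eq coeff_eq_of_combS_eq exists_system_gens)

variable {𝔛 : FSch.Sys.{u}} {h : 𝔛.IsFormal}

/-- Restriction of coefficient vectors. -/
noncomputable abbrev mR {I : Type u} {V T : (𝔛.X 0).Opens} (g : V ⟶ T) (c : I →₀ Rg h T) : I →₀ Rg h V :=
  c.mapRange ((𝔛.Osh h).obj.map g.op).hom (map_zero _)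

theorem combS_mR {I : Type u} {M : FSch.ModF 𝔛 h} {W T : (𝔛.X 0).Opens} (s : I → sect M W) (a : T ⟶ W)
    (v : I →₀ Rg h W) : combS s a (mR a v) = rs M a (combS s (𝟙 W) v) := by
  rw [combS_res, Category.comp_id]

variable (hN : 𝔛.IsLocNoethFormal)

include hN in
/-- Linear relations between finitely many combinations of the generators of a presentation are generated by
finitely many on an affine open. -/
theorem exists_rel_gens_gPres {M : FSch.ModF 𝔛 h} {W : (𝔛.X 0).Opens} (hW : IsAffineOpen W)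
    (P : GPres (O := 𝔛.Osh h) M W) {r n : ℕ} (b : Fin r → Fin n → (P.I →₀ Rg h W)) :
    ∃ (q : ℕ) (e : Fin q → Fin n → Rg h W), (∀ l j, combS P.s (𝟙 W) (∑ i, e l i • b j i) = 0) ∧
      ∀ {T : (𝔛.X 0).Opens} (a : T ⟶ W) (c : Fin n → Rg h T),
        (∀ j, combS P.s a (∑ i, c i • mR a (b j i)) = 0) →
        ∃ S ∈ Opens.grothendieckTopology (𝔛.X 0) T, ∀ ⦃V : (𝔛.X 0).Opens⦄ (g : V ⟶ T), S g →
          ∃ d : Fin q → Rg h V, ∀ i, rsR h g.le (c i) = ∑ l, d l * rsR h (g ≫ a).le (e l i) := by
  classical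
  haveI := Groth.Agent.FFormal.isNoetherianRing h hN hW
  choose w hw using fun k => exists_combS_eq hW.isCompact P.tgen P.tindep (P.z k)
  let N : Submodule (Rg h W) (P.I →₀ Rg h W) := Submodule.span (Rg h W) (Set.range w)
  have hker : N ≤ LinearMap.ker (combS P.s (𝟙 W)) := by
    rw [Submodule.span_le]
    rintro _ ⟨k, rfl⟩
    exact P.vanish (𝟙 W) (w k) k ((hw k).trans (rs_id _ _ _).symm)
  let K : Submodule (Rg h W) (Fin n → Rg h W) := ⨅ j, Submodule.comap (Fintype.linearCombination (Rg h W) (b j)) N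
  have hmemK : ∀ v, v ∈ K ↔ ∀ j, ∑ i, v i • b j i ∈ N := fun v => by
    simp only [K, Submodule.mem_iInf, Submodule.mem_comap, Fintype.linearCombination_apply]
  obtain ⟨q, e, he⟩ := Submodule.fg_iff_exists_fin_generating_family.1 (IsNoetherian.noetherian K)
  refine ⟨q, e, fun l j => hker ((hmemK _).1 (he ▸ Submodule.subset_span ⟨l, rfl⟩) j), fun {T} a c hc => ?_⟩
  obtain ⟨S, hS, hS'⟩ := exists_cover_forall
    (fun (j : Fin r) (V : (𝔛.X 0).Opens) (g : V ⟶ T) => ∃ d : P.K →₀ Rg h V,
      combS P.z (g ≫ a) d = rs P.G g (combS P.t a (∑ i, c i • mR a (b j i))))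
    (fun j => P.gen a _ (hc j))
  refine exists_cover_bind (fun V g => ∃ d : Fin q → Rg h V,
    ∀ i, rsR h g.le (c i) = ∑ l, d l * rsR h (g ≫ a).le (e l i)) hS fun V g hg => ?_
  choose d hd using hS' g hg
  have hcoef : ∀ j, mR g (∑ i, c i • mR a (b j i)) = ∑ k ∈ (d j).support, d j k • mR (g ≫ a) (w k) := fun j => by
    refine coeff_eq_of_combS_eq P.tindep (g ≫ a) ?_
    rw [← combS_res, ← hd j, map_sum]
    refine (Finsupp.linearCombination_apply _ (d j)).trans (Finset.sum_congr rfl fun k _ => ?_)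
    rw [map_smul, combS_mR, hw]
  let L : Finset P.K := Finset.univ.biUnion fun j => (d j).support
  let J : Finset P.I := L.biUnion (fun k => (w k).support) ∪
    Finset.univ.biUnion fun p : Fin r × Fin n => (b p.1 p.2).support
  let ep := Fintype.equivFin (Fin r × J)
  let em := Fintype.equivFin (Fin r × L)
  obtain ⟨q', e', he', hsol⟩ := exists_system_gens hN hW
    (fun (i : Fin n) p => b (ep.symm p).1 i (ep.symm p).2)
    (fun m p => if (em.symm m).1 = (ep.symm p).1 then w (em.symm m).2 (ep.symm p).2 else 0)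
  have hK : ∀ l, e' l ∈ K := fun l => by
    obtain ⟨b0, hb0⟩ := he' l
    refine (hmemK _).2 fun j => ?_
    have h1 : ∑ i, e' l i • b j i = ∑ k : L, b0 (em (j, k)) • w k := Finsupp.ext fun x => by
      simp only [Finsupp.finsetSum_apply, Finsupp.smul_apply, smul_eq_mul]
      by_cases hx : x ∈ J
      · have h2 := hb0 (ep (j, ⟨x, hx⟩))
        simp only [Equiv.symm_apply_apply] at h2
        rw [h2, ← em.sum_comp]
        simp only [Equiv.symm_apply_apply]
        rw [Fintype.sum_prod_type]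
        simp [Finset.sum_ite_eq', mul_ite]
      · simp only [J, Finset.mem_union, Finset.mem_biUnion, Finset.mem_univ, true_and, not_or, not_exists,
          not_and, Finsupp.notMem_support_iff] at hx
        rw [Finset.sum_eq_zero fun i _ => by rw [hx.2 (j, i), mul_zero],
          Finset.sum_eq_zero fun (k : L) _ => by rw [hx.1 k k.2, mul_zero]]
    rw [h1]
    exact sum_mem fun k _ => N.smul_mem _ (Submodule.subset_span ⟨_, rfl⟩)
  obtain ⟨S₂, hS₂, hS₂'⟩ := hsol (g ≫ a).le (fun i => rsR h g.le (c i)) (fun m => d (em.symm m).1 (em.symm m).2)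
    fun p => by
      have h1 := congrArg (fun v : P.I →₀ Rg h V => v ((ep.symm p).2 : P.I)) (hcoef (ep.symm p).1)
      simp only [Finsupp.mapRange_apply, Finsupp.finsetSum_apply, Finsupp.smul_apply, smul_eq_mul, map_sum,
        map_mul] at h1
      refine Eq.trans (Finset.sum_congr rfl fun i _ => congrArg (_ * ·) (rsR_rsR g.le a.le _).symm)
        (h1.trans ?_)
      rw [← em.sum_comp]
      simp only [Equiv.symm_apply_apply]
      rw [Fintype.sum_prod_type]
      simp only [apply_ite (rsR h (g ≫ a).le), map_zero, mul_ite, mul_zero]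
      rw [Finset.sum_comm]
      simp only [Finset.sum_ite_eq', Finset.mem_univ, if_true]
      rw [Finset.sum_coe_sort L fun k => d (ep.symm p).1 k * rsR h (g ≫ a).le (w k (ep.symm p).2)]
      exact Finset.sum_subset (Finset.subset_biUnion_of_mem (fun j => (d j).support) (Finset.mem_univ _))
        fun k _ hk => by rw [Finsupp.notMem_support_iff.1 hk, zero_mul]
  refine ⟨S₂, hS₂, fun V₂ g₂ hg₂ => ?_⟩
  obtain ⟨d', hd'⟩ := hS₂' g₂ hg₂
  choose u hu using fun l => Submodule.mem_span_range_iff_exists_fun _ |>.1 (he.symm ▸ hK l)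
  refine ⟨fun p => ∑ l, d' l * rsR h (g₂ ≫ g ≫ a).le (u l p), fun i => ?_⟩
  have h3 := hd' i
  rw [rsR_rsR] at h3
  refine h3.trans ?_
  simp only [← hu, Finset.sum_apply, Pi.smul_apply, smul_eq_mul, map_sum, map_mul, Finset.mul_sum, Finset.sum_mul,
    mul_assoc]
  rw [Finset.sum_comm]

theorem combS_embDomain {I' : Type u} {M : FSch.ModF 𝔛 h} {W T : (𝔛.X 0).Opens} (s : I' → sect M W) (a : T ⟶ W)
    {n : ℕ} (emb : Fin n → I') (d : Fin n → Rg h T) :
    combS s a (∑ i, Finsupp.single (emb i) (d i)) = ∑ i, d i • rs M a (s (emb i)) :=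
  (map_sum _ _ _).trans (Finset.sum_congr rfl fun _ _ => combS_single s _ _ _)

theorem exists_fin_support {I' : Type u} {T : (𝔛.X 0).Opens} (d : I' →₀ Rg h T) :
    ∃ (n : ℕ) (emb : Fin n → I'), d = ∑ i, Finsupp.single (emb i) (d (emb i)) := by
  let e : Fin d.support.card ≃ d.support := d.support.equivFin.symm
  refine ⟨_, fun i => (e i).1, d.sum_single.symm.trans ?_⟩
  rw [Finsupp.sum, ← Finset.sum_coe_sort, ← e.sum_comp]

include hN in
/-- A submodule generated by combinations of the generators of a presentation is presented. -/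
theorem nonempty_gPres_sub {G M : FSch.ModF 𝔛 h} (ι : G ⟶ M) [Mono ι] {W : (𝔛.X 0).Opens} (hW : IsAffineOpen W)
    (P : GPres (O := 𝔛.Osh h) M W) {I' : Type u} (y : I' → sect G W) (hy : IsGen y)
    (b : I' → (P.I →₀ Rg h W)) (hb : ∀ i, combS P.s (𝟙 W) (b i) = appS ι W (y i)) :
    Nonempty (GPres (O := 𝔛.Osh h) G W) := by
  classical
  let t := freeT (𝔛.Osh h) W I'
  let κ₀ := {k : I' →₀ Rg h W // combS y (𝟙 W) k = 0}
  let z : κ₀ → sect (SheafOfModules.free (R := ringSh (𝔛.Osh h)) I' : Mod (𝔛.Osh h)) W :=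
    fun k => combS t (𝟙 W) k.1
  have hz : ∀ ⦃T : (𝔛.X 0).Opens⦄ (a : T ⟶ W) (k : κ₀), rs _ a (z k) = combS t a (mR a k.1) := fun T a k =>
    (combS_mR t a k.1).symm
  refine ⟨{ G := _, I := I', K := κ₀, t := t, s := y, z := z, tgen := isGen_freeT, tindep := isIndep_freeT,
            sgen := hy, vanish := fun T a d k hd => ?_, gen := fun T a d hd => ?_ }⟩
  · rw [hz] at hd
    rw [coeff_eq_of_combS_eq isIndep_freeT a hd, combS_mR, k.2, map_zero]
  · obtain ⟨n, emb, hdd⟩ := exists_fin_support d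
    obtain ⟨q, e, he, hsol⟩ := exists_rel_gens_gPres hN hW P (fun _ : Fin 1 => fun i => b (emb i))
    have hk : ∀ l, combS y (𝟙 W) (∑ i, Finsupp.single (emb i) (e l i)) = 0 := fun l => by
      refine appS_injective ι W (Eq.trans ?_ ((he l 0).trans (map_zero _).symm))
      rw [combS_embDomain, appS_sum_smul, map_sum]
      refine Finset.sum_congr rfl fun i _ => ?_
      rw [map_smul, hb, rs_id]
    obtain ⟨S, hS, hS'⟩ := hsol a (fun i => d (emb i)) fun _ => by
      have h1 := congrArg (appS ι T) hd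
      rw [hdd, combS_embDomain, appS_sum_smul, map_zero] at h1
      refine Eq.trans ?_ h1
      rw [map_sum]
      refine Finset.sum_congr rfl fun i _ => ?_
      rw [map_smul, combS_mR, hb, appS_res]
    refine ⟨S, hS, fun V g hg => ?_⟩
    obtain ⟨c, hc⟩ := hS' g hg
    refine ⟨∑ l, Finsupp.single (⟨_, hk l⟩ : κ₀) (c l), ?_⟩
    rw [combS_embDomain, combS_res]
    refine Eq.trans (Finset.sum_congr rfl fun l _ =>
      (congrArg (c l • ·) (hz _ _)).trans (map_smul _ _ _).symm) ?_
    rw [← map_sum]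
    refine congrArg (combS t (g ≫ a)) ?_
    conv_rhs => rw [hdd]
    ext p
    simp only [mR, Finsupp.finsetSum_apply, Finsupp.smul_apply, Finsupp.mapRange_apply, Finsupp.single_apply, map_sum,
      apply_ite ((𝔛.Osh h).obj.map (g ≫ a).op).hom, apply_ite ((𝔛.Osh h).obj.map g.op).hom, map_zero, smul_eq_mul,
      Finset.mul_sum, mul_ite, mul_zero]
    rw [Finset.sum_comm]
    refine Finset.sum_congr rfl fun i _ => ?_
    split_ifs with hp
    · exact (hc i).symm
    · exact Finset.sum_const_zero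

include hN in
/-- A submodule of finite type of a quasi-coherent module is coherent. -/
theorem isCohF_of_mono_qc {G M : FSch.ModF 𝔛 h} (ι : G ⟶ M) [Mono ι]
    [SheafOfModules.IsFiniteType (R := ringSh (𝔛.Osh h)) G]
    [SheafOfModules.IsQuasicoherent (R := ringSh (𝔛.Osh h)) M] : FSch.IsCohF 𝔛 h G := by
  haveI : SheafOfModules.IsQuasicoherent (R := ringSh (𝔛.Osh h)) G := by
    refine isQuasicoherent_of_cover fun U => ?_
    obtain ⟨S₁, hS₁, hS₁'⟩ := exists_cover_gPres M U
    obtain ⟨S₂, hS₂, hS₂'⟩ := exists_cover_locGen G U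
    refine exists_cover_bind (fun V _ => Nonempty (GPres (O := 𝔛.Osh h) G V))
      ((Opens.grothendieckTopology (𝔛.X 0)).intersection_covering hS₁ hS₂) fun V g hg => ?_
    obtain ⟨P⟩ := hS₁' g hg.1
    obtain ⟨Q⟩ := hS₂' g hg.2
    obtain ⟨S, hS, hS'⟩ := exists_cover_forall
      (fun (i : Fin Q.n) (V' : (𝔛.X 0).Opens) (g' : V' ⟶ V) => ∃ c : P.I →₀ Rg h V',
        combS P.s (g' ≫ 𝟙 V) c = rs M g' (appS ι V (Q.s i)))
      (fun i => P.sgen (𝟙 V) (appS ι V (Q.s i)))
    refine exists_cover_bind (fun V' _ => Nonempty (GPres (O := 𝔛.Osh h) G V')) hS fun V' g' hg' => ?_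
    choose c hc using hS' g' hg'
    obtain ⟨S₃, hS₃, hS₃'⟩ := exists_cover_affine (𝔛 := 𝔛) V'
    refine ⟨S₃, hS₃, fun V'' g'' hg'' => ?_⟩
    obtain ⟨W, hVW, hWV, hW⟩ := hS₃' g'' hg''
    let p : W ⟶ V := homOfLE hWV ≫ g'
    let Q' := Q.restrict p
    refine (nonempty_gPres_sub hN ι hW (P.restrict p) (fun i : ULift.{u} (Fin Q.n) => rs G p (Q.s i.down))
      Q'.isGen (fun i => mR (homOfLE hWV) (c i.down)) fun i => ?_).map fun R => R.restrict (homOfLE hVW)
    refine (combS_rs P.s p (𝟙 W) _).trans ?_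
    rw [Category.id_comp, ← Category.comp_id p, Category.assoc]
    refine (combS_res P.s (homOfLE hWV) (g' ≫ 𝟙 V) (c i.down)).symm.trans ?_
    rw [hc]
    exact ((map_val_comp _ _ _).symm.trans ((appS_res ι _ _).symm.trans
      (congrArg (fun q => appS ι W (rs G q (Q.s i.down))) (Subsingleton.elim _ _))))
  exact Groth.Agent.FFormal.isCohF_of_qcoh_of_ft hN G

include hN in
/-- The kernel of a morphism from a coherent module to a quasi-coherent one is coherent. -/
theorem isCohF_kernel_to_qc {C M : FSch.ModF 𝔛 h} (φ : C ⟶ M) (hC : FSch.IsCohF 𝔛 h C)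
    [SheafOfModules.IsQuasicoherent (R := ringSh (𝔛.Osh h)) M] : FSch.IsCohF 𝔛 h (kernel φ) := by
  haveI : SheafOfModules.IsFinitePresentation (R := ringSh (𝔛.Osh h)) C := hC
  let π : C ⟶ Abelian.coimage φ := Abelian.coimage.π φ
  haveI : SheafOfModules.IsFiniteType (R := ringSh (𝔛.Osh h)) (Abelian.coimage φ) :=
    Groth.Agent.FFormal.isFiniteType_of_epi π
  have hI : FSch.IsCohF 𝔛 h (Abelian.coimage φ) := isCohF_of_mono_qc hN (Abelian.factorThruCoimage φ)
  haveI : SheafOfModules.IsFinitePresentation (R := ringSh (𝔛.Osh h)) (Abelian.coimage φ) := hI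
  haveI := isFiniteType_kernel π
  have h1 := Groth.Agent.FFormal.isCohF_of_mono hN (kernel.ι π) hC
  have e : kernel π ≅ kernel φ :=
    (kernelCompMono π (Abelian.factorThruCoimage φ)).symm ≪≫ kernelIsoOfEq (Abelian.coimage.fac φ)
  exact IndCoh.isFinitePresentation_of_iso e h1

end Groth.Agent.FTorsLib.QCT
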