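import Groth.Agent.FTorsLib.Derived
import Groth.Prelude.Def_WeakSerre

/-!
# The derived torsion functor on K-injective complexes
-/

set_option autoImplicit false
set_option backward.isDefEq.respectTransparency.types false

universe u

open CategoryTheory CategoryTheory.Limits Opposite ModSite DerivedCategory

namespace Groth.Agent.FTorsLib

attribute [local instance] HasDerivedCategory.standard

open Groth.Agent.KFlat

section

variable {C : Type u} [SmallCategory C] {J : GrothendieckTopology C} {O : Sheaf J CommRingCat.{u}}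
  (I : FTors.IdealFam O) [FTors.HasRgamma I]

/-- The torsion subcomplex. -/
noncomputable abbrev gammaCx (K : CochainComplex (Mod O) ℤ) : CochainComplex (Mod O) ℤ :=
  ((FTors.gamma O I).mapHomologicalComplex (ComplexShape.up ℤ)).obj K

/-- Its inclusion. -/
noncomputable abbrev gammaInc (K : CochainComplex (Mod O) ℤ) : gammaCx I K ⟶ K :=
  (NatTrans.mapHomologicalComplex (FTors.gammaι I) (ComplexShape.up ℤ)).app K ≫
    (Functor.mapHomologicalComplexIdIso (Mod O) (ComplexShape.up ℤ)).hom.app K

/-- `RΓ` of a K-injective complex is computed termwise, compatibly with the map to the identity. -/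
theorem exists_rgamma_iso (K : CochainComplex (Mod O) ℤ) [K.IsKInjective] :
    ∃ e : Q.obj (gammaCx I K) ≅ (FTors.Rgamma I).obj (Q.obj K),
      e.hom ≫ (FTors.Rgammaε I).app (Q.obj K) = Q.map (gammaInc I K) := by
  let W := HomotopyCategory.quasiIso (Mod O) (ComplexShape.up ℤ)
  let P := (HomotopyCategory.quotient (Mod O) (ComplexShape.up ℤ)).obj K
  let α := (FTors.gammaKh I).totalRightDerivedUnit DerivedCategory.Qh W
  let κ := quotientCompQhIso (Mod O)
  haveI : IsIso (α.app P) := DTrunc.RightDerived.HasEnough.isIso_app (W := W) _ α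
    (DTrunc.RightDerived.hasEnough (FTors.gammaKh I)) (DTrunc.RightDerived.isGood_quotient _ K)
  let e₀ : (FTors.gammaKh I).obj P ≅ Q.obj (gammaCx I K) :=
    Qh.mapIso (((FTors.gamma O I).mapHomotopyCategoryFactors (ComplexShape.up ℤ)).app K) ≪≫
      κ.app (gammaCx I K)
  have hτ : (FTors.gammaτ I).app P ≫ κ.hom.app K = e₀.hom ≫ Q.map (gammaInc I K) := by
    change (FTors.gammaτ0 I).app K ≫ κ.hom.app K = _
    simp only [e₀, Iso.trans_hom, Functor.mapIso_hom, Iso.app_hom, Category.assoc]
    rw [← κ.hom.naturality (gammaInc I K)]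
    simp [FTors.gammaτ0, Category.assoc]
  refine ⟨e₀.symm ≪≫ asIso (α.app P) ≪≫ (FTors.Rgamma I).mapIso (κ.app K), ?_⟩
  have hfac : α.app P ≫ (FTors.Rgammaε I).app (Qh.obj P) = (FTors.gammaτ I).app P := by
    refine ((FTors.Rgamma I).rightDerived_fac_app α W (𝟭 _) (FTors.gammaτ I ≫ (Functor.rightUnitor _).inv) P).trans ?_
    simp
  simp only [Iso.trans_hom, Iso.symm_hom, asIso_hom, Functor.mapIso_hom, Category.assoc]
  rw [Iso.inv_comp_eq]
  refine (congrArg (α.app P ≫ ·) ((FTors.Rgammaε I).naturality (κ.app K).hom)).trans ?_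
  exact (Category.assoc _ _ _).symm.trans ((congrArg (· ≫ (κ.app K).hom) hfac).trans hτ)

end

section

variable {C : Type u} [SmallCategory C] {J : GrothendieckTopology C} {O : Sheaf J CommRingCat.{u}}
  {I : FTors.IdealFam O}

instance closedUnderFiniteProducts_isTors [WSerre.IsWeakSerre (FTors.IsTors I)] :
    (FTors.IsTors I).IsClosedUnderFiniteProducts :=
  inferInstance

/-- Composing with the counit identifies maps in the torsion derived category with maps into a K-injective complex. -/
theorem bijective_counit [WSerre.IsWeakSerre (FTors.IsTors I)] (X : CochainComplex (FTors.IsTors I).FullSubcategory ℤ)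
    (K : CochainComplex (Mod O) ℤ) [K.IsKInjective] :
    Function.Bijective (fun a : Q.obj X ⟶ Q.obj (((coreflect I).mapHomologicalComplex (ComplexShape.up ℤ)).obj K) =>
      (WSerre.toDerived (FTors.IsTors I)).map a ≫
        (FTors.IsTors I).ι.mapDerivedCategoryFactors.hom.app _ ≫
          Q.map ((CxAdj.mapCx (coreflectAdj I) (ComplexShape.up ℤ)).counit.app K)) := by
  let adjC := CxAdj.mapCx (coreflectAdj I) (ComplexShape.up ℤ)
  let η := (FTors.IsTors I).ι.mapDerivedCategoryFactors
  have := SitePull.SubDerived.isKInjective_right (coreflectAdj I) K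
  have key : ∀ g : X ⟶ ((coreflect I).mapHomologicalComplex (ComplexShape.up ℤ)).obj K,
      (WSerre.toDerived (FTors.IsTors I)).map (Q.map g) ≫ η.hom.app _ ≫ Q.map (adjC.counit.app K) =
        η.hom.app X ≫ Q.map ((adjC.homEquiv X K).symm g) := fun g => by
    have e := η.hom.naturality g
    simp only [Functor.comp_map] at e
    rw [← Category.assoc, e, Category.assoc, ← Functor.map_comp]
    exact congrArg (fun t => _ ≫ Q.map t) (Adjunction.homEquiv_counit adjC X K g).symm
  have : CochainComplex.IsKInjective ((𝟭 (HomologicalComplex (Mod O) (ComplexShape.up ℤ))).obj K) := ‹K.IsKInjective›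
  constructor
  · intro a b hab
    obtain ⟨g, rfl⟩ := DHA.KInj.Q_map_surjective _ _ a
    obtain ⟨g', rfl⟩ := DHA.KInj.Q_map_surjective _ _ b
    simp only at hab
    rw [key g, key g', cancel_epi] at hab
    obtain ⟨k⟩ := DHA.KInj.homotopy_of_Q_map_eq hab
    exact DerivedCategory.Q_map_eq_of_homotopy _ (SitePull.SubDerived.homotopyOfAdjunct (coreflectAdj I) g g' k)
  · intro f
    obtain ⟨k, hk⟩ := DHA.KInj.Q_map_surjective _ _ (η.inv.app X ≫ f)
    refine ⟨Q.map (adjC.homEquiv X K k), ?_⟩
    simp only
    rw [key, Equiv.symm_apply_apply, hk]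
    exact Iso.hom_inv_id_app_assoc η X f

end

end Groth.Agent.FTorsLib
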